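import Groth.Agent.CohCmpLib.LineBundle
import Groth.Agent.AmpleDevLib.Pull
import Groth.Agent.H0Lib.Apply

/-!
Line bundles trivial on all fibres of a proper flat family, and pullbacks from the base.
-/

set_option autoImplicit false
set_option maxRecDepth 8000

noncomputable section

universe u

open CategoryTheory CategoryTheory.Limits AlgebraicGeometry TopologicalSpace Opposite

namespace CohCmpLib

variable {X S X' S' : Scheme.{u}} {f : X ⟶ S} {g : S' ⟶ S} {f' : X' ⟶ S'} {g' : X' ⟶ X}

/-- Line bundles pull back to line bundles. -/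
theorem rank_one_pullback (f : X ⟶ S) {L : S.Modules} (hL : FlatMod.IsFinLocFreeOfRank 1 L) :
    FlatMod.IsFinLocFreeOfRank 1 ((Scheme.Modules.pullback f).obj L) :=
  (invertible_iff_rank_one _).1 (AmpleDevLib.isInvertible_pb f ((invertible_iff_rank_one L).2 hL))

/-- A line bundle on a one-point scheme is trivial. -/
theorem nonempty_iso_structureModule_of_point {X : Scheme.{u}} [Subsingleton X] [Nonempty X] {L : X.Modules}
    (hL : FlatMod.IsFinLocFreeOfRank 1 L) : Nonempty (L ≅ Coh.structureModule X) := by
  obtain ⟨x⟩ := ‹Nonempty X›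
  obtain ⟨U, hU, ⟨e⟩⟩ := (invertible_iff_rank_one L).2 hL x
  have : U = ⊤ := top_le_iff.1 fun z _ => by rwa [Subsingleton.elim z x]
  subst this
  let j : X ⟶ ((⊤ : X.Opens) : Scheme.{u}) := X.topIso.inv
  exact ⟨((Scheme.Modules.pullbackId X).app L).symm ≪≫
    (Scheme.Modules.pullbackCongr (show 𝟙 X = j ≫ (⊤ : X.Opens).ι by simp [j])).app L ≪≫
    ((Scheme.Modules.pullbackComp j (⊤ : X.Opens).ι).app L).symm ≪≫
    (Scheme.Modules.pullback j).mapIso (((Scheme.Modules.restrictFunctorIsoPullback _).app L).symm ≪≫ e) ≪≫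
    KFlatLib.pullUnitIso j⟩

/-- The base change map is natural. -/
theorem bc0_map (w : g' ≫ f = f' ≫ g) {F G : X.Modules} (φ : F ⟶ G) :
    (Scheme.Modules.pullback g).map ((Scheme.Modules.pushforward f).map φ) ≫ CohBC.bc0 f g f' g' w G =
      CohBC.bc0 f g f' g' w F ≫
        (Scheme.Modules.pushforward f').map ((Scheme.Modules.pullback g').map φ) := by
  refine hom_ext_puSec _ _ fun U m => ?_
  have h1 : ((Scheme.Modules.pullback g).map ((Scheme.Modules.pushforward f).map φ)).app (g ⁻¹ᵁ U) (KFlatLib.puSec g m) =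
      KFlatLib.puSec g (((Scheme.Modules.pushforward f).map φ).app U m) :=
    KFlatLib.puSec_natural g _ m
  refine (congrArg ((CohBC.bc0 f g f' g' w G).app (g ⁻¹ᵁ U)) h1).trans ((bc0_puSec w G _).trans ?_)
  refine Eq.trans ?_ (congrArg (((Scheme.Modules.pushforward f').map ((Scheme.Modules.pullback g').map φ)).app (g ⁻¹ᵁ U))
    (bc0_puSec w F m)).symm
  exact (puSecLE_natural g' φ _ m).symm

/-- The base change map and the units. -/
theorem bc0_unitApp (w : g' ≫ f = f' ≫ g) (M : S.Modules) :
    (Scheme.Modules.pullback g).map ((Scheme.Modules.pullbackPushforwardAdjunction f).unit.app M) ≫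
        CohBC.bc0 f g f' g' w ((Scheme.Modules.pullback f).obj M) =
      (Scheme.Modules.pullbackPushforwardAdjunction f').unit.app ((Scheme.Modules.pullback g).obj M) ≫
        (Scheme.Modules.pushforward f').map ((sqIso w).hom.app M) := by
  let a := Scheme.Modules.pullbackPushforwardAdjunction f'
  let η := (Scheme.Modules.pullbackPushforwardAdjunction f).unit.app M
  apply (a.homEquiv _ _).symm.injective
  have hR : (a.homEquiv _ _).symm (a.unit.app ((Scheme.Modules.pullback g).obj M) ≫
      (Scheme.Modules.pushforward f').map ((sqIso w).hom.app M)) = (sqIso w).hom.app M :=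
    (congrArg (a.homEquiv _ _).symm (a.homEquiv_unit _ _ _).symm).trans (Equiv.symm_apply_apply _ _)
  refine Eq.trans ?_ hR.symm
  rw [Adjunction.homEquiv_counit, Functor.map_comp, Category.assoc, bc0_counit w]
  refine ((Category.assoc _ _ _).symm.trans (congrArg (· ≫ (Scheme.Modules.pullback g').map
    ((Scheme.Modules.pullbackPushforwardAdjunction f).counit.app ((Scheme.Modules.pullback f).obj M)))
    ((sqIso w).hom.naturality η))).trans ((Category.assoc _ _ _).trans ?_)
  change (sqIso w).hom.app M ≫ (Scheme.Modules.pullback g').map ((Scheme.Modules.pullback f).map η) ≫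
    (Scheme.Modules.pullback g').map _ = _
  rw [← Functor.map_comp, (Scheme.Modules.pullbackPushforwardAdjunction f).left_triangle_components M]
  exact (congrArg ((sqIso w).hom.app M ≫ ·) ((Scheme.Modules.pullback g').map_id _)).trans (Category.comp_id _)

/-- The counit at a trivial module is onto. -/
theorem epi_counit_of_iso (f : X ⟶ S) {N : X.Modules} (e : N ≅ Coh.structureModule X) :
    Epi ((Scheme.Modules.pullbackPushforwardAdjunction f).counit.app N) := by
  let a := Scheme.Modules.pullbackPushforwardAdjunction f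
  have h : (Scheme.Modules.pullback f).map (ClSub.unitToPush f) ≫ a.counit.app (Coh.structureModule X) =
      (KFlatLib.pullUnitIso f).hom := (a.homEquiv_counit _ _ _).symm
  have h1 : Epi (a.counit.app (Coh.structureModule X)) := epi_of_epi_fac h
  have h2 := a.counit.naturality e.hom
  have h3 : Epi (a.counit.app N ≫ e.hom) := by
    refine h2 ▸ ?_
    exact epi_comp _ _
  exact (epi_comp_iff_of_isIso (a.counit.app N) e.hom).1 h3

/-- The unit at a trivial module is onto, when it is so for `O`. -/
theorem epi_unit_of_iso (f : X ⟶ S) [Epi (ClSub.unitToPush f)] {N : S.Modules} (e : N ≅ Coh.structureModule S) :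
    Epi ((Scheme.Modules.pullbackPushforwardAdjunction f).unit.app N) := by
  let a := Scheme.Modules.pullbackPushforwardAdjunction f
  let c : (Scheme.Modules.pullback f).obj N ≅ Coh.structureModule X :=
    (Scheme.Modules.pullback f).mapIso e ≪≫ KFlatLib.pullUnitIso f
  have h : a.unit.app N ≫ (Scheme.Modules.pushforward f).map c.hom = e.hom ≫ ClSub.unitToPush f := by
    have hu : a.unit.app _ ≫ (Scheme.Modules.pushforward f).map (KFlatLib.pullUnitIso f).hom = ClSub.unitToPush f :=
      (a.homEquiv_unit _ _ _).symm.trans ((a.homEquiv _ _).apply_symm_apply _)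
    have hn := a.unit.naturality e.hom
    rw [show c.hom = (Scheme.Modules.pullback f).map e.hom ≫ (KFlatLib.pullUnitIso f).hom from rfl,
      Functor.map_comp]
    refine (Category.assoc _ _ _).symm.trans ((congrArg (· ≫ _) hn.symm).trans ((Category.assoc _ _ _).trans ?_))
    exact congrArg (e.hom ≫ ·) hu
  have h3 : Epi (a.unit.app N ≫ (Scheme.Modules.pushforward f).map c.hom) := by
    rw [h]; exact epi_comp _ _
  exact (epi_comp_iff_of_isIso _ ((Scheme.Modules.pushforward f).map c.hom)).1 h3

variable (f)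

/-- Triviality on all fibres gives one-dimensional sections on fibres. -/
theorem fiberRank_eq_one (h0 : ∀ y : S, Module.finrank (S.residueField y) Γ(f.fiber y, ⊤) = 1) {L : X.Modules}
    (y : S) (ht : Nonempty (CohIII.fiberMod f L y ≅ Coh.structureModule (f.fiber y))) :
    CohIII.fiberRank f L 0 y = 1 := by
  let k : Type u := S.residueField y
  let : (f.fiber y).Over (Spec (CommRingCat.of k)) := ⟨f.fiberToSpecResidueField y⟩
  refine Eq.trans ?_ ((finrank_global_eq (f := f) y).trans (h0 y))
  exact (CurvLib.hIso (k := k) (ht.some ≪≫ (KFlatLib.pullUnitIso (f.fiberι y)).symm) 0).finrank_eq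

/-- Pullbacks from the base are trivial on fibres. -/
theorem trivial_of_iso_pullback {L : X.Modules} {L₀ : S.Modules} (h₀ : FlatMod.IsFinLocFreeOfRank 1 L₀)
    (e : L ≅ (Scheme.Modules.pullback f).obj L₀) (y : S) :
    Nonempty (CohIII.fiberMod f L y ≅ Coh.structureModule (f.fiber y)) := by
  obtain ⟨t⟩ := nonempty_iso_structureModule_of_point (rank_one_pullback (S.fromSpecResidueField y) h₀)
  exact ⟨(Scheme.Modules.pullback (f.fiberι y)).mapIso e ≪≫ ((sqIso (f.fiber_fac y)).app L₀).symm ≪≫
    (Scheme.Modules.pullback (f.fiberToSpecResidueField y)).mapIso t ≪≫ KFlatLib.pullUnitIso _⟩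

/-- One-dimensional functions on a fibre: the unit is onto. -/
theorem epi_unitToPush_fibre [QuasiCompact f] [QuasiSeparated f] (s : S)
    (h : Module.finrank (S.residueField s) Γ(f.fiber s, ⊤) = 1) :
    Epi (ClSub.unitToPush (f.fiberToSpecResidueField s)) := by
  let f' := f.fiberToSpecResidueField s
  have : QuasiSeparated f' := MorphismProperty.of_isPullback (IsPullback.of_hasPullback f _) ‹_›
  have : QuasiCompact f' := MorphismProperty.of_isPullback (IsPullback.of_hasPullback f _) ‹_›
  refine epi_unitToPush_of_surjective f' fun z => ?_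
  have := Module.nontrivial_of_finrank_eq_succ h
  have hz : z ∈ (⊥ : Subalgebra (S.residueField s) Γ(f.fiber s, ⊤)) :=
    (Subalgebra.bot_eq_top_of_finrank_eq_one h).symm ▸ Algebra.mem_top
  obtain ⟨c, hc⟩ := Algebra.mem_bot.1 hz
  exact ⟨(Scheme.ΓSpecIso (S.residueField s)).inv c, hc⟩

variable [IsProper f] [Flat f] [LocallyOfFinitePresentation f]

/-- Trivial on fibres with surjective comparison: a pullback from the base. -/
theorem counit_of_trivial (h0 : ∀ y : S, Module.finrank (S.residueField y) Γ(f.fiber y, ⊤) = 1)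
    {L : X.Modules} (hL : FlatMod.IsFinLocFreeOfRank 1 L)
    (htriv : ∀ y : S, Nonempty (CohIII.fiberMod f L y ≅ Coh.structureModule (f.fiber y)))
    (he : ∀ s, Epi (CohBC.bc0 f (S.fromSpecResidueField s) (f.fiberToSpecResidueField s) (f.fiberι s)
      (f.fiber_fac s) L)) :
    FlatMod.IsFinLocFreeOfRank 1 ((Scheme.Modules.pushforward f).obj L) ∧
      IsIso ((Scheme.Modules.pullbackPushforwardAdjunction f).counit.app L) := by
  obtain ⟨hQ, hfp, hfl⟩ := rank_one_hyps f hL
  obtain ⟨hP, hbc⟩ := stratLocal_one hfp hfl (fun y => fiberRank_eq_one f h0 y (htriv y)) he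
  refine ⟨hP, ?_⟩
  have hA := rank_one_pullback f hP
  have hAc := LocSuppLib.isCoh_of_isFinLocFree fun x => let ⟨U, h⟩ := hA x; ⟨U, 1, h⟩
  have hLc := LocSuppLib.isCoh_of_isFinLocFree fun x => let ⟨U, h⟩ := hL x; ⟨U, 1, h⟩
  have : Coh.IsQCoh ((Scheme.Modules.pushforward f ⋙ Scheme.Modules.pullback f).obj L) := hAc.1
  have : Coh.IsQCoh ((𝟭 X.Modules).obj L) := hQ
  have : Epi ((Scheme.Modules.pullbackPushforwardAdjunction f).counit.app L) := by
    refine epi_of_epi_pullbacks hLc.2 _ fun x => ?_
    obtain ⟨z, hz⟩ : x ∈ Set.range (f.fiberι (f x)) := by rw [f.range_fiberι]; rfl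
    refine ⟨_, f.fiberι (f x), z, hz, ?_⟩
    let f' := f.fiberToSpecResidueField (f x)
    have : IsIso (CohBC.bc0 f (S.fromSpecResidueField (f x)) f' (f.fiberι (f x)) (f.fiber_fac (f x)) L) :=
      hbc (IsPullback.of_hasPullback f (S.fromSpecResidueField (f x)))
    have := epi_counit_of_iso f' (htriv (f x)).some
    have e := bc0_counit (f.fiber_fac (f x)) L
    have : Epi ((sqIso (f.fiber_fac (f x))).hom.app ((Scheme.Modules.pushforward f).obj L) ≫
        (Scheme.Modules.pullback (f.fiberι (f x))).map
          ((Scheme.Modules.pullbackPushforwardAdjunction f).counit.app L)) := by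
      rw [← e]
      exact epi_comp _ _
    exact epi_of_epi ((sqIso (f.fiber_fac (f x))).hom.app ((Scheme.Modules.pushforward f).obj L)) _
  exact isIso_of_epi_rank_one hA hL _

/-- Line bundles from the base: surjective comparisons and invertible unit. -/
theorem unit_of_rank_one (h0 : ∀ y : S, Module.finrank (S.residueField y) Γ(f.fiber y, ⊤) = 1)
    {L₀ : S.Modules} (h₀ : FlatMod.IsFinLocFreeOfRank 1 L₀) :
    (∀ s, Epi (CohBC.bc0 f (S.fromSpecResidueField s) (f.fiberToSpecResidueField s) (f.fiberι s)
      (f.fiber_fac s) ((Scheme.Modules.pullback f).obj L₀))) ∧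
      IsIso ((Scheme.Modules.pullbackPushforwardAdjunction f).unit.app L₀) := by
  let L := (Scheme.Modules.pullback f).obj L₀
  have hL := rank_one_pullback f h₀
  let η := (Scheme.Modules.pullbackPushforwardAdjunction f).unit.app L₀
  have hcomp : ∀ s, Epi ((Scheme.Modules.pullback (S.fromSpecResidueField s)).map η ≫
      CohBC.bc0 f (S.fromSpecResidueField s) (f.fiberToSpecResidueField s) (f.fiberι s) (f.fiber_fac s) L) :=
    fun s => by
      rw [bc0_unitApp (f.fiber_fac s) L₀]
      obtain ⟨t⟩ := nonempty_iso_structureModule_of_point (rank_one_pullback (S.fromSpecResidueField s) h₀)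
      have := epi_unitToPush_fibre f s (h0 s)
      have := epi_unit_of_iso (f.fiberToSpecResidueField s) t
      exact epi_comp _ _
  have he : ∀ s, Epi (CohBC.bc0 f (S.fromSpecResidueField s) (f.fiberToSpecResidueField s) (f.fiberι s)
      (f.fiber_fac s) L) := fun s => by
    have := hcomp s
    exact epi_of_epi ((Scheme.Modules.pullback (S.fromSpecResidueField s)).map η) _
  refine ⟨he, ?_⟩
  obtain ⟨hQ, hfp, hfl⟩ := rank_one_hyps f hL
  obtain ⟨hP, hbc⟩ := stratLocal_one hfp hfl
    (fun y => fiberRank_eq_one f h0 y (trivial_of_iso_pullback f h₀ (Iso.refl L) y)) he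
  have hAc := LocSuppLib.isCoh_of_isFinLocFree fun x => let ⟨U, h⟩ := h₀ x; ⟨U, 1, h⟩
  have hPc := LocSuppLib.isCoh_of_isFinLocFree fun x => let ⟨U, h⟩ := hP x; ⟨U, 1, h⟩
  have : Coh.IsQCoh ((𝟭 S.Modules).obj L₀) := hAc.1
  have : Coh.IsQCoh ((Scheme.Modules.pullback f ⋙ Scheme.Modules.pushforward f).obj L₀) := hPc.1
  have : Coh.IsQCoh ((Scheme.Modules.pushforward f).obj ((Scheme.Modules.pullback f).obj L₀)) := hPc.1
  have : Epi η := by
    refine epi_of_epi_pullbacks hPc.2 _ fun s => ?_
    obtain ⟨z⟩ : Nonempty (Spec (S.residueField s)) := inferInstance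
    refine ⟨_, S.fromSpecResidueField s, z, Scheme.fromSpecResidueField_apply _ _, ?_⟩
    have : IsIso (CohBC.bc0 f (S.fromSpecResidueField s) (f.fiberToSpecResidueField s) (f.fiberι s) (f.fiber_fac s) L) :=
      hbc (IsPullback.of_hasPullback f (S.fromSpecResidueField s))
    exact (epi_comp_iff_of_isIso _ (CohBC.bc0 f (S.fromSpecResidueField s) (f.fiberToSpecResidueField s)
      (f.fiberι s) (f.fiber_fac s) L)).1 (hcomp s)
  exact isIso_of_epi_rank_one h₀ hP _

omit [Flat f] [LocallyOfFinitePresentation f] in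
/-- Geometrically integral fibres have one-dimensional functions. -/
theorem finrank_global_of_geometricallyIntegral [GeometricallyIntegral f] (y : S) :
    Module.finrank (S.residueField y) Γ(f.fiber y, ⊤) = 1 := by
  have : IsIso (f.fiberToSpecResidueField y).appTop :=
    H0Lib.H0Fib.of_geometricallyIntegral f (S.residueField y) (S.fromSpecResidueField y)
  have hb : Function.Bijective (algebraMap (S.residueField y) Γ(f.fiber y, ⊤)) :=
    ConcreteCategory.bijective_of_isIso ((Scheme.ΓSpecIso (S.residueField y)).inv ≫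
      (f.fiberToSpecResidueField y).appTop)
  exact ((LinearEquiv.ofBijective (Algebra.linearMap (S.residueField y) Γ(f.fiber y, ⊤)) hb).finrank_eq).symm.trans
    (Module.finrank_self _)

end CohCmpLib
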