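import Groth.Agent.CohCmpLib.HomMod
import Groth.Agent.KFlatLib.AffinePull
import Groth.Agent.QCohLib.Gen

/-!
Frames under pullback, and frames give finite local freeness.
-/

set_option autoImplicit false
set_option maxRecDepth 8000

noncomputable section

universe u

open CategoryTheory CategoryTheory.Limits AlgebraicGeometry TopologicalSpace Opposite
open scoped TensorProduct
open ProjFormLib (ger res ger_res ger_smul ger_add ger_map exists_ger section_ext IsFrame)
open KFlatLib (pb puSec puSecLE)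

namespace CohCmpLib

variable {X Z : Scheme.{u}}

/-- The stalk of a pullback is the base change of the stalk. -/
theorem exists_stalkPullEquiv (g : Z ⟶ X) (M : X.Modules) (z : Z) :
    letI := (g.stalkMap z).hom.toAlgebra
    ∃ e : Z.presheaf.stalk z ⊗[X.presheaf.stalk (g z)] stk M (g z) ≃ₗ[Z.presheaf.stalk z] stk (pb g M) z,
      ∀ (U : X.Opens) (hz : g z ∈ U) (m : Γ(M, U)),
        e (1 ⊗ₜ ger M (g z) hz m) = ger (pb g M) z (U := g ⁻¹ᵁ U) hz (puSec g m) := by
  let := (g.stalkMap z).hom.toAlgebra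
  exact ⟨((KFlatLib.stalkPullIso g z).symm.app M).toLinearEquiv,
    fun U hz m => KFlatLib.stalkPullInv_germ g M z hz m⟩

/-- Frames pull back to frames. -/
theorem isFrame_puSec (g : Z ⟶ X) {E : X.Modules} {n : ℕ} {U : X.Opens} {e : Fin n → Γ(E, U)}
    (he : IsFrame E e) : IsFrame (pb g E) fun i => puSec g (e i) := by
  intro z hz
  let := (g.stalkMap z).hom.toAlgebra
  obtain ⟨L, hL⟩ := exists_stalkPullEquiv g E z
  let b := ((he.basis (g z) hz).baseChange (Z.presheaf.stalk z)).map L
  have hb : ∀ i, b i = ger (pb g E) z (U := g ⁻¹ᵁ U) hz (puSec g (e i)) := fun i => by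
    rw [Module.Basis.map_apply, Module.Basis.baseChange_apply, he.basis_apply, hL]
  refine (congrArg Function.Bijective (funext fun c => ?_)).mpr b.equivFun.symm.bijective
  rw [Fintype.linearCombination_apply, Module.Basis.equivFun_symm_apply]
  exact Finset.sum_congr rfl fun i _ => by rw [hb]

theorem isFrame_puSecLE (g : Z ⟶ X) {E : X.Modules} {n : ℕ} {U : X.Opens} {e : Fin n → Γ(E, U)}
    (he : IsFrame E e) {V : Z.Opens} (hV : V ≤ g ⁻¹ᵁ U) : IsFrame (pb g E) fun i => puSecLE g E hV (e i) :=
  (isFrame_puSec g he).res hV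

/-- A module with a global frame is free. -/
theorem exists_iso_freeMod_of_frame {M : X.Modules} {n : ℕ} {s : Fin n → Γ(M, (⊤ : X.Opens))}
    (hs : IsFrame M s) : Nonempty (M ≅ FlatMod.freeMod X n) := by
  let ψ : FlatMod.freeMod X n ⟶ M := Sigma.desc fun i => QCohLib.unitHom M (s i)
  have : IsIso ψ := KFlatLib.isIso_of_stalks ψ fun y => by
    refine (ConcreteCategory.isIso_iff_bijective _).mpr ?_
    let φ := ((DerSch.stalkFunctor X y).map ψ).hom
    have hsurj : Function.Surjective φ := by
      intro b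
      obtain ⟨c, rfl⟩ := (hs y trivial).2 b
      suffices h : ∀ i, ger M y (U := ⊤) trivial (s i) ∈ LinearMap.range φ by
        rw [Fintype.linearCombination_apply]
        exact Submodule.sum_mem (LinearMap.range φ) fun i _ => Submodule.smul_mem _ _ (h i)
      intro i
      let one : Γ(Coh.structureModule X, (⊤ : X.Opens)) := (1 : Γ(X, ⊤))
      refine ⟨ger _ y (U := ⊤) trivial ((Sigma.ι (fun _ : Fin n => Coh.structureModule X) i).app ⊤ one),
        (ger_map ψ y (U := ⊤) trivial _).trans (congrArg (ger M y (U := ⊤) trivial) ?_)⟩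
      refine (congrArg (fun φ => Scheme.Modules.Hom.app φ ⊤ one)
        (Sigma.ι_desc (fun i => QCohLib.unitHom M (s i)) i)).trans ?_
      refine (QCohLib.unitHom_app M (s i) ⊤ (1 : Γ(X, ⊤))).trans ((one_smul _ _).trans ?_)
      exact congr($(M.presheaf.map_id _) (s i))
    refine ⟨?_, hsurj⟩
    let e₁ : stk (FlatMod.freeMod X n) y ≃ₗ[X.presheaf.stalk y] (Fin n → X.presheaf.stalk y) :=
      (KFlatLib.stalkFreeModIso X y n).toLinearEquiv
    let e₂ := (LinearEquiv.ofBijective _ (hs y (show y ∈ (⊤ : X.Opens) from trivial))).symm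
    have h := OrzechProperty.injective_of_surjective_endomorphism
      (e₂.toLinearMap ∘ₗ φ ∘ₗ e₁.symm.toLinearMap)
      (e₂.surjective.comp (hsurj.comp e₁.symm.surjective))
    intro a b hab
    obtain ⟨a, rfl⟩ := e₁.symm.surjective a
    obtain ⟨b, rfl⟩ := e₁.symm.surjective b
    exact congrArg e₁.symm (h (congrArg e₂ hab))
  exact ⟨(asIso ψ).symm⟩

/-- A module with local frames is finite locally free. -/
theorem isFinLocFree_of_frames {M : X.Modules}
    (h : ∀ x : X, ∃ (U : X.Opens) (n : ℕ) (e : Fin n → Γ(M, U)), x ∈ U ∧ IsFrame M e) :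
    FlatMod.IsFinLocFree M := fun x => by
  obtain ⟨U, n, e, hx, he⟩ := h x
  obtain ⟨φ⟩ := exists_iso_freeMod_of_frame
    (isFrame_puSecLE U.ι he (V := (⊤ : (U : Scheme.{u}).Opens)) (fun z _ => z.2))
  exact ⟨U, n, hx, ⟨(Scheme.Modules.restrictFunctorIsoPullback U.ι).app M ≪≫ φ⟩⟩

end CohCmpLib
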