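import Groth.Agent.CohCmpLib.FamilyPic
import Groth.Agent.ProjFormLib.Proj
import Mathlib.AlgebraicGeometry.AlgClosed.Basic

/-!
One-dimensional functions on fibres from geometry, and vector bundles from the base.
-/

set_option autoImplicit false
set_option maxRecDepth 8000

noncomputable section

universe u

open CategoryTheory CategoryTheory.Limits AlgebraicGeometry TopologicalSpace Opposite

namespace CohCmpLib

variable {X S : Scheme.{u}}

/-- Bijective global functions on a fibre. -/
theorem finrank_global_of_isIso (f : X ⟶ S) (y : S) [IsIso (f.fiberToSpecResidueField y).appTop] :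
    Module.finrank (S.residueField y) Γ(f.fiber y, ⊤) = 1 := by
  have hb : Function.Bijective (algebraMap (S.residueField y) Γ(f.fiber y, ⊤)) :=
    ConcreteCategory.bijective_of_isIso ((Scheme.ΓSpecIso (S.residueField y)).inv ≫
      (f.fiberToSpecResidueField y).appTop)
  exact ((LinearEquiv.ofBijective (Algebra.linearMap (S.residueField y) Γ(f.fiber y, ⊤)) hb).finrank_eq).symm.trans
    (Module.finrank_self _)

/-- Integral fibres over a variety over an algebraically closed field. -/
theorem finrank_global_of_integral_fibres (f : X ⟶ S) [IsProper f] [Flat f] [LocallyOfFinitePresentation f]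
    {k : Type u} [Field k] [IsAlgClosed k] (g : S ⟶ Spec (CommRingCat.of k)) [LocallyOfFiniteType g]
    (hint : ∀ y : S, IsIntegral (f.fiber y)) (y : S) :
    Module.finrank (S.residueField y) Γ(f.fiber y, ⊤) = 1 := by
  obtain ⟨hQ, hfp, hfl⟩ := rank_one_hyps f (rank_one_structureModule X)
  let G : Set S := interior {y | Module.finrank (S.residueField y) Γ(f.fiber y, ⊤) = 1}
  have hcl : ∀ s : S, IsClosed ({s} : Set S) → s ∈ G := fun s hs => by
    have : IsAlgClosed (S.residueField s) :=
      IsAlgClosed.of_ringEquiv k _ (residueFieldIsoBase g s hs).commRingCatIsoToRingEquiv.symm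
    have := hint s
    have : UniversallyClosed (f.fiberToSpecResidueField s) :=
      MorphismProperty.of_isPullback (IsPullback.of_hasPullback f (S.fromSpecResidueField s)) (inferInstanceAs (UniversallyClosed f))
    have : IsIso (f.fiberToSpecResidueField s).appTop :=
      H0Lib.isIso_appTop_of_isAlgClosed (k := S.residueField s) (f.fiberToSpecResidueField s)
    have h1 := finrank_global_of_isIso f s
    obtain ⟨W, K, V, hle, hV, hsV, a⟩ := compatAt_of_epi hfp hfl s (epi_bc0_unit s h1)
    have hl := K.eventually_fiberRank hV hle 0 (K.flAt_zero hle) a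
    obtain ⟨O, hO, hsO, hc⟩ := hl.exists_open ⟨s, hsV⟩
    refine mem_interior.2 ⟨Subtype.val '' O, ?_, V.2.isOpenMap_subtype_val O hO, ⟨_, hsO, rfl⟩⟩
    rintro _ ⟨v, hv, rfl⟩
    have := hc v hv
    change Module.finrank _ _ = 1
    rw [← finrank_global_eq (f := f) v.1, this, finrank_global_eq (f := f) s, h1]
  have : JacobsonSpace S := LocallyOfFiniteType.jacobsonSpace g
  suffices y ∈ G from (interior_subset this : y ∈ {y | Module.finrank (S.residueField y) Γ(f.fiber y, ⊤) = 1})
  by_contra hy
  obtain ⟨s, hs, hs'⟩ := nonempty_inter_closedPoints (Z := Gᶜ) ⟨y, hy⟩ isOpen_interior.isClosed_compl.isLocallyClosed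
  exact hs (hcl s hs')

/-- An epimorphism between isomorphic coherent modules is invertible. -/
theorem isIso_of_epi_of_iso {P Q : X.Modules} [Coh.IsQCoh P] [Coh.IsQCoh Q] (hQ : CohB1.IsFT Q) (e : Q ≅ P)
    (φ : P ⟶ Q) [Epi φ] : IsIso φ := by
  refine RpushLib.isIso_of_bijective_basis φ X.isBasis_affineOpens fun V hV => ?_
  have hV' : IsAffineOpen V := hV
  have := QCohLib.finite_of_isFT hQ hV'
  have hs := FormalLib.app_surjective_of_epi _ φ hV'
  have he : Function.Bijective (e.hom.app V) := ConcreteCategory.bijective_of_isIso (e.hom.app V)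
  let l : Γ(Q, V) →ₗ[Γ(X, V)] Γ(Q, V) :=
    { toFun := fun x => φ.app V (e.hom.app V x)
      map_add' := fun a b => by rw [map_add, map_add]
      map_smul' := fun r m => by rw [QCohLib.app_smul, QCohLib.app_smul]; rfl }
  have hl : Function.Injective l :=
    OrzechProperty.injective_of_surjective_endomorphism l (hs.comp he.2)
  exact ⟨Function.Injective.of_comp_right (g := e.hom.app V) hl he.2, hs⟩

/-- `O = f_* O` makes pullback fully faithful on vector bundles. -/
theorem nonempty_push_pull_iso (f : X ⟶ S) [IsIso (ClSub.unitToPush f)] {M : S.Modules}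
    (hM : FlatMod.IsFinLocFree M) :
    Nonempty ((Scheme.Modules.pushforward f).obj ((Scheme.Modules.pullback f).obj M) ≅ M) := by
  have := ProjFormLib.isIso_projApp (f := f) hM (Coh.structureModule X)
  let a : CohB1.tensorMod M ((Scheme.Modules.pushforward f).obj (Coh.structureModule X)) ≅
      (Scheme.Modules.pushforward f).obj (CohB1.tensorMod ((Scheme.Modules.pullback f).obj M) (Coh.structureModule X)) :=
    @asIso _ _ _ _ (ProjFormLib.projApp f M (Coh.structureModule X)) this
  exact ⟨(Scheme.Modules.pushforward f).mapIso ((HilbPolyLib.swapIso _ _) ≪≫ HilbPolyLib.unitLeft _).symm ≪≫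
    a.symm ≪≫ HilbPolyLib.congrRight M (asIso (ClSub.unitToPush f)).symm ≪≫
    HilbPolyLib.swapIso _ _ ≪≫ HilbPolyLib.unitLeft M⟩

theorem isIso_unitToPush_of_app (f : X ⟶ S) (hf : ∀ U : S.Opens, IsIso (f.app U)) :
    IsIso (ClSub.unitToPush f) := by
  refine RpushLib.isIso_of_bijective_basis _ S.isBasis_affineOpens fun U _ => ?_
  have := hf U
  exact ConcreteCategory.bijective_of_isIso (f.app U)

theorem isIso_app_of_unitToPush (f : X ⟶ S) [IsIso (ClSub.unitToPush f)] (U : S.Opens) : IsIso (f.app U) := by
  rw [ConcreteCategory.isIso_iff_bijective]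
  exact ConcreteCategory.bijective_of_isIso ((ClSub.unitToPush f).app U)

end CohCmpLib
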