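import Groth.Agent.CohCmpLib.RankOne
import Groth.Agent.S9805
import Groth.Agent.CurvLib.SupportVanish
import Groth.Prelude.Def_Pic

/-!
Line bundles in proper flat families, and the Stein condition from one-dimensional functions on fibres.
-/

set_option autoImplicit false
set_option maxRecDepth 8000

noncomputable section

universe u

open CategoryTheory CategoryTheory.Limits AlgebraicGeometry TopologicalSpace Opposite

namespace CohCmpLib

theorem invertible_iff_rank_one {Y : Scheme.{u}} (M : Y.Modules) :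
    PicF.IsInvertible M ↔ FlatMod.IsFinLocFreeOfRank 1 M :=
  forall_congr' fun _ => exists_congr fun U => and_congr_right fun _ => by
    have e : FlatMod.freeMod (↑U) 1 ≅ Coh.structureModule (↑U) :=
      Limits.coproductUniqueIso fun _ : Fin 1 => Coh.structureModule (↑U)
    exact ⟨fun ⟨a⟩ => ⟨a ≪≫ e.symm⟩, fun ⟨a⟩ => ⟨a ≪≫ e⟩⟩

theorem rank_one_structureModule (Y : Scheme.{u}) :
    FlatMod.IsFinLocFreeOfRank 1 (Coh.structureModule Y) :=
  (invertible_iff_rank_one _).1 fun _ => ⟨⊤, trivial,
    ⟨(Scheme.Modules.restrictFunctorIsoPullback _).app _ ≪≫ KFlatLib.pullUnitIso _⟩⟩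

/-- The standing hypotheses for a locally free module in a flat family. -/
theorem locFree_hyps {X S : Scheme.{u}} (f : X ⟶ S) [Flat f] {L : X.Modules} (hL : FlatMod.IsFinLocFree L) :
    Coh.IsQCoh L ∧ CohB1.IsFP L ∧ FlatMod.IsFlatOver f L := by
  have hQ : Coh.IsQCoh L := (LocSuppLib.isCoh_of_isFinLocFree hL).1
  obtain ⟨hflat, hfp⟩ := (Groth.Agent.S9805.result X L hQ).2 hL
  refine ⟨hQ, hfp, fun x => ?_⟩
  let : Algebra (S.presheaf.stalk (f.base x)) (X.presheaf.stalk x) := (f.stalkMap x).hom.toAlgebra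
  let := FlatMod.moduleStalkOver f L x
  have : IsScalarTower (S.presheaf.stalk (f.base x)) (X.presheaf.stalk x) (L.presheaf.stalk x) :=
    IsScalarTower.of_algebraMap_smul fun _ _ => rfl
  have : Module.Flat (S.presheaf.stalk (f.base x)) (X.presheaf.stalk x) :=
    RingHom.flat_algebraMap_iff.1 (Flat.stalkMap f x)
  have : Module.Flat (X.presheaf.stalk x) (L.presheaf.stalk x) := hflat x
  exact Module.Flat.trans _ (X.presheaf.stalk x) _

theorem rank_one_hyps {X S : Scheme.{u}} (f : X ⟶ S) [Flat f] {L : X.Modules}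
    (hL : FlatMod.IsFinLocFreeOfRank 1 L) :
    Coh.IsQCoh L ∧ CohB1.IsFP L ∧ FlatMod.IsFlatOver f L :=
  locFree_hyps f fun x => let ⟨U, h⟩ := hL x; ⟨U, 1, h⟩

variable {X S : Scheme.{u}} (f : X ⟶ S) [IsProper f] [Flat f] [LocallyOfFinitePresentation f]
  (h0 : ∀ s : S, Module.finrank (S.residueField s) Γ(f.fiber s, ⊤) = 1)

include h0 in
/-- **Stein property, universally**, from one-dimensional functions on the fibres. -/
theorem isIso_unitToPush :
    (∀ s : S, Epi (CohBC.bc0 f (S.fromSpecResidueField s) (f.fiberToSpecResidueField s) (f.fiberι s)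
      (f.fiber_fac s) (Coh.structureModule X))) ∧
    FlatMod.IsFinLocFreeOfRank 1 ((Scheme.Modules.pushforward f).obj (Coh.structureModule X)) ∧
    ∀ {X' S' : Scheme.{u}} {g : S' ⟶ S} {f' : X' ⟶ S'} {g' : X' ⟶ X} (_ : IsPullback g' f' f g),
      IsIso (ClSub.unitToPush f') := by
  obtain ⟨hQ, hfp, hfl⟩ := rank_one_hyps f (rank_one_structureModule X)
  have he := fun s => epi_bc0_unit (f := f) s (h0 s)
  obtain ⟨hP, hbc⟩ := stratLocal_one hfp hfl (fun s => (finrank_global_eq s).trans (h0 s)) he
  let P := (Scheme.Modules.pushforward f).obj (Coh.structureModule X)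
  have hPc := LocSuppLib.isCoh_of_isFinLocFree (E := P) fun x => let ⟨U, h⟩ := hP x; ⟨U, 1, h⟩
  have : Coh.IsQCoh P := hPc.1
  have : Coh.IsQCoh (Coh.structureModule S) := QCohLib.isQCoh_unit
  have hmid : ∀ {X' S' : Scheme.{u}} {g : S' ⟶ S} {f' : X' ⟶ S'} {g' : X' ⟶ X} (H : IsPullback g' f' f g),
      IsIso (CohBC.bc0 f g f' g' H.w (Coh.structureModule X) ≫
        (Scheme.Modules.pushforward f').map (KFlatLib.pullUnitIso g').hom) := fun H => by
    have := hbc H
    infer_instance
  have hu : Epi (ClSub.unitToPush f) := by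
    refine epi_of_epi_pullbacks hPc.2 _ fun s => ?_
    obtain ⟨z⟩ : Nonempty (Spec (S.residueField s)) := inferInstance
    refine ⟨_, S.fromSpecResidueField s, z, Scheme.fromSpecResidueField_apply _ _, ?_⟩
    let f' := f.fiberToSpecResidueField s
    have : QuasiSeparated f' := MorphismProperty.of_isPullback (IsPullback.of_hasPullback f _) (inferInstanceAs (QuasiSeparated f))
    have : QuasiCompact f' := MorphismProperty.of_isPullback (IsPullback.of_hasPullback f _) (inferInstanceAs (QuasiCompact f))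
    have he' : Epi (ClSub.unitToPush f') := by
      refine epi_unitToPush_of_surjective f' fun z => ?_
      have := Module.nontrivial_of_finrank_eq_succ (h0 s)
      have hz : z ∈ (⊥ : Subalgebra (S.residueField s) Γ(f.fiber s, ⊤)) :=
        (Subalgebra.bot_eq_top_of_finrank_eq_one (h0 s)).symm ▸ Algebra.mem_top
      obtain ⟨c, hc⟩ := Algebra.mem_bot.1 hz
      exact ⟨(Scheme.ΓSpecIso (S.residueField s)).inv c, hc⟩
    have : IsIso (CohBC.bc0 f (S.fromSpecResidueField s) f' (f.fiberι s) (f.fiber_fac s) (Coh.structureModule X) ≫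
        (Scheme.Modules.pushforward f').map (KFlatLib.pullUnitIso (f.fiberι s)).hom) :=
      hmid (IsPullback.of_hasPullback f (S.fromSpecResidueField s))
    refine (epi_comp_iff_of_isIso _ (CohBC.bc0 f (S.fromSpecResidueField s) f' (f.fiberι s) (f.fiber_fac s)
      (Coh.structureModule X) ≫ (Scheme.Modules.pushforward f').map (KFlatLib.pullUnitIso (f.fiberι s)).hom)).1 ?_
    rw [bc0_unit (f.fiber_fac s)]
    infer_instance
  have : IsIso (ClSub.unitToPush f) := isIso_of_epi_rank_one (rank_one_structureModule S) hP _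
  refine ⟨he, hP, fun {X' S' g f' g'} H => ?_⟩
  have := hmid H
  have e := bc0_unit H.w
  have : IsIso ((KFlatLib.pullUnitIso g).hom ≫ ClSub.unitToPush f') := by
    rw [← e]
    infer_instance
  exact IsIso.of_isIso_comp_left (KFlatLib.pullUnitIso g).hom _

include h0 in
/-- Degree one is locally free for families of curves. -/
theorem isFinLocFree_rpush_one [HasInjectiveResolutions X.Modules]
    (hdim : ∀ s : S, topologicalKrullDim ↥(f.fiber s) ≤ 1) :
    FlatMod.IsFinLocFree ((Coh.Rpush f 1).obj (Coh.structureModule X)) := fun s => by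
  obtain ⟨hQ, hfp, hfl⟩ := rank_one_hyps f (rank_one_structureModule X)
  refine exists_free_one hfp hfl s ?_ ((isIso_unitToPush f h0).1 s)
  let k : Type u := S.residueField s
  letI : (f.fiber s).Over (Spec (CommRingCat.of k)) := ⟨f.fiberToSpecResidueField s⟩
  have : IsProper ((f.fiber s) ↘ Spec (CommRingCat.of k)) :=
    MorphismProperty.of_isPullback (IsPullback.of_hasPullback f (S.fromSpecResidueField s)) ‹IsProper f›
  have := CurvLib.isNoetherian k (X := f.fiber s)
  exact CurvLib.subsingleton_HH_of_dim_le _ (d := 1) (by exact_mod_cast hdim s) 2 (by omega)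

end CohCmpLib
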