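import Groth.Agent.CohCmpLib.EulerConst
import Groth.Agent.CohCmpLib.LineBundle
import Groth.Agent.CurvLib.Euler
import Groth.Agent.HilbPolyLib.IntNum
import Groth.Prelude.Def_CurvBase
import Groth.Prelude.Def_Pic13

/-!
Euler characteristics of base changes to fields, and invariance under algebraic equivalence.
-/

set_option autoImplicit false
set_option maxRecDepth 8000
set_option maxHeartbeats 1000000
set_option backward.isDefEq.respectTransparency false
set_option linter.style.haveILetI false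

universe u

open CategoryTheory CategoryTheory.Limits AlgebraicGeometry TopologicalSpace Opposite TensorProduct
open RpushLib (overW)
open CohBCLib (HA)
open FlatCxLib (Hm fibreRank)

namespace CohCmpLib

variable {X S : Scheme.{u}} {f : X ⟶ S} {F : X.Modules}

/-- Cohomology of the base change to any field over a point has the dimensions of the fibre's. -/
theorem Chart.finrank_bc {W : S.Opens} (C : Chart f F W) (hW : IsAffineOpen W) {K : Type u} [Field K]
    {Z : Scheme.{u}} {g' : Z ⟶ X} {f' : Z ⟶ Spec (CommRingCat.of K)} {v : Spec (CommRingCat.of K) ⟶ S}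
    (H : IsPullback g' f' f v) (hv : ∀ z, v z ∈ W) (z : Spec (CommRingCat.of K)) (p : ℕ) :
    letI : Z.Over (Spec (CommRingCat.of K)) := ⟨f'⟩
    Module.finrank K (Coh.HH Z ((Scheme.Modules.pullback g').obj F) p) = PerfAux.betti f F (v z) p := by
  let := C.alg (le_refl W)
  obtain ⟨w, hw⟩ : ∃ w, w ≫ hW.fromSpec = v :=
    ⟨IsOpenImmersion.lift hW.fromSpec v (by rw [hW.range_fromSpec]; rintro _ ⟨z, rfl⟩; exact hv z),
      IsOpenImmersion.lift_fac _ _ _⟩
  obtain ⟨ψ, rfl⟩ := Spec.map_surjective w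
  let q : PrimeSpectrum Γ(S, W) := (Spec.map ψ) z
  have hq : q.asIdeal = RingHom.ker ψ.hom := by
    show Ideal.comap ψ.hom z.asIdeal = _
    rw [Subsingleton.elim (α := PrimeSpectrum K) z ⊥]
    rfl
  have hvz : hW.fromSpec q = v z := by rw [← hw]; rfl
  letI : Algebra Γ(S, W) K := ψ.hom.toAlgebra
  letI : Algebra C.A₀ K := ((algebraMap Γ(S, W) K).comp (algebraMap C.A₀ Γ(S, W))).toAlgebra
  haveI : IsScalarTower C.A₀ Γ(S, W) K := IsScalarTower.of_algebraMap_eq fun _ => rfl
  letI : Algebra q.asIdeal.ResidueField K := (Ideal.ResidueField.lift q.asIdeal ψ.hom hq.le fun x hx => by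
    show IsUnit (ψ.hom x)
    refine isUnit_iff_ne_zero.2 fun h0 => hx ?_
    rw [hq]
    exact h0).toAlgebra
  haveI : IsScalarTower Γ(S, W) q.asIdeal.ResidueField K := IsScalarTower.of_algebraMap_eq fun x => by
    rw [RingHom.algebraMap_toAlgebra (R := q.asIdeal.ResidueField), Ideal.ResidueField.lift_algebraMap]
    rfl
  haveI : IsScalarTower C.A₀ q.asIdeal.ResidueField K := IsScalarTower.of_algebraMap_eq fun x => by
    rw [IsScalarTower.algebraMap_apply C.A₀ Γ(S, W) q.asIdeal.ResidueField,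
      ← IsScalarTower.algebraMap_apply Γ(S, W) q.asIdeal.ResidueField K]
    rfl
  have t := CohBCLib.isPullback_overW f hW
  let g₁ : Z ⟶ (f ⁻¹ᵁ W : Scheme.{u}) :=
    t.lift g' (f' ≫ Spec.map ψ) (by rw [Category.assoc, hw]; exact H.w)
  have hg : g₁ ≫ (f ⁻¹ᵁ W).ι = g' := t.lift_fst _ _ _
  have hsq : IsPullback g₁ f' (overW f hW) (Spec.map ψ) :=
    IsPullback.of_right (hg.symm ▸ hw.symm ▸ H) (t.lift_snd _ _ _) t
  obtain ⟨h, sq, ⟨ε⟩⟩ := C.pb W hW le_rfl
  have hb : Spec.map ψ ≫ Spec.map (CommRingCat.ofHom (algebraMap C.A₀ Γ(S, W))) =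
      Spec.map (CommRingCat.ofHom (algebraMap C.A₀ K)) := by
    rw [← Spec.map_comp]
    rfl
  have sq' : IsPullback (g₁ ≫ h) f' C.f₀ (Spec.map (CommRingCat.ofHom (algebraMap C.A₀ K))) :=
    hb ▸ hsq.paste_horiz sq
  let θ : (Scheme.Modules.pullback (g₁ ≫ h)).obj (C.c.Z 0) ≅ (Scheme.Modules.pullback g').obj F :=
    ((Scheme.Modules.pullbackComp g₁ h).app _).symm ≪≫
      (Scheme.Modules.pullback g₁).mapIso
        (ε ≪≫ (Scheme.Modules.restrictFunctorIsoPullback (f ⁻¹ᵁ W).ι).app F) ≪≫
      (Scheme.Modules.pullbackComp g₁ (f ⁻¹ᵁ W).ι).app F ≪≫ (Scheme.Modules.pullbackCongr hg).app F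
  letI : Z.Over (Spec (CommRingCat.of K)) := ⟨f'⟩
  let l : HmB (C.a p) (C.b p) K ≃ₗ[K] Coh.HH Z ((Scheme.Modules.pullback g').obj F) p :=
    (LinearEquiv.ofBijective _ (C.mdl.bij K p)).trans (omegaTo sq' C.univ θ p)
  have h1 : PerfAux.betti f F (hW.fromSpec q) p =
      Module.finrank q.asIdeal.ResidueField (HmB (C.a p) (C.b p) q.asIdeal.ResidueField) :=
    (C.fibre_spec hW le_rfl p q).1
  have hbij : Function.Bijective (canHm ((C.a p).baseChange q.asIdeal.ResidueField)
      ((C.b p).baseChange q.asIdeal.ResidueField) K) :=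
    bijective_canHm_of_flat (C.a p) (C.b p) q.asIdeal.ResidueField K (C.hab p)
  rw [← hvz, h1, ← l.finrank_eq,
    ← ((LinearEquiv.ofBijective _ hbij).trans (towEquiv (C.a p) (C.b p))).finrank_eq,
    Module.finrank_baseChange]

/-- The Euler characteristic of a base change to a field. -/
theorem euler_bc [IsProper f] [LocallyOfFinitePresentation f] (hfp : CohB1.IsFP F)
    (hfl : FlatMod.IsFlatOver f F) {K : Type u} [Field K] {Z : Scheme.{u}} {g' : Z ⟶ X}
    {f' : Z ⟶ Spec (CommRingCat.of K)} {v : Spec (CommRingCat.of K) ⟶ S} (H : IsPullback g' f' f v)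
    (z : Spec (CommRingCat.of K)) :
    letI : Z.Over (Spec (CommRingCat.of K)) := ⟨f'⟩
    Curv2.euler K Z ((Scheme.Modules.pullback g').obj F) = PerfAux.eulerChar f F (v z) := by
  have : Coh.IsQCoh F := have : SheafOfModules.IsFinitePresentation (R := X.ringCatSheaf) F := hfp; inferInstance
  obtain ⟨W, C, hW, hz⟩ := exists_chart_at hfp hfl (v z)
  refine finsum_congr fun p => ?_
  rw [C.finrank_bc hW H (fun z' => by rwa [Subsingleton.elim (α := PrimeSpectrum K) z' z]) z p]

variable (k : Type u) [Field k]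

/-- An invertible module algebraically equivalent to zero has the Euler characteristic of the structure sheaf. -/
theorem euler_eq_of_isAlgEquivZero (X : Scheme.{u}) [X.Over (Spec (CommRingCat.of k))]
    [IsProper (X ↘ Spec (CommRingCat.of k))] {L : X.Modules} (hL : Pic13.IsAlgEquivZero k X L) :
    Curv2.euler k X L = Curv2.euler k X (Coh.structureModule X) := by
  obtain ⟨T, q, hT, hq, hqc, M, hM, t, t₀, ht, ht₀, ⟨e⟩, ⟨e₀⟩⟩ := hL
  haveI := hq
  haveI := hT
  let f := pullback.snd (X ↘ Spec (CommRingCat.of k)) q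
  haveI : Flat (X ↘ Spec (CommRingCat.of k)) := inferInstance
  haveI : Flat f := inferInstance
  haveI : LocallyOfFinitePresentation (X ↘ Spec (CommRingCat.of k)) :=
    LocallyOfFinitePresentation.iff_locallyOfFiniteType.2 inferInstance
  haveI : LocallyOfFinitePresentation f := inferInstance
  obtain ⟨-, hfp, hfl⟩ := rank_one_hyps f ((invertible_iff_rank_one M).1 hM)
  have key : ∀ (s : Spec (CommRingCat.of k) ⟶ T) (hs : s ≫ q = 𝟙 _) (z : Spec (CommRingCat.of k)),
      Curv2.euler k X (Pic13.fibreMod k X q s hs M) = PerfAux.eulerChar f M (s z) := by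
    intro s hs z
    have H : IsPullback (Pic13.sliceAt k X q s hs) (X ↘ Spec (CommRingCat.of k)) f s := by
      refine IsPullback.of_right ?_ (pullback.lift_snd _ _ _)
        (IsPullback.of_hasPullback (X ↘ Spec (CommRingCat.of k)) q)
      simp only [Pic13.sliceAt, pullback.lift_fst, hs]
      exact IsPullback.of_horiz_isIso ⟨by simp⟩
    exact euler_bc hfp hfl H z
  rw [← CurvLib.euler_congr e, key t ht (IsLocalRing.closedPoint k),
    ← CurvLib.euler_congr (N := Coh.structureModule X) e₀, key t₀ ht₀ (IsLocalRing.closedPoint k)]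
  exact (isLocallyConstant_eulerChar hfp hfl).apply_eq_of_preconnectedSpace _ _

end CohCmpLib
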