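import Groth.Agent.KFlatLib.AffinePull

/-! Pullback of sections through the canonical identifications of pullback functors. -/

set_option autoImplicit false
set_option maxHeartbeats 1000000

universe u

open CategoryTheory CategoryTheory.Limits AlgebraicGeometry TopologicalSpace Opposite
open KFlatLib (puSec puSecLE)

namespace CohCmpLib

variable {X Y Z : Scheme.{u}}

theorem pullbackCongr_puSec {f g : X ⟶ Y} (h : f = g) (M : Y.Modules) {U : Y.Opens} (m : Γ(M, U))
    {V : X.Opens} (hf : V ≤ f ⁻¹ᵁ U) (hg : V ≤ g ⁻¹ᵁ U) :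
    ((Scheme.Modules.pullbackCongr h).hom.app M).app V (puSecLE f M hf m) = puSecLE g M hg m := by
  subst h
  rfl

theorem pullbackComp_puSec (f : X ⟶ Y) (g : Y ⟶ Z) (M : Z.Modules) {U : Z.Opens} (m : Γ(M, U)) :
    ((Scheme.Modules.pullbackComp f g).hom.app M).app (f ⁻¹ᵁ (g ⁻¹ᵁ U)) (puSec f (puSec g m)) =
      puSec (f ≫ g) m := by
  have h := unit_conjugateEquiv ((Scheme.Modules.pullbackPushforwardAdjunction g).comp
    (Scheme.Modules.pullbackPushforwardAdjunction f))
      (Scheme.Modules.pullbackPushforwardAdjunction (f ≫ g)) (Scheme.Modules.pullbackComp f g).inv M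
  rw [Scheme.Modules.conjugateEquiv_pullbackComp_inv] at h
  have h2 : ((Scheme.Modules.pullbackComp f g).inv.app M).app ((f ≫ g) ⁻¹ᵁ U) (puSec (f ≫ g) m) =
      puSec f (puSec g m) := congr(Scheme.Modules.Hom.app $h U m).symm
  rw [← h2]
  exact congr(Scheme.Modules.Hom.app $((Scheme.Modules.pullbackComp f g).inv_hom_id_app M)
    ((f ≫ g) ⁻¹ᵁ U) (puSec (f ≫ g) m))

theorem pullbackComp_puSecLE (f : X ⟶ Y) (g : Y ⟶ Z) (M : Z.Modules) {U : Z.Opens} (m : Γ(M, U))
    {V : Y.Opens} (hV : V ≤ g ⁻¹ᵁ U) {W : X.Opens} (hW : W ≤ f ⁻¹ᵁ V) :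
    ((Scheme.Modules.pullbackComp f g).hom.app M).app W (puSecLE f _ hW (puSecLE g M hV m)) =
      puSecLE (f ≫ g) M (hW.trans (f.preimage_mono hV)) m := by
  let P := (Scheme.Modules.pullback f).obj ((Scheme.Modules.pullback g).obj M)
  have h1 : puSecLE f _ hW (puSecLE g M hV m) =
      P.presheaf.map (homOfLE (hW.trans (f.preimage_mono hV))).op (puSec f (puSec g m)) := by
    refine Eq.trans (congrArg (P.presheaf.map (homOfLE hW).op) ?_)
      (QCohLib.map_map' P (homOfLE hW) (homOfLE (f.preimage_mono hV)) (puSec f (puSec g m)))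
    exact (QCohLib.app_map ((Scheme.Modules.pullbackPushforwardAdjunction f).unit.app _)
      (homOfLE hV) (puSec g m))
  rw [h1]
  refine (QCohLib.app_map ((Scheme.Modules.pullbackComp f g).hom.app M) _ _).trans ?_
  exact congrArg _ (pullbackComp_puSec f g M m)

theorem restrictIso_puSec (j : X ⟶ Y) [IsOpenImmersion j] (M : Y.Modules) {U : Y.Opens} (m : Γ(M, U))
    {W : X.Opens} (hW : W ≤ j ⁻¹ᵁ U) :
    ((Scheme.Modules.restrictFunctorIsoPullback j).hom.app M).app W
      ((M.restrictAppIso j W).inv (M.presheaf.map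
        (homOfLE ((j.image_mono hW).trans (j.image_preimage_le U))).op m)) = puSecLE j M hW m := by
  have h := Adjunction.unit_leftAdjointUniq_hom_app (Scheme.Modules.restrictAdjunction j)
    (Scheme.Modules.pullbackPushforwardAdjunction j) M
  have h2 : ((Scheme.Modules.restrictFunctorIsoPullback j).hom.app M).app (j ⁻¹ᵁ U)
      (M.presheaf.map (homOfLE (j.image_preimage_le U)).op m) = puSec j m :=
    congr(Scheme.Modules.Hom.app $h U m)
  refine Eq.trans ?_ (congrArg (((Scheme.Modules.pullback j).obj M).presheaf.map (homOfLE hW).op) h2)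
  refine Eq.trans ?_ (QCohLib.app_map _ (homOfLE hW) _)
  refine congrArg (((Scheme.Modules.restrictFunctorIsoPullback j).hom.app M).app W) ?_
  exact (QCohLib.map_map' M (homOfLE (j.image_mono hW)) (homOfLE (j.image_preimage_le U)) m).symm

end CohCmpLib
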