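import Groth.Agent.CohCmpLib.Eps
import Groth.Agent.RDerLib.Delta

/-! Comparison maps exist. -/

set_option autoImplicit false
set_option maxHeartbeats 1000000

universe u

open CategoryTheory CategoryTheory.Limits AlgebraicGeometry TopologicalSpace Opposite
open QCohLib (toAbF)

namespace CohCmpLib

variable {X Y : Scheme.{u}}

/-- Degree zero data, then by dimension shifting. -/
structure CmpLvl (f : X ⟶ Y) [HasInjectiveResolutions X.Modules] (p : ℕ) where
  e (V : Y.Opens) (F : X.Modules) : HCo F (f ⁻¹ᵁ V) p →+ Γ((Coh.Rpush f p).obj F, V)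
  nat (V : Y.Opens) {F G : X.Modules} (ψ : F ⟶ G) (x : HCo F (f ⁻¹ᵁ V) p) :
    e V G (hm ((Scheme.Modules.restrictFunctor (f ⁻¹ᵁ V).ι).map ψ) p x) =
      ((Coh.Rpush f p).map ψ).app V (e V F x)

/-- The map between canonical sequences. -/
noncomputable def injSeqMap {F G : X.Modules} (ψ : F ⟶ G) : injSeqM F ⟶ injSeqM G :=
  let i : Injective.under F ⟶ Injective.under G := Injective.factorThru (ψ ≫ Injective.ι G) (Injective.ι F)
  ShortComplex.homMk ψ i (cokernel.map _ _ ψ i (Injective.comp_factorThru _ _))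
    (Injective.comp_factorThru _ _).symm (cokernel.π_desc _ _ _).symm

/-- A map to the canonical sequence, the identity on the first term. -/
noncomputable def toInjSeq {S : ShortComplex X.Modules} (hS : S.ShortExact) : S ⟶ injSeqM S.X₁ :=
  haveI := hS.mono_f
  let j : S.X₂ ⟶ Injective.under S.X₁ := Injective.factorThru (Injective.ι S.X₁) S.f
  haveI := hS.epi_g
  ShortComplex.homMk (𝟙 _) j
    (hS.exact.desc (j ≫ cokernel.π (Injective.ι S.X₁))
      (by rw [← Category.assoc, Injective.comp_factorThru, cokernel.condition]))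
    (by simp [j]) (hS.exact.g_desc _ _).symm

theorem toInjSeq_τ₁ {S : ShortComplex X.Modules} (hS : S.ShortExact) :
    (toInjSeq hS).τ₁ = 𝟙 S.X₁ := rfl

variable {f : X ⟶ Y} [HasInjectiveResolutions X.Modules] (Δ : RDer.DerivedLES (Scheme.Modules.pushforward f))

theorem delta_comp_zero {S : ShortComplex X.Modules} (hS : S.ShortExact) (p : ℕ) (V : Y.Opens)
    (t : Γ((Coh.Rpush f p).obj S.X₂, V)) :
    (Δ.δ S hS p (p + 1) rfl).app V (((Coh.Rpush f p).map S.g).app V t) = 0 :=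
  congr(Scheme.Modules.Hom.app $(Δ.comp_δ S hS p (p + 1) rfl) V t)

/-- The degree zero map. -/
noncomputable def lvlZero : CmpLvl f 0 where
  e V F := ((((Scheme.Modules.pushforward f).toRightDerivedZero.app F).app V).hom).comp
    (sec0 F (f ⁻¹ᵁ V)).symm.toAddMonoidHom
  nat V {F G} ψ x := by
    obtain ⟨s, rfl⟩ := (sec0 F (f ⁻¹ᵁ V)).surjective x
    rw [sec0_natural]
    change ((Scheme.Modules.pushforward f).toRightDerivedZero.app G).app V
        ((sec0 G (f ⁻¹ᵁ V)).symm (sec0 G (f ⁻¹ᵁ V) (ψ.app (f ⁻¹ᵁ V) s))) =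
      ((Coh.Rpush f 0).map ψ).app V (((Scheme.Modules.pushforward f).toRightDerivedZero.app F).app V
        ((sec0 F (f ⁻¹ᵁ V)).symm (sec0 F (f ⁻¹ᵁ V) s)))
    rw [AddEquiv.symm_apply_apply, AddEquiv.symm_apply_apply]
    exact congr(Scheme.Modules.Hom.app $((Scheme.Modules.pushforward f).toRightDerivedZero.naturality ψ) V s)

variable {p : ℕ} (L : CmpLvl f p)

/-- The candidate one degree up. -/
noncomputable def stepFun (V : Y.Opens) (F : X.Modules) (x : HCo F (f ⁻¹ᵁ V) (p + 1)) :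
    Γ((Coh.Rpush f (p + 1)).obj F, V) :=
  (Δ.δ (injSeqM F) (injSeqM_shortExact F) p (p + 1) rfl).app V
    (L.e V _ (exists_hd_eq (injSeqM_shortExact F) (f ⁻¹ᵁ V) p x).choose)

theorem stepFun_hd (V : Y.Opens) (F : X.Modules) (z : HCo (injSeqM F).X₃ (f ⁻¹ᵁ V) p) :
    stepFun Δ L V F (hd ((injSeqM_shortExact F).map_of_exact
        (Scheme.Modules.restrictFunctor (f ⁻¹ᵁ V).ι)) p z) =
      (Δ.δ (injSeqM F) (injSeqM_shortExact F) p (p + 1) rfl).app V (L.e V _ z) := by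
  have hS := injSeqM_shortExact F
  let h := exists_hd_eq hS (f ⁻¹ᵁ V) p (hd (hS.map_of_exact (Scheme.Modules.restrictFunctor (f ⁻¹ᵁ V).ι)) p z)
  let c : HCo (injSeqM F).X₃ (f ⁻¹ᵁ V) p := h.choose
  let d : HCo (injSeqM F).X₃ (f ⁻¹ᵁ V) p →+ HCo F (f ⁻¹ᵁ V) (p + 1) :=
    hd (hS.map_of_exact (Scheme.Modules.restrictFunctor (f ⁻¹ᵁ V).ι)) p
  have hc : d c = d z := h.choose_spec
  obtain ⟨w, hw⟩ := hd_exact₃ (hS.map_of_exact (Scheme.Modules.restrictFunctor (f ⁻¹ᵁ V).ι)) p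
    (c - z : HCo (injSeqM F).X₃ (f ⁻¹ᵁ V) p) ((map_sub d c z).trans (sub_eq_zero.2 hc))
  have h0 : (Δ.δ (injSeqM F) hS p (p + 1) rfl).app V (L.e V _ (c - z)) = 0 :=
    (congrArg (fun t => (Δ.δ (injSeqM F) hS p (p + 1) rfl).app V (L.e V _ t)) hw.symm).trans
      ((congrArg ((Δ.δ (injSeqM F) hS p (p + 1) rfl).app V) (L.nat V (injSeqM F).g w)).trans
        (delta_comp_zero Δ hS p V _))
  rw [map_sub, map_sub, sub_eq_zero] at h0
  exact h0

/-- One degree up, additive. -/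
noncomputable def stepHom (V : Y.Opens) (F : X.Modules) :
    HCo F (f ⁻¹ᵁ V) (p + 1) →+ Γ((Coh.Rpush f (p + 1)).obj F, V) :=
  AddMonoidHom.mk' (stepFun Δ L V F) fun x y => by
    let d : HCo (injSeqM F).X₃ (f ⁻¹ᵁ V) p →+ HCo F (f ⁻¹ᵁ V) (p + 1) :=
      hd ((injSeqM_shortExact F).map_of_exact (Scheme.Modules.restrictFunctor (f ⁻¹ᵁ V).ι)) p
    obtain ⟨a, ha⟩ : ∃ a, d a = x := exists_hd_eq (injSeqM_shortExact F) (f ⁻¹ᵁ V) p x
    obtain ⟨b, hb⟩ : ∃ b, d b = y := exists_hd_eq (injSeqM_shortExact F) (f ⁻¹ᵁ V) p y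
    have k : ∀ t, stepFun Δ L V F (d t) =
        (Δ.δ (injSeqM F) (injSeqM_shortExact F) p (p + 1) rfl).app V (L.e V _ t) := stepFun_hd Δ L V F
    rw [← ha, ← hb, ← map_add, k, k, k, map_add, map_add]

theorem stepHom_hd (V : Y.Opens) {S : ShortComplex X.Modules} (hS : S.ShortExact)
    (z : HCo S.X₃ (f ⁻¹ᵁ V) p) :
    stepHom Δ L V S.X₁ (hd (hS.map_of_exact (Scheme.Modules.restrictFunctor (f ⁻¹ᵁ V).ι)) p z) =
      (Δ.δ S hS p (p + 1) rfl).app V (L.e V S.X₃ z) := by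
  let R := Scheme.Modules.restrictFunctor (f ⁻¹ᵁ V).ι
  let φ := toInjSeq hS
  have hT := injSeqM_shortExact S.X₁
  have e1 : hd (hT.map_of_exact R) p (hm (R.map φ.τ₃) p z) = hd (hS.map_of_exact R) p z := by
    refine (hd_natural (hS.map_of_exact R) (hT.map_of_exact R) (R.mapShortComplex.map φ) p z).trans ?_
    change hm (R.map (𝟙 S.X₁)) (p + 1) _ = _
    rw [R.map_id]
    exact hm_id _ _ _
  refine (congrArg (stepHom Δ L V S.X₁) e1.symm).trans ((stepFun_hd Δ L V S.X₁ _).trans ?_)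
  refine (congrArg ((Δ.δ (injSeqM S.X₁) hT p (p + 1) rfl).app V) (L.nat V φ.τ₃ z)).trans ?_
  refine (congr(Scheme.Modules.Hom.app $(Δ.δ_natural hS hT φ p (p + 1) rfl) V (L.e V S.X₃ z))).trans ?_
  change ((Coh.Rpush f (p + 1)).map (𝟙 S.X₁)).app V _ = _
  rw [CategoryTheory.Functor.map_id]
  rfl

/-- One degree up. -/
noncomputable def lvlSucc : CmpLvl f (p + 1) where
  e := stepHom Δ L
  nat V {F G} ψ x := by
    let R := Scheme.Modules.restrictFunctor (f ⁻¹ᵁ V).ι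
    let φ := injSeqMap ψ
    have hF := injSeqM_shortExact F
    have hG := injSeqM_shortExact G
    obtain ⟨z, rfl⟩ := exists_hd_eq hF (f ⁻¹ᵁ V) p x
    refine (congrArg (stepHom Δ L V G)
      (hd_natural (hF.map_of_exact R) (hG.map_of_exact R) (R.mapShortComplex.map φ) p z).symm).trans ?_
    refine (stepHom_hd Δ L V hG _).trans ?_
    refine (congrArg ((Δ.δ (injSeqM G) hG p (p + 1) rfl).app V) (L.nat V φ.τ₃ z)).trans ?_
    refine (congr(Scheme.Modules.Hom.app $(Δ.δ_natural hF hG φ p (p + 1) rfl) V (L.e V _ z))).trans ?_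
    exact congrArg (((Coh.Rpush f (p + 1)).map ψ).app V) (stepHom_hd Δ L V hF z).symm

/-- All degrees. -/
noncomputable def lvl : (p : ℕ) → CmpLvl f p
  | 0 => lvlZero
  | p + 1 => lvlSucc Δ (lvl p)

/-- Comparison maps exist. -/
noncomputable def sectCmp : CohCmp.SectCmp f Δ where
  ε V F p := (lvl Δ p).e V F
  zero V F s :=
    congrArg (((Scheme.Modules.pushforward f).toRightDerivedZero.app F).app V)
      ((sec0 F (f ⁻¹ᵁ V)).symm_apply_apply s)
  natural V {_ _} ψ p x := (lvl Δ p).nat V ψ x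
  delta V _ hS _ p x := stepHom_hd Δ (lvl Δ p) V hS x

theorem exists_sectCmp (f : X ⟶ Y) [HasInjectiveResolutions X.Modules] :
    ∃ Δ : RDer.DerivedLES (Scheme.Modules.pushforward f), Nonempty (CohCmp.SectCmp f Δ) :=
  ⟨Groth.Agent.RDerLib.derivedLES _, ⟨sectCmp _⟩⟩

end CohCmpLib
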