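import Groth.Agent.CohCmpLib.PullAbComp

/-! Composition of pullback of classes over opens. -/

set_option autoImplicit false
set_option maxHeartbeats 1000000

universe u

open CategoryTheory CategoryTheory.Limits AlgebraicGeometry TopologicalSpace Opposite
open KFlatLib (puSec puSecLE)

namespace CohCmpLib

variable {X Y Z : Scheme.{u}}

theorem hp_congr {a b : X ⟶ Y} (e : a = b) (M : Y.Modules) (p : ℕ) (x : HC Y M p) :
    hm ((Scheme.Modules.pullbackCongr e).hom.app M) p (hp a M p x) = hp b M p x := by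
  subst e
  exact hm_id _ p _

theorem puSecLE_natural (g : X ⟶ Y) {M N : Y.Modules} (φ : M ⟶ N) {U : Y.Opens} {W : X.Opens}
    (h : W ≤ g ⁻¹ᵁ U) (m : Γ(M, U)) :
    ((Scheme.Modules.pullback g).map φ).app W (puSecLE g M h m) = puSecLE g N h (φ.app U m) :=
  (QCohLib.app_map ((Scheme.Modules.pullback g).map φ) (homOfLE h) (puSec g m)).trans
    (congrArg (((Scheme.Modules.pullback g).obj N).presheaf.map (homOfLE h).op)
      (KFlatLib.puSec_natural g φ m))

theorem resLE_le (g : X ⟶ Y) {U : Y.Opens} {U' : X.Opens} (h : U' ≤ g ⁻¹ᵁ U)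
    {V : (U : Scheme.{u}).Opens} {W : (U' : Scheme.{u}).Opens} (hW : W ≤ g.resLE U U' h ⁻¹ᵁ V) :
    U'.ι ''ᵁ W ≤ g ⁻¹ᵁ (U.ι ''ᵁ V) := by
  rintro _ ⟨w, hw, rfl⟩
  exact ⟨g.resLE U U' h w, hW hw, congr(($(Scheme.Hom.resLE_comp_ι g h)).base w)⟩

theorem pullOnIso_puSec (g : X ⟶ Y) {U : Y.Opens} {U' : X.Opens} (h : U' ≤ g ⁻¹ᵁ U) (F : Y.Modules)
    {V : (U : Scheme.{u}).Opens} {W : (U' : Scheme.{u}).Opens} (hW : W ≤ g.resLE U U' h ⁻¹ᵁ V)
    (s : Γ(F, U.ι ''ᵁ V)) :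
    (CohPull.pullOnIso g U U' h F).hom.app W
        (puSecLE (g.resLE U U' h) (F.restrict U.ι) hW (show Γ(F.restrict U.ι, V) from s)) =
      (show Γ(((Scheme.Modules.pullback g).obj F).restrict U'.ι, W) from puSecLE g F (resLE_le g h hW) s) := by
  let j := g.resLE U U' h
  let G := (Scheme.Modules.pullback g).obj F
  have hV : V ≤ U.ι ⁻¹ᵁ (U.ι ''ᵁ V) := (U.ι.preimage_image_eq V).ge
  have hU' : W ≤ U'.ι ⁻¹ᵁ (U'.ι ''ᵁ W) := (U'.ι.preimage_image_eq W).ge
  have s1 : ((Scheme.Modules.pullback j).map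
      ((Scheme.Modules.restrictFunctorIsoPullback U.ι).hom.app F)).app W
        (puSecLE j (F.restrict U.ι) hW (show Γ(F.restrict U.ι, V) from s)) =
      puSecLE j _ hW (puSecLE U.ι F hV s) := by
    refine (puSecLE_natural j _ hW _).trans (congrArg (puSecLE j _ hW) ?_)
    refine Eq.trans ?_ (restrictIso_puSec U.ι F s hV)
    refine congrArg (((Scheme.Modules.restrictFunctorIsoPullback U.ι).hom.app F).app V) ?_
    exact congr($((F.presheaf.map_id (op (U.ι ''ᵁ V)))) s).symm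
  have h3 : W ≤ (j ≫ U.ι) ⁻¹ᵁ (U.ι ''ᵁ V) := hW.trans (j.preimage_mono hV)
  have h4 : W ≤ (U'.ι ≫ g) ⁻¹ᵁ (U.ι ''ᵁ V) := hU'.trans (U'.ι.preimage_mono (resLE_le g h hW))
  have s4 : ((Scheme.Modules.pullbackComp U'.ι g).inv.app F).app W (puSecLE (U'.ι ≫ g) F h4 s) =
      puSecLE U'.ι G hU' (puSecLE g F (resLE_le g h hW) s) := by
    rw [← pullbackComp_puSecLE U'.ι g F s (resLE_le g h hW) hU']
    exact congr(Scheme.Modules.Hom.app $((Scheme.Modules.pullbackComp U'.ι g).hom_inv_id_app F) W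
      (puSecLE U'.ι G hU' (puSecLE g F (resLE_le g h hW) s)))
  have s5 : ((Scheme.Modules.restrictFunctorIsoPullback U'.ι).inv.app G).app W
      (puSecLE U'.ι G hU' (puSecLE g F (resLE_le g h hW) s)) =
      (show Γ(G.restrict U'.ι, W) from puSecLE g F (resLE_le g h hW) s) := by
    rw [← restrictIso_puSec U'.ι G (puSecLE g F (resLE_le g h hW) s) hU']
    refine (congr(Scheme.Modules.Hom.app
      $((Scheme.Modules.restrictFunctorIsoPullback U'.ι).hom_inv_id_app G) W _)).trans ?_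
    exact congr($((G.presheaf.map_id (op (U'.ι ''ᵁ W)))) _)
  refine Eq.trans ?_ s5
  refine congrArg (((Scheme.Modules.restrictFunctorIsoPullback U'.ι).inv.app G).app W) ?_
  refine Eq.trans ?_ s4
  refine congrArg (((Scheme.Modules.pullbackComp U'.ι g).inv.app F).app W) ?_
  refine Eq.trans ?_ (pullbackCongr_puSec (Scheme.Hom.resLE_comp_ι g h) F s h3 h4)
  refine congrArg (((Scheme.Modules.pullbackCongr (Scheme.Hom.resLE_comp_ι g h)).hom.app F).app W) ?_
  refine Eq.trans ?_ (pullbackComp_puSecLE j U.ι F s hV hW)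
  exact congrArg (((Scheme.Modules.pullbackComp j U.ι).hom.app F).app W) s1

theorem hom_ext_puSec {g : X ⟶ Y} {M : Y.Modules} {N : X.Modules}
    (a b : (Scheme.Modules.pullback g).obj M ⟶ N)
    (h : ∀ (U : Y.Opens) (m : Γ(M, U)), a.app (g ⁻¹ᵁ U) (puSec g m) = b.app (g ⁻¹ᵁ U) (puSec g m)) :
    a = b := by
  apply ((Scheme.Modules.pullbackPushforwardAdjunction g).homEquiv _ _).injective
  rw [Adjunction.homEquiv_unit, Adjunction.homEquiv_unit]
  ext U m
  exact h U m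

theorem hom_ext_puSec₂ {f : X ⟶ Y} {g : Y ⟶ Z} {M : Z.Modules} {N : X.Modules}
    (a b : (Scheme.Modules.pullback f).obj ((Scheme.Modules.pullback g).obj M) ⟶ N)
    (h : ∀ (U : Z.Opens) (m : Γ(M, U)),
      a.app (f ⁻¹ᵁ (g ⁻¹ᵁ U)) (puSec f (puSec g m)) = b.app (f ⁻¹ᵁ (g ⁻¹ᵁ U)) (puSec f (puSec g m))) :
    a = b := by
  apply ((Scheme.Modules.pullbackPushforwardAdjunction f).homEquiv _ _).injective
  refine hom_ext_puSec _ _ fun U m => ?_
  rw [Adjunction.homEquiv_unit, Adjunction.homEquiv_unit]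
  exact h U m

/-- Pullback of classes over opens composes. -/
theorem hpo_hpo (f : X ⟶ Y) (g : Y ⟶ Z) {U : Z.Opens} {V : Y.Opens} {W : X.Opens} (hV : V ≤ g ⁻¹ᵁ U)
    (hW : W ≤ f ⁻¹ᵁ V) (h : W ≤ (f ≫ g) ⁻¹ᵁ U) (L : Z.Modules) (p : ℕ) (x : HCo L U p) :
    hm ((Scheme.Modules.restrictFunctor W.ι).map ((Scheme.Modules.pullbackComp f g).hom.app L)) p
        (hpo f hW _ p (hpo g hV L p x)) = hpo (f ≫ g) h L p x := by
  have e : f.resLE V W hW ≫ g.resLE U V hV = (f ≫ g).resLE U W h := Scheme.Hom.resLE_comp_resLE ..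
  let Ig := CohPull.pullOnIso g U V hV L
  let If := CohPull.pullOnIso f V W hW ((Scheme.Modules.pullback g).obj L)
  let If' := CohPull.pullOnIso (f ≫ g) U W h L
  let k := f.resLE V W hW
  let k' := g.resLE U V hV
  rw [hpo_apply f hW, hpo_apply g hV, hpo_apply (f ≫ g) h, ← hp_congr e, ← hp_hp, ← hp_natural,
    ← hm_comp, ← hm_comp, ← hm_comp, ← hm_comp]
  refine congrArg (fun t => hm t p (hp k _ p (hp k' (L.restrict U.ι) p x))) ?_
  refine hom_ext_puSec₂ _ _ fun V₀ m => ?_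
  let A : (U : Scheme.{u}).Opens := V₀
  let B := k' ⁻¹ᵁ A
  let C := k ⁻¹ᵁ B
  have hB : B ≤ k' ⁻¹ᵁ A := le_rfl
  have hC : C ≤ k ⁻¹ᵁ B := le_rfl
  have hC' : C ≤ (k ≫ k') ⁻¹ᵁ A := le_rfl
  have hC'' : C ≤ (f ≫ g).resLE U W h ⁻¹ᵁ A := e ▸ hC'
  let s : Γ(L, U.ι ''ᵁ A) := m
  let t := puSecLE g L (resLE_le g hV hB) s
  have hz : puSec k (puSec k' m) = puSecLE k _ hC (puSecLE k' (L.restrict U.ι) hB m) := by
    rw [puSecLE_refl k', puSecLE_refl k]
  have l1 : ((Scheme.Modules.pullback k).map Ig.hom).app C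
      (puSecLE k _ hC (puSecLE k' (L.restrict U.ι) hB m)) =
      puSecLE k (((Scheme.Modules.pullback g).obj L).restrict V.ι) hC t :=
    (puSecLE_natural k Ig.hom hC _).trans (congrArg (puSecLE k _ hC) (pullOnIso_puSec g hV L hB s))
  have l2 := pullOnIso_puSec f hW ((Scheme.Modules.pullback g).obj L) hC t
  have l3 := pullbackComp_puSecLE f g L s (resLE_le g hV hB) (resLE_le f hW hC)
  have r1 := pullbackComp_puSecLE k k' (L.restrict U.ι) m hB hC
  have r2 := pullbackCongr_puSec e (L.restrict U.ι) m hC' hC''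
  have r3 := pullOnIso_puSec (f ≫ g) h L hC'' s
  rw [hz]
  refine Eq.trans (b := puSecLE (f ≫ g) L (resLE_le (f ≫ g) h hC'') s) ?_ ?_
  · refine Eq.trans ?_ l3
    refine congrArg (((Scheme.Modules.pullbackComp f g).hom.app L).app (W.ι ''ᵁ C)) ?_
    refine Eq.trans ?_ l2
    exact congrArg (If.hom.app C) l1
  · refine Eq.trans r3.symm ?_
    refine congrArg (If'.hom.app C) ?_
    refine Eq.trans r2.symm ?_
    exact congrArg (((Scheme.Modules.pullbackCongr e).hom.app (L.restrict U.ι)).app C) r1.symm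

end CohCmpLib
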