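import Groth.Agent.CohCmpLib.Pull
import Groth.Agent.RpushLib.Sections

/-! Degree zero of the pullback on cohomology, and restriction between opens. -/

set_option autoImplicit false
set_option maxHeartbeats 1000000

universe u

open CategoryTheory CategoryTheory.Limits AlgebraicGeometry TopologicalSpace Opposite
open QCohLib (toAbF)
open KFlatLib (puSec puSecLE)

namespace CohCmpLib

variable {X Y : Scheme.{u}}

theorem puSecLE_refl (g : X ⟶ Y) (M : Y.Modules) {U : Y.Opens} (h : g ⁻¹ᵁ U ≤ g ⁻¹ᵁ U) (m : Γ(M, U)) :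
    puSecLE g M h m = puSec g m := by
  rw [KFlatLib.puSecLE_apply]
  exact congr($(((KFlatLib.pb g M).presheaf).map_id (op (g ⁻¹ᵁ U))) (puSec g m))

theorem pullbackId_puSecLE (M : X.Modules) {U V : X.Opens} (h : V ≤ U) (m : Γ(M, U)) :
    ((Scheme.Modules.pullbackId X).hom.app M).app V
        (puSecLE (𝟙 X) M (show V ≤ (𝟙 X) ⁻¹ᵁ U from h) m) =
      M.presheaf.map (homOfLE h).op m := by
  have h0 := unit_conjugateEquiv (Adjunction.id (C := X.Modules))
    (Scheme.Modules.pullbackPushforwardAdjunction (𝟙 X)) (Scheme.Modules.pullbackId X).hom M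
  rw [Scheme.Modules.conjugateEquiv_pullbackId_hom] at h0
  have h1 : ((Scheme.Modules.pullbackId X).hom.app M).app ((𝟙 X) ⁻¹ᵁ U) (puSec (𝟙 X) m) = m :=
    congr(Scheme.Modules.Hom.app $h0 U m).symm
  refine (QCohLib.app_map ((Scheme.Modules.pullbackId X).hom.app M) _ _).trans ?_
  exact congrArg (M.presheaf.map (homOfLE h).op) h1

theorem h0E_sec0 (F : X.Modules) (U : X.Opens) (s : Γ(F, U)) :
    h0E (F.restrict U.ι) (sec0 F U s) =
      (show Γ(F.restrict U.ι, ⊤) from F.presheaf.map (homOfLE U.ι_image_top.le).op s) := by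
  exact AddEquiv.apply_symm_apply _ _

theorem sec0_natural {F G : X.Modules} (φ : F ⟶ G) (U : X.Opens) (s : Γ(F, U)) :
    hm ((Scheme.Modules.restrictFunctor U.ι).map φ) 0 (sec0 F U s) = sec0 G U (φ.app U s) := by
  apply (h0E (G.restrict U.ι)).injective
  rw [h0E_hm, h0E_sec0, h0E_sec0]
  exact QCohLib.app_map φ _ s

variable (g : X ⟶ Y) {U : Y.Opens} {U' : X.Opens} (h : U' ≤ g ⁻¹ᵁ U)

theorem hpo_sec0 (F : Y.Modules) (s : Γ(F, U)) :
    hpo g h F 0 (sec0 F U s) =
      sec0 ((Scheme.Modules.pullback g).obj F) U' (puSecLE g F h s) := by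
  apply (h0E _).injective
  rw [hpo_apply, h0E_hm, h0E_hp, h0E_sec0, h0E_sec0]
  let j := g.resLE U U' h
  let G := (Scheme.Modules.pullback g).obj F
  let s' : Γ(F.restrict U.ι, ⊤) := F.presheaf.map (homOfLE U.ι_image_top.le).op s
  have hU : (⊤ : (U : Scheme.{u}).Opens) ≤ U.ι ⁻¹ᵁ U := fun x _ => x.2
  have hU' : (⊤ : (U' : Scheme.{u}).Opens) ≤ U'.ι ⁻¹ᵁ U' := fun x _ => x.2
  have hj : (⊤ : (U' : Scheme.{u}).Opens) ≤ j ⁻¹ᵁ ⊤ := fun x hx => hx
  have s1 : ((Scheme.Modules.pullback j).map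
      ((Scheme.Modules.restrictFunctorIsoPullback U.ι).hom.app F)).app ⊤ (puSec j s') =
      puSecLE j _ hj (puSecLE U.ι F hU s) := by
    refine (KFlatLib.puSec_natural j _ s').trans ?_
    refine Eq.trans ?_ (puSecLE_refl j _ (le_refl (j ⁻¹ᵁ ⊤)) _).symm
    exact congrArg (puSec j) (restrictIso_puSec U.ι F s hU)
  have h3 : (⊤ : (U' : Scheme.{u}).Opens) ≤ (j ≫ U.ι) ⁻¹ᵁ U := hj.trans (j.preimage_mono hU)
  have h4 : (⊤ : (U' : Scheme.{u}).Opens) ≤ (U'.ι ≫ g) ⁻¹ᵁ U := hU'.trans (U'.ι.preimage_mono h)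
  have s4 : ((Scheme.Modules.pullbackComp U'.ι g).inv.app F).app ⊤ (puSecLE (U'.ι ≫ g) F h4 s) =
      puSecLE U'.ι G hU' (puSecLE g F h s) := by
    rw [← pullbackComp_puSecLE U'.ι g F s h hU']
    exact congr(Scheme.Modules.Hom.app $((Scheme.Modules.pullbackComp U'.ι g).hom_inv_id_app F) ⊤
      (puSecLE U'.ι G hU' (puSecLE g F h s)))
  have s5 : ((Scheme.Modules.restrictFunctorIsoPullback U'.ι).inv.app G).app ⊤
      (puSecLE U'.ι G hU' (puSecLE g F h s)) =
      G.presheaf.map (homOfLE U'.ι_image_top.le).op (puSecLE g F h s) := by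
    rw [← restrictIso_puSec U'.ι G (puSecLE g F h s) hU']
    exact congr(Scheme.Modules.Hom.app $((Scheme.Modules.restrictFunctorIsoPullback U'.ι).hom_inv_id_app G) ⊤
      _)
  refine Eq.trans ?_ s5
  refine congrArg (((Scheme.Modules.restrictFunctorIsoPullback U'.ι).inv.app G).app ⊤) ?_
  refine Eq.trans ?_ s4
  refine congrArg (((Scheme.Modules.pullbackComp U'.ι g).inv.app F).app ⊤) ?_
  refine Eq.trans ?_ (pullbackCongr_puSec (Scheme.Hom.resLE_comp_ι g h) F s h3 h4)
  refine congrArg (((Scheme.Modules.pullbackCongr (Scheme.Hom.resLE_comp_ι g h)).hom.app F).app ⊤) ?_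
  refine Eq.trans ?_ (pullbackComp_puSecLE j U.ι F s hU hj)
  exact congrArg (((Scheme.Modules.pullbackComp j U.ι).hom.app F).app ⊤) s1

section Res

variable {V V' : X.Opens} (le : V' ≤ V)

/-- The restricted pullback along the identity. -/
noncomputable def resIdNat (W : X.Opens) :
    Scheme.Modules.pullback (𝟙 X) ⋙ Scheme.Modules.restrictFunctor W.ι ≅
      Scheme.Modules.restrictFunctor W.ι :=
  Functor.isoWhiskerRight (Scheme.Modules.pullbackId X) _ ≪≫ Functor.leftUnitor _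

theorem hres_apply (F : X.Modules) (p : ℕ) (x : HCo F V p) :
    hres F le p x = hm ((Scheme.Modules.restrictFunctor V'.ι).map
      ((Scheme.Modules.pullbackId X).hom.app F)) p
        (hpo (𝟙 X) (show V' ≤ (𝟙 X) ⁻¹ᵁ V from le) F p x) := rfl

theorem hres_natural {M N : X.Modules} (φ : M ⟶ N) (p : ℕ) (x : HCo M V p) :
    hm ((Scheme.Modules.restrictFunctor V'.ι).map φ) p (hres M le p x) =
      hres N le p (hm ((Scheme.Modules.restrictFunctor V.ι).map φ) p x) := by
  rw [hres_apply, hres_apply]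
  refine Eq.trans ?_ (congrArg (hm ((Scheme.Modules.restrictFunctor V'.ι).map
    ((Scheme.Modules.pullbackId X).hom.app N)) p) (hpo_natural (𝟙 X) le φ p x))
  rw [← hm_comp, ← hm_comp, ← Functor.map_comp, ← Functor.map_comp]
  exact congrArg (fun t => hm ((Scheme.Modules.restrictFunctor V'.ι).map t) p _)
    ((Scheme.Modules.pullbackId X).hom.naturality φ).symm

theorem hres_hd {S : ShortComplex X.Modules} (hS : S.ShortExact) (p : ℕ) (x : HCo S.X₃ V p) :
    hres S.X₁ le (p + 1) (hd (hS.map_of_exact (Scheme.Modules.restrictFunctor V.ι)) p x) =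
      hd (hS.map_of_exact (Scheme.Modules.restrictFunctor V'.ι)) p (hres S.X₃ le p x) := by
  have h' : ((S.map (Scheme.Modules.pullback (𝟙 X))).map (Scheme.Modules.restrictFunctor V'.ι)).ShortExact :=
    ShortComplex.shortExact_of_iso (S.mapNatIso (resIdNat (X := X) V')).symm (hS.map_of_exact _)
  refine (hres_apply le _ _ _).trans (Eq.trans ?_
    (congrArg (hd (hS.map_of_exact (Scheme.Modules.restrictFunctor V'.ι)) p) (hres_apply le S.X₃ p x)).symm)
  refine (congrArg (hm ((Scheme.Modules.restrictFunctor V'.ι).map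
      ((Scheme.Modules.pullbackId X).hom.app S.X₁)) (p + 1))
    (hpo_hd (𝟙 X) le (hS.map_of_exact (Scheme.Modules.restrictFunctor V.ι)) h' p x)).trans ?_
  exact (hd_natural h' (hS.map_of_exact (Scheme.Modules.restrictFunctor V'.ι))
    ((Scheme.Modules.restrictFunctor V'.ι).mapShortComplex.map
      (S.mapNatTrans (Scheme.Modules.pullbackId X).hom)) p _).symm

theorem hres_sec0 (F : X.Modules) (s : Γ(F, V)) :
    hres F le 0 (sec0 F V s) = sec0 F V' (F.presheaf.map (homOfLE le).op s) := by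
  rw [hres_apply, hpo_sec0, sec0_natural]
  exact congrArg (sec0 F V') (pullbackId_puSecLE F le s)

theorem hres_hs (F : X.Modules) (p : ℕ) (r : Coh.Γtop (V : Scheme.{u})) (x : HCo F V p) :
    hres F le p (hs r _ p x) = hs (show Coh.Γtop (V' : Scheme.{u}) from
      ((𝟙 X : X ⟶ X).resLE V V' le).appTop r) _ p (hres F le p x) := by
  rw [hres_apply, hres_apply, hpo_hs, hm_hs]
  rfl

end Res

end CohCmpLib
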