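import Groth.Agent.CohCmpLib.GenExists
import Groth.Prelude.Def_CohBC2

/-! In degree zero the base change maps are the inline ones. -/

set_option autoImplicit false
set_option maxHeartbeats 1000000

universe u

open CategoryTheory CategoryTheory.Limits AlgebraicGeometry TopologicalSpace Opposite

namespace CohCmpLib

variable {X S X' S' : Scheme.{u}} {f : X ⟶ S} {g : S' ⟶ S} {f' : X' ⟶ S'} {g' : X' ⟶ X}
  {w : g' ≫ f = f' ≫ g} [HasInjectiveResolutions X.Modules] [HasInjectiveResolutions X'.Modules]
  {Δ : RDer.DerivedLES (Scheme.Modules.pushforward f)} {Δ' : RDer.DerivedLES (Scheme.Modules.pushforward f')}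
  {E : CohCmp.SectCmp f Δ} {E' : CohCmp.SectCmp f' Δ'}

omit [HasInjectiveResolutions X.Modules] [HasInjectiveResolutions X'.Modules] in
theorem bc0Adj_app (w : g' ≫ f = f' ≫ g) (F : X.Modules) (V : S.Opens) (s : Γ(F, f ⁻¹ᵁ V)) :
    (CohBC.bc0Adj f g f' g' w F).app V s =
      KFlatLib.puSecLE g' F (CohCmp.sqLE f g f' g' w V) s := by
  rw [KFlatLib.puSecLE_apply]
  rfl

theorem genBC_zero (C : CohCmp.GenBC f g f' g' w E E') (F : X.Modules) :
    (Scheme.Modules.pushforward f).toRightDerivedZero.app F ≫ C.φ 0 F =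
      CohBC.bc0Adj f g f' g' w F ≫ (Scheme.Modules.pushforward g).map
        ((Scheme.Modules.pushforward f').toRightDerivedZero.app ((Scheme.Modules.pullback g').obj F)) := by
  refine Scheme.Modules.hom_ext _ _ fun V => ?_
  refine ConcreteCategory.hom_ext _ _ fun s => ?_
  refine (congrArg ((C.φ 0 F).app V) (E.zero V F s).symm).trans ((C.compat V F 0 _).trans ?_)
  refine (congrArg (eps E' (g ⁻¹ᵁ V) ((Scheme.Modules.pullback g').obj F) 0)
    (hpo_sec0 g' (CohCmp.sqLE f g f' g' w V) F s)).trans ?_
  refine (eps_sec0 E' (g ⁻¹ᵁ V) _ _).trans ?_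
  exact congrArg (((Scheme.Modules.pushforward f').toRightDerivedZero.app
    ((Scheme.Modules.pullback g').obj F)).app (g ⁻¹ᵁ V)) (bc0Adj_app w F V s).symm

theorem bc_zero (C : CohCmp.GenBC f g f' g' w E E') (F : X.Modules) :
    (Scheme.Modules.pullback g).map ((Scheme.Modules.pushforward f).toRightDerivedZero.app F) ≫ C.bc 0 F =
      CohBC.bc0 f g f' g' w F ≫
        (Scheme.Modules.pushforward f').toRightDerivedZero.app ((Scheme.Modules.pullback g').obj F) := by
  apply ((Scheme.Modules.pullbackPushforwardAdjunction g).homEquiv _ _).injective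
  rw [Adjunction.homEquiv_naturality_left, Adjunction.homEquiv_naturality_right]
  refine Eq.trans ?_ ((genBC_zero C F).trans ?_)
  · exact congrArg (_ ≫ ·) (Equiv.apply_symm_apply _ _)
  · exact congrArg (· ≫ _) (Equiv.apply_symm_apply _ _).symm

theorem isIso_bc0_of_bc (C : CohCmp.GenBC f g f' g' w E E') (F : X.Modules) [IsIso (C.bc 0 F)] :
    IsIso (CohBC.bc0 f g f' g' w F) := by
  have : IsIso (CohBC.bc0 f g f' g' w F ≫ (Scheme.Modules.pushforward f').toRightDerivedZero.app
      ((Scheme.Modules.pullback g').obj F)) := bc_zero C F ▸ inferInstance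
  exact IsIso.of_isIso_comp_right _ ((Scheme.Modules.pushforward f').toRightDerivedZero.app
    ((Scheme.Modules.pullback g').obj F))

theorem epi_bc_of_bc0 (C : CohCmp.GenBC f g f' g' w E E') (F : X.Modules)
    (h : Epi (CohBC.bc0 f g f' g' w F)) : Epi (C.bc 0 F) := by
  have : Epi ((Scheme.Modules.pullback g).map ((Scheme.Modules.pushforward f).toRightDerivedZero.app F) ≫
      C.bc 0 F) := by
    rw [bc_zero C F]
    exact epi_comp _ _
  exact epi_of_epi ((Scheme.Modules.pullback g).map ((Scheme.Modules.pushforward f).toRightDerivedZero.app F)) _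

end CohCmpLib
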