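import Groth.Agent.CohCmpLib.FibreRows
import Groth.Agent.CohCmpLib.Bc0

/-! Consequences for the inline degree-zero base change map. -/

set_option autoImplicit false
set_option maxRecDepth 8000

universe u

open CategoryTheory CategoryTheory.Limits AlgebraicGeometry TopologicalSpace Opposite
open scoped TensorProduct

namespace CohCmpLib

variable {X S : Scheme.{u}} {f : X ⟶ S} {F : X.Modules} [IsProper f] [LocallyOfFinitePresentation f]
  [Coh.IsQCoh F] [HasInjectiveResolutions X.Modules]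

omit [IsProper f] [LocallyOfFinitePresentation f] [Coh.IsQCoh F] [HasInjectiveResolutions X.Modules] in
theorem Chart.subsingleton_HmB_above {W : S.Opens} (K : Chart f F W) {V : S.Opens} (hle : V ≤ W) (p : ℕ)
    (hp : K.mdl.N < p) :
    letI := K.alg hle
    Subsingleton (HmB (K.a p) (K.b p) Γ(S, V)) := by
  let := K.alg hle
  have : Subsingleton (K.mdl.P.X (p : ℤ) : Type u) :=
    ModuleCat.subsingleton_of_isZero (K.mdl.above _ (by exact_mod_cast hp))
  have h2 : Subsingleton (Γ(S, V) ⊗[K.A₀] (K.mdl.P.X (p : ℤ) : Type u)) := subsingleton_of_forall_eq 0 fun z => by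
    induction z using TensorProduct.induction_on with
    | zero => rfl
    | tmul t x => rw [Subsingleton.elim x 0, TensorProduct.tmul_zero]
    | add x y hx hy => rw [hx, hy, add_zero]
  have h3 : Subsingleton (LinearMap.ker ((K.b p).baseChange Γ(S, V))) :=
    ⟨fun a b => Subtype.ext (h2.elim _ _)⟩
  exact (Submodule.Quotient.mk_surjective _).subsingleton

theorem isOpen_fibre_vanishing (hfp : CohB1.IsFP F) (hfl : FlatMod.IsFlatOver f F) (p : ℕ) :
    IsOpen {s : S | Subsingleton (CohIII.fiberH f F s p)} := by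
  refine isOpen_iff_forall_mem_open.2 fun s hs => ?_
  obtain ⟨Δ, ⟨E⟩⟩ := exists_sectCmp f
  obtain ⟨W, K, hW, hsW⟩ := exists_chart_at hfp hfl s
  obtain ⟨V, -, -, -, hsV, -, -, -, hd⟩ := K.exists_vanishing_nhd E hW le_rfl p hsW hs
  exact ⟨V, hd, V.isOpen, hsV⟩

theorem isOpen_fibre_vanishing_all (hfp : CohB1.IsFP F) (hfl : FlatMod.IsFlatOver f F) :
    IsOpen {s : S | ∀ j : ℕ, 1 ≤ j → Subsingleton (CohIII.fiberH f F s j)} := by
  refine isOpen_iff_forall_mem_open.2 fun s hs => ?_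
  obtain ⟨W, K, hW, hsW⟩ := exists_chart_at hfp hfl s
  refine ⟨(W : Set S) ∩ ⋂ j ∈ Finset.Icc 1 K.mdl.N, {s : S | Subsingleton (CohIII.fiberH f F s j)}, ?_,
    W.isOpen.inter (isOpen_biInter_finset fun j _ => isOpen_fibre_vanishing hfp hfl j),
    hsW, Set.mem_iInter₂.2 fun j hj => hs j (Finset.mem_Icc.1 hj).1⟩
  rintro z ⟨hzW, hz⟩ j hj
  by_cases hjN : j ≤ K.mdl.N
  · exact Set.mem_iInter₂.1 hz j (Finset.mem_Icc.2 ⟨hj, hjN⟩)
  · refine K.subsingleton_fiberH hW le_rfl j ?_ (K.subsingleton_HmB_above le_rfl j (by omega)) hzW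
    let := K.alg (le_refl W)
    exact K.fl_above Γ(S, W) (j + 1) (by omega)

/-- Vanishing in degree one at the points under a base change makes the degree zero map bijective. -/
theorem isIso_bc0_of_fibre_one (hfp : CohB1.IsFP F) (hfl : FlatMod.IsFlatOver f F) {X' S' : Scheme.{u}}
    {g : S' ⟶ S} {f' : X' ⟶ S'} {g' : X' ⟶ X} (H : IsPullback g' f' f g)
    (h : ∀ z : S', Subsingleton (CohIII.fiberH f F (g z) 1)) :
    IsIso (CohBC.bc0 f g f' g' H.w F) := by
  have : HasInjectiveResolutions X'.Modules := inferInstance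
  obtain ⟨Δ, ⟨E⟩⟩ := exists_sectCmp f
  obtain ⟨Δ', ⟨E'⟩⟩ := exists_sectCmp f'
  let B := genBC H.w E E'
  have : IsIso (B.bc 0 F) := isIso_bc_of_compatAt E H E' B 0 fun z => by
    obtain ⟨W, K, hW, hzW⟩ := exists_chart_at hfp hfl (g z)
    obtain ⟨V, hle, -, hV, hzV, a, -, -, -⟩ := K.exists_vanishing_nhd E hW le_rfl 1 hzW (h z)
    exact ⟨W, K, V, hle, hV, hzV, a⟩
  exact isIso_bc0_of_bc B F

/-- Degree one is locally free. -/
theorem exists_free_one (hfp : CohB1.IsFP F) (hfl : FlatMod.IsFlatOver f F) (s : S)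
    (h2 : Subsingleton (CohIII.fiberH f F s 2))
    (h0 : Epi (CohBC.bc0 f (S.fromSpecResidueField s) (f.fiberToSpecResidueField s) (f.fiberι s)
      (f.fiber_fac s) F)) :
    ∃ (O : S.Opens) (n : ℕ), s ∈ O ∧
      Nonempty (((Coh.Rpush f 1).obj F).restrict O.ι ≅ FlatMod.freeMod (↑O) n) := by
  have : HasInjectiveResolutions (f.fiber s).Modules := inferInstance
  obtain ⟨Δ, ⟨E⟩⟩ := exists_sectCmp f
  obtain ⟨Δs, ⟨Es⟩⟩ := exists_sectCmp (f.fiberToSpecResidueField s)
  have hb : Epi ((genBC (f.fiber_fac s) E Es).bc 0 F) := epi_bc_of_bc0 _ F h0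
  obtain ⟨W, K, hW, hsW⟩ := exists_chart_at hfp hfl s
  obtain ⟨q, rfl⟩ := exists_fromSpec hW hsW
  obtain ⟨V₁, h₁, -, hV₁, hs₁, a⟩ := K.exists_fl_of_epi E hW le_rfl 0 q Es (genBC _ E Es) hb
  obtain ⟨V, hle, hVV₁, hV, hsV, b, -, -, -⟩ := K.exists_vanishing_nhd E hV₁ h₁ 2 hs₁ h2
  exact exists_free_at K hV hle 1 (K.flAt_mono a hVV₁) b hsV

end CohCmpLib

namespace CohCmpLib

variable {X S : Scheme.{u}} {f : X ⟶ S} {F : X.Modules}

theorem exists_push_free [HasInjectiveResolutions X.Modules] {O : S.Opens} {n : ℕ}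
    (h : Nonempty (((Coh.Rpush f 0).obj F).restrict O.ι ≅ FlatMod.freeMod (↑O) n)) :
    Nonempty (((Scheme.Modules.pushforward f).obj F).restrict O.ι ≅ FlatMod.freeMod (↑O) n) :=
  have : PreservesFiniteLimits (Scheme.Modules.pushforward f) := preservesFiniteLimits_push
  h.map fun e => (Scheme.Modules.restrictFunctor O.ι).mapIso
    ((Scheme.Modules.pushforward f).rightDerivedZeroIsoSelf.app F).symm ≪≫ e

variable [IsProper f] [LocallyOfFinitePresentation f] [Coh.IsQCoh F]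

theorem exists_push_free_of_fibre_one (hfp : CohB1.IsFP F) (hfl : FlatMod.IsFlatOver f F) (s : S)
    (h : Subsingleton (CohIII.fiberH f F s 1)) :
    ∃ (O : S.Opens) (n : ℕ), s ∈ O ∧
      Nonempty (((Scheme.Modules.pushforward f).obj F).restrict O.ι ≅ FlatMod.freeMod (↑O) n) := by
  have : HasInjectiveResolutions X.Modules := inferInstance
  obtain ⟨Δ, ⟨E⟩⟩ := exists_sectCmp f
  obtain ⟨W, K, hW, hsW⟩ := exists_chart_at hfp hfl s
  obtain ⟨V, hle, -, hV, hsV, a, -, -, -⟩ := K.exists_vanishing_nhd E hW le_rfl 1 hsW h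
  obtain ⟨O, n, hO, e⟩ := exists_free_at K hV hle 0 (K.flAt_zero hle) a hsV
  exact ⟨O, n, hO, exists_push_free e⟩

/-- The neighbourhood of a point with surjective degree zero comparison. -/
theorem exists_nhd_of_epi_bc0 (hfp : CohB1.IsFP F) (hfl : FlatMod.IsFlatOver f F) (s : S)
    (h0 : Epi (CohBC.bc0 f (S.fromSpecResidueField s) (f.fiberToSpecResidueField s) (f.fiberι s)
      (f.fiber_fac s) F)) :
    ∃ U : S.Opens, s ∈ U ∧
      (∀ x ∈ U, ∃ (O : S.Opens) (n : ℕ), x ∈ O ∧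
        Nonempty (((Scheme.Modules.pushforward f).obj F).restrict O.ι ≅ FlatMod.freeMod (↑O) n)) ∧
      ∀ {X' S' : Scheme.{u}} {g : S' ⟶ S} {f' : X' ⟶ S'} {g' : X' ⟶ X} (H : IsPullback g' f' f g),
        (∀ z : S', g z ∈ U) → IsIso (CohBC.bc0 f g f' g' H.w F) := by
  have : HasInjectiveResolutions X.Modules := inferInstance
  have : HasInjectiveResolutions (f.fiber s).Modules := inferInstance
  obtain ⟨Δ, ⟨E⟩⟩ := exists_sectCmp f
  obtain ⟨Δs, ⟨Es⟩⟩ := exists_sectCmp (f.fiberToSpecResidueField s)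
  have hb : Epi ((genBC (f.fiber_fac s) E Es).bc 0 F) := epi_bc_of_bc0 _ F h0
  obtain ⟨W, K, hW, hsW⟩ := exists_chart_at hfp hfl s
  obtain ⟨q, rfl⟩ := exists_fromSpec hW hsW
  obtain ⟨V, hle, -, hV, hsV, a⟩ := K.exists_fl_of_epi E hW le_rfl 0 q Es (genBC _ E Es) hb
  refine ⟨V, hsV, fun x hx => ?_, fun {X' S' g f' g'} H hg => ?_⟩
  · obtain ⟨O, n, hO, e⟩ := exists_free_at K hV hle 0 (K.flAt_zero hle) a hx
    exact ⟨O, n, hO, exists_push_free e⟩
  · have : HasInjectiveResolutions X'.Modules := inferInstance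
    obtain ⟨Δ', ⟨E'⟩⟩ := exists_sectCmp f'
    let B := genBC H.w E E'
    have : IsIso (B.bc 0 F) := isIso_bc_of_compatAt E H E' B 0 fun z => ⟨W, K, V, hle, hV, hg z, a⟩
    exact isIso_bc0_of_bc B F

end CohCmpLib
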