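import Groth.Agent.FlatCxLib.Quot
import Groth.Agent.FlatCxLib.Core
import Groth.Agent.FlatCxLib.Rank
import Groth.Agent.KFlatLib.CxFlat
import Groth.Agent.FlatCrit.Quotient
import Groth.Agent.SemiRankLib.Reduced
import Mathlib.RingTheory.LocalRing.Module
import Mathlib.RingTheory.Flat.Localization
import Mathlib.Algebra.TrivSqZeroExt.Basic

/-! Base change of the homology of a three-term sequence: the exchange criteria. -/

set_option autoImplicit false
set_option maxHeartbeats 1000000

universe u

open scoped TensorProduct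
open FlatCxLib (Hm fibreRank)

namespace CohCmpLib

variable {C : Type u} [CommRing C] {U V W : Type u} [AddCommGroup U] [Module C U] [AddCommGroup V]
  [Module C V] [AddCommGroup W] [Module C W] (a : U →ₗ[C] V) (b : V →ₗ[C] W) (hab : b ∘ₗ a = 0)

/-- The image of the second map with its flatness. -/
theorem flat_range_of_flat_quotient [Module.Flat C W] [Module.Flat C (W ⧸ LinearMap.range b)] :
    Module.Flat C (LinearMap.range b) :=
  KFlatLib.flat_kernel (LinearMap.range b).subtype (LinearMap.range b).mkQ (Submodule.injective_subtype _)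
    (LinearMap.exact_subtype_mkQ _) (Submodule.mkQ_surjective _)

section Base

variable (B : Type u) [CommRing B] [Algebra C B]

theorem one_tmul_mem_ker (y : LinearMap.ker b) : (1 : B) ⊗ₜ[C] y.1 ∈ LinearMap.ker (b.baseChange B) := by
  rw [LinearMap.mem_ker, LinearMap.baseChange_tmul, LinearMap.mem_ker.1 y.2, TensorProduct.tmul_zero]

/-- The class of a pulled back cycle. -/
noncomputable def pullKer : LinearMap.ker b →ₗ[C] Hm (a.baseChange B) (b.baseChange B) where
  toFun y := Submodule.Quotient.mk ⟨_, one_tmul_mem_ker b B y⟩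
  map_add' y z := by
    rw [← Submodule.Quotient.mk_add]
    exact congrArg Submodule.Quotient.mk (Subtype.ext (TensorProduct.tmul_add _ _ _))
  map_smul' r y := by
    rw [RingHom.id_apply, ← Submodule.Quotient.mk_smul]
    exact congrArg Submodule.Quotient.mk (Subtype.ext (TensorProduct.tmul_smul r (1 : B) y.1))

theorem pullKer_apply (y : LinearMap.ker b) :
    pullKer a b B y = Submodule.Quotient.mk ⟨_, one_tmul_mem_ker b B y⟩ := rfl

/-- The pullback of classes. -/
noncomputable def pullHm : Hm a b →ₗ[C] Hm (a.baseChange B) (b.baseChange B) :=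
  Submodule.liftQ _ (pullKer a b B) fun y hy => by
    obtain ⟨x, hx⟩ := hy
    rw [LinearMap.mem_ker, pullKer_apply, Submodule.Quotient.mk_eq_zero]
    refine ⟨(1 : B) ⊗ₜ x, ?_⟩
    rw [LinearMap.baseChange_tmul, hx]
    rfl

theorem pullHm_mk (y : LinearMap.ker b) :
    pullHm a b B (Submodule.Quotient.mk y) = Submodule.Quotient.mk ⟨_, one_tmul_mem_ker b B y⟩ :=
  Submodule.liftQ_apply _ _ _

/-- The exchange map. -/
noncomputable def canHm : B ⊗[C] Hm a b →ₗ[B] Hm (a.baseChange B) (b.baseChange B) :=
  LinearMap.liftBaseChange B (pullHm a b B)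

theorem canHm_mkQ (w : B ⊗[C] LinearMap.ker b)
    (h : (LinearMap.ker b).subtype.lTensor B w ∈ LinearMap.ker (b.baseChange B)) :
    canHm a b B (((LinearMap.range a).comap (LinearMap.ker b).subtype).mkQ.lTensor B w) =
      Submodule.Quotient.mk ⟨(LinearMap.ker b).subtype.lTensor B w, h⟩ := by
  induction w using TensorProduct.induction_on with
  | zero => exact (congrArg _ (map_zero _)).trans ((map_zero _).trans (Submodule.Quotient.mk_zero _).symm)
  | tmul s y =>
    rw [LinearMap.lTensor_tmul, canHm, LinearMap.liftBaseChange_tmul, Submodule.mkQ_apply, pullHm_mk,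
      ← Submodule.Quotient.mk_smul]
    refine congrArg Submodule.Quotient.mk (Subtype.ext ?_)
    change s • ((1 : B) ⊗ₜ[C] y.1) = s ⊗ₜ[C] y.1
    rw [TensorProduct.smul_tmul', smul_eq_mul, mul_one]
  | add x y hx hy =>
    have h0 : ∀ z : B ⊗[C] LinearMap.ker b,
        (LinearMap.ker b).subtype.lTensor B z ∈ LinearMap.ker (b.baseChange B) := fun z => by
      rw [LinearMap.mem_ker]
      change b.lTensor B _ = 0
      rw [← LinearMap.comp_apply, ← LinearMap.lTensor_comp, LinearMap.comp_ker_subtype, LinearMap.lTensor_zero]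
      rfl
    rw [map_add, map_add, hx (h0 x), hy (h0 y), ← Submodule.Quotient.mk_add]
    exact congrArg Submodule.Quotient.mk (Subtype.ext (map_add ((LinearMap.ker b).subtype.lTensor B) x y).symm)

theorem exact_ker_rangeRestrict :
    Function.Exact (LinearMap.ker b).subtype b.rangeRestrict := by
  rw [LinearMap.exact_iff, Submodule.range_subtype, LinearMap.ker_rangeRestrict]

theorem lTensor_ker_mem (w : B ⊗[C] LinearMap.ker b) :
    (LinearMap.ker b).subtype.lTensor B w ∈ LinearMap.ker (b.baseChange B) := by
  rw [LinearMap.mem_ker]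
  change b.lTensor B _ = 0
  rw [← LinearMap.comp_apply, ← LinearMap.lTensor_comp, LinearMap.comp_ker_subtype, LinearMap.lTensor_zero]
  rfl

theorem canHm_surjective_of_injective (hinj : Function.Injective ((LinearMap.range b).subtype.lTensor B)) :
    Function.Surjective (canHm a b B) := by
  intro t
  obtain ⟨v, rfl⟩ := Submodule.Quotient.mk_surjective _ t
  have hv : b.rangeRestrict.lTensor B v.1 = 0 := hinj (by
    rw [map_zero, ← LinearMap.comp_apply, ← LinearMap.lTensor_comp,
      show (LinearMap.range b).subtype ∘ₗ b.rangeRestrict = b from rfl]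
    exact v.2)
  obtain ⟨w, hw⟩ := (lTensor_exact B (exact_ker_rangeRestrict b) (LinearMap.surjective_rangeRestrict b) v.1).1 hv
  refine ⟨_, (canHm_mkQ a b B w (lTensor_ker_mem b B w)).trans ?_⟩
  exact congrArg Submodule.Quotient.mk (Subtype.ext hw)

theorem canHm_surjective_of_flat [Module.Flat C (W ⧸ LinearMap.range b)] :
    Function.Surjective (canHm a b B) :=
  canHm_surjective_of_injective a b B ((LinearMap.lTensor_inj_iff_rTensor_inj (M := B) _).2
    (KFlatLib.rTensor_injective_of_flat_quotient _ (LinearMap.range b).mkQ (Submodule.injective_subtype _)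
      (LinearMap.exact_subtype_mkQ _) (Submodule.mkQ_surjective _) B))

include hab in
theorem canHm_bijective_of_injective (hinj : Function.Injective ((LinearMap.range b).subtype.lTensor B))
    (hker : Function.Injective ((LinearMap.ker b).subtype.lTensor B)) :
    Function.Bijective (canHm a b B) := by
  refine ⟨(injective_iff_map_eq_zero _).2 fun z hz => ?_, canHm_surjective_of_injective a b B hinj⟩
  obtain ⟨w, rfl⟩ := LinearMap.lTensor_surjective B (Submodule.mkQ_surjective
    ((LinearMap.range a).comap (LinearMap.ker b).subtype)) z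
  rw [canHm_mkQ a b B w (lTensor_ker_mem b B w), Submodule.Quotient.mk_eq_zero] at hz
  obtain ⟨u, hu⟩ := hz
  let a' : U →ₗ[C] LinearMap.ker b := a.codRestrict _ fun x => LinearMap.congr_fun hab x
  have hw : w = a'.lTensor B u := hker (by
    rw [← LinearMap.comp_apply (g := a'.lTensor B), ← LinearMap.lTensor_comp, LinearMap.subtype_comp_codRestrict]
    exact hu.symm)
  rw [hw, ← LinearMap.comp_apply, ← LinearMap.lTensor_comp]
  have h0 : ((LinearMap.range a).comap (LinearMap.ker b).subtype).mkQ ∘ₗ a' = 0 :=
    LinearMap.ext fun x => (Submodule.Quotient.mk_eq_zero _).2 ⟨x, rfl⟩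
  rw [h0, LinearMap.lTensor_zero]
  rfl

include hab in
theorem canHm_bijective_of_flat [Module.Flat C W] [Module.Flat C (W ⧸ LinearMap.range b)] :
    Function.Bijective (canHm a b B) := by
  have := flat_range_of_flat_quotient b
  refine canHm_bijective_of_injective a b hab B ?_ ?_
  · exact (LinearMap.lTensor_inj_iff_rTensor_inj (M := B) _).2
      (KFlatLib.rTensor_injective_of_flat_quotient _ (LinearMap.range b).mkQ (Submodule.injective_subtype _)
        (LinearMap.exact_subtype_mkQ _) (Submodule.mkQ_surjective _) B)
  · exact (LinearMap.lTensor_inj_iff_rTensor_inj (M := B) _).2 (KFlatLib.rTensor_injective_of_flat_quotient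
      _ b.rangeRestrict Subtype.val_injective (exact_ker_rangeRestrict b) (LinearMap.surjective_rangeRestrict b) B)

include hab in
/-- Surjectivity of the exchange map makes the image pure at that algebra. -/
theorem injective_range_lTensor_of_surjective (h : Function.Surjective (canHm a b B)) :
    Function.Injective ((LinearMap.range b).subtype.lTensor B) := by
  refine (injective_iff_map_eq_zero _).2 fun y hy => ?_
  obtain ⟨v, rfl⟩ := LinearMap.lTensor_surjective B (LinearMap.surjective_rangeRestrict b) y
  have hv : b.baseChange B v = 0 := by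
    change b.lTensor B v = 0
    rw [← (show (LinearMap.range b).subtype ∘ₗ b.rangeRestrict = b from rfl), LinearMap.lTensor_comp]
    exact hy
  obtain ⟨z, hz⟩ := h (Submodule.Quotient.mk ⟨v, hv⟩)
  obtain ⟨w, rfl⟩ := LinearMap.lTensor_surjective B (Submodule.mkQ_surjective
    ((LinearMap.range a).comap (LinearMap.ker b).subtype)) z
  obtain ⟨u, hu⟩ := (Submodule.Quotient.eq _).1 ((canHm_mkQ a b B w (lTensor_ker_mem b B w)).symm.trans hz)
  have e : v = (LinearMap.ker b).subtype.lTensor B w - a.lTensor B u := by
    have hu' : a.lTensor B u = (LinearMap.ker b).subtype.lTensor B w - v := hu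
    rw [hu']
    abel
  have h1 : b.rangeRestrict ∘ₗ (LinearMap.ker b).subtype = 0 :=
    LinearMap.ext fun x => Subtype.ext (LinearMap.mem_ker.1 x.2)
  have h2 : b.rangeRestrict ∘ₗ a = 0 := LinearMap.ext fun x => Subtype.ext (LinearMap.congr_fun hab x)
  rw [e, map_sub, ← LinearMap.comp_apply, ← LinearMap.lTensor_comp, h1, ← LinearMap.comp_apply,
    ← LinearMap.lTensor_comp, h2, LinearMap.lTensor_zero, LinearMap.lTensor_zero]
  simp

end Base

include hab in
/-- Surjectivity at a residue field makes the cokernel free at that point. -/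
theorem free_localization_of_surjective [Module.Finite C V] [Module.Finite C W] [Module.Free C W]
    (q : PrimeSpectrum C) (h : Function.Surjective (canHm a b q.asIdeal.ResidueField)) :
    Module.Free (Localization.AtPrime q.asIdeal)
      (Localization.AtPrime q.asIdeal ⊗[C] (W ⧸ LinearMap.range b)) := by
  let S := Localization.AtPrime q.asIdeal
  let K := q.asIdeal.ResidueField
  let f := (LinearMap.range b).subtype
  let g : S ⊗[C] W →ₗ[S] S ⊗[C] (W ⧸ LinearMap.range b) := (LinearMap.range b).mkQ.baseChange S
  have : Module.Finite C (LinearMap.range b) := Module.Finite.range b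
  have hex : Function.Exact (f.baseChange S) g :=
    lTensor_exact S (LinearMap.exact_subtype_mkQ _) (Submodule.mkQ_surjective _)
  have hK : Function.Injective (f.baseChange K) := injective_range_lTensor_of_surjective a b hab K h
  have hinj : Function.Injective ((f.baseChange S).lTensor (IsLocalRing.ResidueField S)) := by
    intro x y hxy
    apply (TensorProduct.AlgebraTensorModule.cancelBaseChange C S K K (LinearMap.range b)).injective
    apply hK
    have e := fun z : K ⊗[S] (S ⊗[C] LinearMap.range b) => FlatCxLib.cancelBaseChange_baseChange S K f z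
    rw [← e, ← e]
    exact congrArg (TensorProduct.AlgebraTensorModule.cancelBaseChange C S K K W) hxy
  exact Module.free_of_lTensor_residueField_injective (f.baseChange S) g
    (LinearMap.lTensor_surjective S (Submodule.mkQ_surjective _)) hex hinj

include hab in
/-- Homology as the kernel on the cokernel is projective when both cokernels are. -/
theorem projective_hm [Module.Finite C V] [Module.Projective C W] [Module.Projective C (V ⧸ LinearMap.range a)]
    [Module.Projective C (W ⧸ LinearMap.range b)] :
    Module.Finite C (Hm a b) ∧ Module.Projective C (Hm a b) := by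
  let Bd := LinearMap.range b
  obtain ⟨s, hs⟩ := Module.projective_lifting_property Bd.mkQ (LinearMap.id (R := C)) (Submodule.mkQ_surjective _)
  have : Module.Projective C Bd := by
    refine Module.Projective.of_split Bd.subtype
      ((LinearMap.id - s ∘ₗ Bd.mkQ).codRestrict Bd fun w => ?_) (LinearMap.ext fun w => Subtype.ext ?_)
    rotate_left
    · refine (Submodule.Quotient.mk_eq_zero Bd).1 ?_
      change Bd.mkQ (w - s (Bd.mkQ w)) = 0
      rw [map_sub, show Bd.mkQ (s (Bd.mkQ w)) = Bd.mkQ w from LinearMap.congr_fun hs _, sub_self]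
    · change (w : W) - s (Bd.mkQ (w : W)) = w
      rw [show Bd.mkQ (w : W) = 0 from (Submodule.Quotient.mk_eq_zero Bd).2 w.2, map_zero, sub_zero]
  let bb : (V ⧸ LinearMap.range a) →ₗ[C] Bd := (LinearMap.range a).liftQ b.rangeRestrict (by
    rintro _ ⟨x, rfl⟩
    exact Subtype.ext (LinearMap.congr_fun hab x))
  have hbb : Function.Surjective bb := fun y => by
    obtain ⟨v, hv⟩ := LinearMap.surjective_rangeRestrict b y
    exact ⟨Submodule.Quotient.mk v, hv⟩
  let ι : Hm a b →ₗ[C] (V ⧸ LinearMap.range a) :=
    Submodule.mapQ _ _ (LinearMap.ker b).subtype le_rfl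
  have hι : Function.Injective ι := (injective_iff_map_eq_zero _).2 fun x => by
    obtain ⟨y, rfl⟩ := Submodule.Quotient.mk_surjective _ x
    exact fun h => (Submodule.Quotient.mk_eq_zero _).2 ((Submodule.Quotient.mk_eq_zero _).1 h :)
  have hex : Function.Exact ι bb := fun x => by
    obtain ⟨v, rfl⟩ := Submodule.Quotient.mk_surjective _ x
    constructor
    · intro hv
      exact ⟨Submodule.Quotient.mk ⟨v, congrArg Subtype.val hv⟩, rfl⟩
    · rintro ⟨y, hy⟩
      obtain ⟨y, rfl⟩ := Submodule.Quotient.mk_surjective _ y
      exact (congrArg bb hy.symm).trans (Subtype.ext y.2)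
  obtain ⟨t, ht⟩ := Module.projective_lifting_property bb LinearMap.id hbb
  have hret : ∀ x, x - t (bb x) ∈ LinearMap.range ι := fun x => (hex _).1 (by
    rw [map_sub, show bb (t (bb x)) = bb x from LinearMap.congr_fun ht _, sub_self])
  let r : (V ⧸ LinearMap.range a) →ₗ[C] Hm a b :=
    (LinearEquiv.ofInjective ι hι).symm.toLinearMap ∘ₗ ((LinearMap.id - t ∘ₗ bb).codRestrict _ hret)
  have hr : r ∘ₗ ι = LinearMap.id := LinearMap.ext fun x => by
    refine (LinearEquiv.ofInjective ι hι).injective (Subtype.ext ?_)
    simp only [r, LinearMap.comp_apply, LinearEquiv.coe_coe, LinearEquiv.apply_symm_apply,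
      LinearMap.codRestrict_apply, LinearMap.id_apply, LinearMap.sub_apply, LinearEquiv.ofInjective_apply]
    rw [hex.apply_apply_eq_zero, map_zero, sub_zero]
  exact ⟨Module.Finite.of_surjective r fun x => ⟨ι x, LinearMap.congr_fun hr x⟩,
    Module.Projective.of_split ι r hr⟩

section Converse

variable {Z : Type u} [AddCommGroup Z] [Module C Z] (c : W →ₗ[C] Z) (hbc : c ∘ₗ b = 0)

include hbc in
/-- The cokernel is projective when the next homology and cokernel are. -/
theorem projective_coker_of_hm [Module.Projective C Z] [Module.Projective C (Z ⧸ LinearMap.range c)]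
    [Module.Projective C (Hm b c)] : Module.Projective C (W ⧸ LinearMap.range b) := by
  obtain ⟨s, hs⟩ := Module.projective_lifting_property (LinearMap.range c).mkQ (LinearMap.id (R := C))
    (Submodule.mkQ_surjective _)
  let Cd := LinearMap.range c
  have : Module.Projective C Cd := by
    refine Module.Projective.of_split Cd.subtype
      ((LinearMap.id - s ∘ₗ Cd.mkQ).codRestrict Cd fun w => ?_) (LinearMap.ext fun w => Subtype.ext ?_)
    rotate_left
    · refine (Submodule.Quotient.mk_eq_zero Cd).1 ?_
      change Cd.mkQ (w - s (Cd.mkQ w)) = 0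
      rw [map_sub, show Cd.mkQ (s (Cd.mkQ w)) = Cd.mkQ w from LinearMap.congr_fun hs _, sub_self]
    · change (w : Z) - s (Cd.mkQ (w : Z)) = w
      rw [show Cd.mkQ (w : Z) = 0 from (Submodule.Quotient.mk_eq_zero Cd).2 w.2, map_zero, sub_zero]
  let cc : (W ⧸ LinearMap.range b) →ₗ[C] Cd := (LinearMap.range b).liftQ c.rangeRestrict (by
    rintro _ ⟨x, rfl⟩
    exact Subtype.ext (LinearMap.congr_fun hbc x))
  let ι : Hm b c →ₗ[C] (W ⧸ LinearMap.range b) :=
    Submodule.mapQ _ _ (LinearMap.ker c).subtype le_rfl
  obtain ⟨t, ht⟩ := Module.projective_lifting_property cc LinearMap.id (fun y => by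
    obtain ⟨v, hv⟩ := LinearMap.surjective_rangeRestrict c y
    exact ⟨Submodule.Quotient.mk v, hv⟩)
  have hι : Function.Injective ι := (injective_iff_map_eq_zero _).2 fun x => by
    obtain ⟨y, rfl⟩ := Submodule.Quotient.mk_surjective _ x
    exact fun h => (Submodule.Quotient.mk_eq_zero _).2 ((Submodule.Quotient.mk_eq_zero _).1 h :)
  have hex : ∀ x, cc x = 0 → x ∈ LinearMap.range ι := fun x => by
    obtain ⟨v, rfl⟩ := Submodule.Quotient.mk_surjective _ x
    intro hv
    exact ⟨Submodule.Quotient.mk ⟨v, congrArg Subtype.val hv⟩, rfl⟩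
  have hret : ∀ x, x - t (cc x) ∈ LinearMap.range ι := fun x => hex _ (by
    rw [map_sub, show cc (t (cc x)) = cc x from LinearMap.congr_fun ht _, sub_self])
  let r : (W ⧸ LinearMap.range b) →ₗ[C] Hm b c :=
    (LinearEquiv.ofInjective ι hι).symm.toLinearMap ∘ₗ ((LinearMap.id - t ∘ₗ cc).codRestrict _ hret)
  refine Module.Projective.of_split (r.prod cc) (ι.coprod t) (LinearMap.ext fun x => ?_)
  have e : ι (r x) = x - t (cc x) :=
    congrArg Subtype.val ((LinearEquiv.ofInjective ι hι).apply_symm_apply ⟨x - t (cc x), hret x⟩)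
  simp [e]

end Converse

section Trunc

variable {Z : Type u} [AddCommGroup Z] [Module C Z] (c : W →ₗ[C] Z)

include hab in
/-- Universal exactness gives flatness of the cokernel. -/
theorem flat_coker_of_exact [Module.Flat C W]
    (h : ∀ (M : Type u) [AddCommGroup M] [Module C M] (y : V ⊗[C] M),
      b.rTensor M y = 0 → y ∈ LinearMap.range (a.rTensor M)) :
    Module.Flat C (V ⧸ LinearMap.range a) := by
  rw [Module.Flat.iff_lTensor_preserves_injective_linearMap]
  intro N N' _ _ _ _ f hf
  exact (FlatCxLib.inj_iff a b hab hf).1 fun x hx _ => h N x hx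

include hab in
/-- Descending step: flat homology and flat next cokernel give a flat cokernel. -/
theorem flat_coker_of_hm [Module.Flat C W] [Module.Flat C (W ⧸ LinearMap.range b)]
    [Module.Flat C (Hm a b)] : Module.Flat C (V ⧸ LinearMap.range a) := by
  have := flat_range_of_flat_quotient b
  refine FlatCrit.flat_of_extension (Submodule.mapQ _ _ (LinearMap.ker b).subtype le_rfl :
      Hm a b →ₗ[C] V ⧸ LinearMap.range a)
    ((LinearMap.range a).liftQ b.rangeRestrict (by
      rintro _ ⟨x, rfl⟩
      exact Subtype.ext (LinearMap.congr_fun hab x)) : (V ⧸ LinearMap.range a) →ₗ[C] LinearMap.range b) ?_ ?_ ?_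
  · refine (injective_iff_map_eq_zero _).2 fun x => ?_
    obtain ⟨y, rfl⟩ := Submodule.Quotient.mk_surjective _ x
    exact fun h => (Submodule.Quotient.mk_eq_zero _).2 ((Submodule.Quotient.mk_eq_zero _).1 h :)
  · intro x
    obtain ⟨v, rfl⟩ := Submodule.Quotient.mk_surjective _ x
    constructor
    · intro hv
      exact ⟨Submodule.Quotient.mk ⟨v, congrArg Subtype.val hv⟩, rfl⟩
    · rintro ⟨y, hy⟩
      obtain ⟨y, rfl⟩ := Submodule.Quotient.mk_surjective _ y
      rw [← hy]
      exact Subtype.ext y.2
  · intro y
    obtain ⟨v, hv⟩ := LinearMap.surjective_rangeRestrict b y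
    exact ⟨Submodule.Quotient.mk v, hv⟩

end Trunc

include hab in
/-- Dimension of the homology over a residue field. -/
theorem finrank_hm [Module.Finite C V] [Module.Finite C W] (q : PrimeSpectrum C) :
    Module.finrank q.asIdeal.ResidueField (Hm (a.baseChange q.asIdeal.ResidueField) (b.baseChange q.asIdeal.ResidueField)) +
      fibreRank W q = fibreRank (V ⧸ LinearMap.range a) q + fibreRank (W ⧸ LinearMap.range b) q := by
  let K := q.asIdeal.ResidueField
  have hVW : b.baseChange K ∘ₗ a.baseChange K = 0 := by
    rw [← LinearMap.baseChange_comp, hab, LinearMap.baseChange_zero]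
  have e1 := FlatCxLib.finrank_homology_add (a.baseChange K) (b.baseChange K)
    (LinearMap.range_le_ker_iff.2 hVW)
  have e2 := FlatCxLib.finrank_coker_baseChange (K := K) a
  have e3 := FlatCxLib.finrank_coker_baseChange (K := K) b
  change Module.finrank K (Hm (a.baseChange K) (b.baseChange K)) + _ = _ at e1
  change Module.finrank K (Hm (a.baseChange K) (b.baseChange K)) + Module.finrank K (K ⊗[C] W) =
    Module.finrank K (K ⊗[C] (V ⧸ LinearMap.range a)) + Module.finrank K (K ⊗[C] (W ⧸ LinearMap.range b))
  omega

end CohCmpLib
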