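import Groth.Agent.CohCmpLib.CxModel
import Groth.Agent.CohCmpLib.Hm
import Mathlib.RingTheory.Spectrum.Prime.FreeLocus

/-! Criteria for base changes of three-term sequences of finite free modules. -/

set_option autoImplicit false

universe u

open scoped TensorProduct
open FlatCxLib (Hm fibreRank)

namespace CohCmpLib

variable {A : Type u} [CommRing A] {U V W U' V' W' : Type u} [AddCommGroup U] [Module A U]
  [AddCommGroup V] [Module A V] [AddCommGroup W] [Module A W] [AddCommGroup U'] [Module A U']
  [AddCommGroup V'] [Module A V'] [AddCommGroup W'] [Module A W']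
  (a : U →ₗ[A] V) (b : V →ₗ[A] W)

/-- The cokernel after base change. -/
abbrev cokB (C : Type u) [CommRing C] [Algebra A C] : Type u :=
  (C ⊗[A] V) ⧸ LinearMap.range (a.baseChange C)

/-- The homology after base change. -/
abbrev HmB (C : Type u) [CommRing C] [Algebra A C] : Type u :=
  Hm (a.baseChange C) (b.baseChange C)

section Tower

variable (B B' : Type u) [CommRing B] [CommRing B'] [Algebra A B] [Algebra A B'] [Algebra B B']
  [IsScalarTower A B B']

/-- Base change of cokernels in a tower. -/
noncomputable def cokTow : B' ⊗[B] cokB a B ≃ₗ[B'] cokB a B' :=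
  let g := (LinearMap.range (a.baseChange B)).mkQ.baseChange B'
  have hsurj : Function.Surjective g := LinearMap.lTensor_surjective B' (Submodule.mkQ_surjective _)
  have hker : LinearMap.ker g = LinearMap.range ((a.baseChange B).baseChange B') := by
    ext x
    exact lTensor_exact B' (LinearMap.exact_map_mkQ_range (a.baseChange B)) (Submodule.mkQ_surjective _) x
  (g.quotKerEquivOfSurjective hsurj).symm ≪≫ₗ Submodule.quotEquivOfEq _ _ hker ≪≫ₗ
    Submodule.Quotient.equiv _ _ (TensorProduct.AlgebraTensorModule.cancelBaseChange A B B' B' V)
      (FlatCxLib.map_range_equiv _ _ (TensorProduct.AlgebraTensorModule.cancelBaseChange A B B' B' U) _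
        fun x => FlatCxLib.cancelBaseChange_baseChange B B' a x)

theorem flat_cokB_of_flat_tensor [Module.Flat B' (B' ⊗[B] cokB a B)] : Module.Flat B' (cokB a B') :=
  Module.Flat.of_linearEquiv (cokTow a B B').symm

theorem flat_cokB [Module.Flat B (cokB a B)] : Module.Flat B' (cokB a B') :=
  flat_cokB_of_flat_tensor a B B'

theorem bijective_canHm_of_flat (hab : b ∘ₗ a = 0) [Module.Flat A W] [Module.Flat B (cokB b B)] :
    Function.Bijective (canHm (a.baseChange B) (b.baseChange B) B') := by
  have h : b.baseChange B ∘ₗ a.baseChange B = 0 := by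
    rw [← LinearMap.baseChange_comp, hab, LinearMap.baseChange_zero]
  have : Module.Flat B (B ⊗[A] W ⧸ LinearMap.range (b.baseChange B)) := ‹Module.Flat B (cokB b B)›
  exact canHm_bijective_of_flat _ _ h B'

variable {a b} {a' : U' →ₗ[A] V'} {b' : V' →ₗ[A] W'}

/-- Comparison of the exchange maps along a map of sequences. -/
theorem canHm_bc_iff (m : MidMap a b a' b') (h : Function.Bijective (m.bc B).hm)
    (h' : Function.Bijective (m.bc B').hm) :
    (Function.Bijective (canHm (a.baseChange B) (b.baseChange B) B') ↔
      Function.Bijective (canHm (a'.baseChange B) (b'.baseChange B) B')) ∧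
    (Function.Surjective (canHm (a.baseChange B) (b.baseChange B) B') ↔
      Function.Surjective (canHm (a'.baseChange B) (b'.baseChange B) B')) := by
  let e := LinearEquiv.ofBijective _ h
  let e' := LinearEquiv.ofBijective _ h'
  let l := LinearMap.liftBaseChange B' (towHm (B := B) (B' := B') a b)
  let l' := LinearMap.liftBaseChange B' (towHm (B := B) (B' := B') a' b')
  have key : ⇑l' ∘ ⇑(LinearEquiv.baseChange B B' _ _ e) = ⇑e' ∘ ⇑l := by
    funext z
    induction z using TensorProduct.induction_on with
    | zero => simp
    | tmul t x =>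
      simp only [Function.comp_apply, l, l', LinearEquiv.baseChange_tmul, LinearMap.liftBaseChange_tmul, map_smul]
      exact congrArg (t • ·) (m.hm_tow x)
    | add x y hx hy =>
      simp only [Function.comp_apply, map_add] at hx hy ⊢
      rw [hx, hy]
  constructor
  · rw [← bijective_tow_iff a b, ← bijective_tow_iff a' b', ← Function.Bijective.of_comp_iff l'
      (LinearEquiv.baseChange B B' _ _ e).bijective, key, Function.Bijective.of_comp_iff' e'.bijective]
  · rw [← surjective_tow_iff a b, ← surjective_tow_iff a' b', ← EquivLike.surjective_comp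
      (LinearEquiv.baseChange B B' _ _ e) (f := ⇑l'), key, EquivLike.comp_surjective]

end Tower

/-- The exchange map only depends on the algebra up to isomorphism. -/
theorem surjective_canHm_algEquiv {C : Type u} [CommRing C] {U V W : Type u} [AddCommGroup U] [Module C U]
    [AddCommGroup V] [Module C V] [AddCommGroup W] [Module C W] {a : U →ₗ[C] V} {b : V →ₗ[C] W}
    {D D' : Type u} [CommRing D] [CommRing D'] [Algebra C D] [Algebra C D'] (e : D ≃ₐ[C] D')
    (hab : b ∘ₗ a = 0) (h : Function.Surjective (canHm a b D)) : Function.Surjective (canHm a b D') := by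
  refine canHm_surjective_of_injective a b D' ?_
  let i := (LinearMap.range b).subtype
  have hsq : ⇑(TensorProduct.congr e.toLinearEquiv (LinearEquiv.refl C W)) ∘ ⇑(i.lTensor D) =
      ⇑(i.lTensor D') ∘ ⇑(TensorProduct.congr e.toLinearEquiv (LinearEquiv.refl C (LinearMap.range b))) := by
    funext z
    induction z using TensorProduct.induction_on with
    | zero => simp
    | tmul t x => simp [i]
    | add x y hx hy =>
      simp only [Function.comp_apply, map_add] at hx hy ⊢
      rw [hx, hy]
  have hinj := (TensorProduct.congr e.toLinearEquiv (LinearEquiv.refl C W)).injective.comp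
    (injective_range_lTensor_of_surjective a b hab D h)
  rw [hsq] at hinj
  exact (EquivLike.injective_comp _ _).1 hinj

section Loc

variable (hab : b ∘ₗ a = 0) {C : Type u} [CommRing C] [Algebra A C]

include hab in
theorem baseChange_comp_eq_zero : b.baseChange C ∘ₗ a.baseChange C = 0 := by
  rw [← LinearMap.baseChange_comp, hab, LinearMap.baseChange_zero]

/-- The cokernel of a map to a finite free module from a finite module is finitely presented. -/
theorem finitePresentation_cokB [Module.Finite A U] [Module.Finite A V] [Module.Free A V] :
    Module.FinitePresentation C (cokB a C) :=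
  have : Module.FinitePresentation C (C ⊗[A] V) := Module.finitePresentation_of_projective _ _
  Module.finitePresentation_of_surjective _ (Submodule.mkQ_surjective _)
    (by rw [Submodule.ker_mkQ]; exact Module.Finite.iff_fg.1 (Module.Finite.range (a.baseChange C)))

theorem projective_cokB [Module.Finite A U] [Module.Finite A V] [Module.Free A V]
    [Module.Flat C (cokB a C)] : Module.Projective C (cokB a C) := by
  have := finitePresentation_cokB a (C := C)
  exact Module.Flat.projective_of_finitePresentation

/-- A cokernel free at a point is flat near that point. -/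
theorem exists_flat_cokB [Module.Finite A U] [Module.Finite A V] [Module.Free A V] (q : PrimeSpectrum C)
    (h : Module.Free (Localization.AtPrime q.asIdeal) (Localization.AtPrime q.asIdeal ⊗[C] cokB a C)) :
    ∃ r : C, r ∉ q.asIdeal ∧ ∀ (D : Type u) [CommRing D] [Algebra A D] [Algebra C D] [IsScalarTower A C D]
      [IsLocalization.Away r D], Module.Flat D (cokB a D) := by
  have := finitePresentation_cokB a (C := C)
  obtain ⟨r, hr, hfree, -⟩ := Module.FinitePresentation.exists_free_localizedModule_powers q.asIdeal.primeCompl
    (TensorProduct.mk C (Localization.AtPrime q.asIdeal) (cokB a C) 1) (Localization.AtPrime q.asIdeal)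
  refine ⟨r, hr, fun D _ _ _ _ _ => ?_⟩
  let L := Localization.Away r
  have : Module.Free L (L ⊗[C] cokB a C) :=
    Module.Free.of_equiv (LocalizedModule.equivTensorProduct (Submonoid.powers r) (cokB a C))
  let eD : L ≃ₐ[C] D := IsLocalization.algEquiv (Submonoid.powers r) L D
  let : Algebra L D := eD.toRingEquiv.toRingHom.toAlgebra
  have : IsScalarTower C L D := IsScalarTower.of_algebraMap_eq fun x => (eD.commutes x).symm
  have : Module.Flat D (D ⊗[C] cokB a C) :=
    Module.Flat.of_linearEquiv (TensorProduct.AlgebraTensorModule.cancelBaseChange C L D D (cokB a C)).symm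
  exact flat_cokB_of_flat_tensor a C D

variable [Module.Finite A V] [Module.Finite A W] [Module.Free A W]

include hab in
/-- Surjectivity at a point makes the next cokernel flat near it. -/
theorem exists_flat_of_surjective [Module.Free A V] (q : PrimeSpectrum C)
    (h : Function.Surjective (canHm (a.baseChange C) (b.baseChange C) q.asIdeal.ResidueField)) :
    ∃ r : C, r ∉ q.asIdeal ∧ ∀ (D : Type u) [CommRing D] [Algebra A D] [Algebra C D] [IsScalarTower A C D]
      [IsLocalization.Away r D], Module.Flat D (cokB b D) :=
  exists_flat_cokB b q (free_localization_of_surjective _ _ (baseChange_comp_eq_zero a b hab) q h)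

include hab in
/-- Surjectivity at all points makes the next cokernel flat. -/
theorem flat_of_forall_surjective
    (h : ∀ q : PrimeSpectrum C,
      Function.Surjective (canHm (a.baseChange C) (b.baseChange C) q.asIdeal.ResidueField)) :
    Module.Flat C (cokB b C) := by
  refine Module.flat_of_localized_maximal (cokB b C) fun P hP => ?_
  have := free_localization_of_surjective _ _ (baseChange_comp_eq_zero a b hab) ⟨P, hP.isPrime⟩ (h _)
  have : Module.Flat (Localization.AtPrime P) (LocalizedModule P.primeCompl (cokB b C)) :=
    Module.Flat.of_linearEquiv (LocalizedModule.equivTensorProduct P.primeCompl (cokB b C))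
  exact Module.Flat.trans C (Localization.AtPrime P) _

include hab in
/-- Homology of a finite sequence with flat next cokernel is finite. -/
theorem finite_HmB [Module.Free A V] [Module.Flat C (cokB b C)] : Module.Finite C (HmB a b C) := by
  let β := b.baseChange C
  have : Module.Flat C (C ⊗[A] W ⧸ LinearMap.range β) := ‹Module.Flat C (cokB b C)›
  have := flat_range_of_flat_quotient β
  have := projective_cokB b (C := C)
  have : Module.Projective C (C ⊗[A] W ⧸ LinearMap.range β) := ‹Module.Projective C (cokB b C)›
  obtain ⟨s, hs⟩ := Module.projective_lifting_property (LinearMap.range β).mkQ (LinearMap.id (R := C))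
    (Submodule.mkQ_surjective _)
  have : Module.Projective C (LinearMap.range β) := by
    refine Module.Projective.of_split (LinearMap.range β).subtype
      ((LinearMap.id - s ∘ₗ (LinearMap.range β).mkQ).codRestrict _ fun w => ?_)
      (LinearMap.ext fun w => Subtype.ext ?_)
    rotate_left
    · refine (Submodule.Quotient.mk_eq_zero _).1 ?_
      change (LinearMap.range β).mkQ (w - s ((LinearMap.range β).mkQ w)) = 0
      rw [map_sub]
      exact sub_eq_zero.2 (LinearMap.congr_fun hs _).symm
    · change (w : C ⊗[A] W) - s ((LinearMap.range β).mkQ (w : C ⊗[A] W)) = w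
      rw [show (LinearMap.range β).mkQ (w : C ⊗[A] W) = 0 from (Submodule.Quotient.mk_eq_zero _).2 w.2,
        map_zero, sub_zero]
  obtain ⟨t, ht⟩ := Module.projective_lifting_property β.rangeRestrict LinearMap.id
    (LinearMap.surjective_rangeRestrict β)
  let r : C ⊗[A] V →ₗ[C] LinearMap.ker β :=
    (LinearMap.id - t ∘ₗ β.rangeRestrict).codRestrict _ fun v => by
      rw [LinearMap.mem_ker, LinearMap.sub_apply, map_sub]
      exact sub_eq_zero.2 (congrArg Subtype.val (LinearMap.congr_fun ht (β.rangeRestrict v))).symm
  have : Module.Finite C (LinearMap.ker β) := Module.Finite.of_surjective r fun y => ⟨y.1, Subtype.ext (by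
    change y.1 - t (β.rangeRestrict y.1) = y.1
    rw [show β.rangeRestrict y.1 = 0 from Subtype.ext y.2, map_zero, sub_zero])⟩
  exact Module.Finite.quotient C _

include hab in
/-- Vanishing at a point spreads. -/
theorem exists_subsingleton_of_flat [Module.Free A V] [Module.Flat C (cokB b C)] (q : PrimeSpectrum C)
    (h : Subsingleton (HmB a b q.asIdeal.ResidueField)) :
    ∃ r : C, r ∉ q.asIdeal ∧ ∀ (D : Type u) [CommRing D] [Algebra A D] [Algebra C D] [IsScalarTower A C D]
      [IsLocalization.Away r D], Subsingleton (HmB a b D) ∧ Module.Flat D (cokB a D) ∧ Module.Flat D (cokB b D) := by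
  have := finite_HmB a b hab (C := C)
  let K := q.asIdeal.ResidueField
  have hK : Subsingleton (K ⊗[C] HmB a b C) :=
    have := (towEquiv (B := C) (B' := K) a b).toEquiv.subsingleton
    (bijective_canHm_of_flat a b C K hab).1.subsingleton
  have hq : q ∉ Module.support C (HmB a b C) := by
    rwa [Module.mem_support_iff_nontrivial_residueField_tensorProduct, not_nontrivial_iff_subsingleton]
  rw [Module.support_eq_zeroLocus, PrimeSpectrum.mem_zeroLocus, Set.not_subset] at hq
  obtain ⟨r, hr, hrq⟩ := hq
  refine ⟨r, hrq, fun D _ _ _ _ _ => ?_⟩
  have hb : Module.Flat D (cokB b D) := flat_cokB b C D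
  have hz : ∀ z : D ⊗[C] HmB a b C, z = 0 := fun z => by
    induction z using TensorProduct.induction_on with
    | zero => rfl
    | tmul d x =>
      obtain ⟨u, hu⟩ := IsLocalization.map_units D (⟨r, ⟨1, pow_one r⟩⟩ : Submonoid.powers r)
      have e : d = r • ((↑u⁻¹ : D) * d) := by
        rw [Algebra.smul_def, ← mul_assoc, ← hu, Units.mul_inv, one_mul]
      rw [e, TensorProduct.smul_tmul, Module.mem_annihilator.1 hr x, TensorProduct.tmul_zero]
    | add x y hx hy => rw [hx, hy, add_zero]
  have hD : Subsingleton (HmB a b D) := by
    refine subsingleton_of_forall_eq 0 fun x => ?_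
    obtain ⟨y, rfl⟩ := (towEquiv (B := C) (B' := D) a b).surjective x
    obtain ⟨z, rfl⟩ := (bijective_canHm_of_flat a b C D hab).2 y
    rw [hz z, map_zero, map_zero]
  have : Module.Flat D (Hm (a.baseChange D) (b.baseChange D)) := inferInstance
  have : Module.Flat D (D ⊗[A] W ⧸ LinearMap.range (b.baseChange D)) := hb
  exact ⟨hD, flat_coker_of_hm _ _ (baseChange_comp_eq_zero a b hab), hb⟩

include hab in
/-- Dimensions at points. -/
theorem finrank_HmB_residue (q : PrimeSpectrum C) :
    Module.finrank q.asIdeal.ResidueField (HmB a b q.asIdeal.ResidueField) + fibreRank (C ⊗[A] W) q =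
      fibreRank (cokB a C) q + fibreRank (cokB b C) q := by
  rw [← (towEquiv (B := C) a b).finrank_eq]
  exact finrank_hm _ _ (baseChange_comp_eq_zero a b hab) q

include hab in
/-- Locally constant ranks over a reduced ring give flat cokernels. -/
theorem flat_of_locallyConstant [_root_.IsReduced C] [Module.Finite A U] [Module.Free A V]
    (h : IsLocallyConstant fun q : PrimeSpectrum C =>
      Module.finrank q.asIdeal.ResidueField (HmB a b q.asIdeal.ResidueField)) :
    Module.Flat C (cokB a C) ∧ Module.Flat C (cokB b C) := by
  have := finitePresentation_cokB a (C := C)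
  have := finitePresentation_cokB b (C := C)
  have : Module.FinitePresentation C (C ⊗[A] W) := Module.finitePresentation_of_projective _ _
  have hW : IsLocallyConstant fun q : PrimeSpectrum C => fibreRank (C ⊗[A] W) q := by
    simp only [FlatCxLib.fibreRank_eq_rankAtStalk]
    exact Module.isLocallyConstant_rankAtStalk
  have hev : ∀ x : PrimeSpectrum C, ∀ᶠ y in nhds x,
      fibreRank (cokB a C) y = fibreRank (cokB a C) x ∧ fibreRank (cokB b C) y = fibreRank (cokB b C) x := fun x => by
    filter_upwards [h.eventually_eq x, hW.eventually_eq x, FlatCxLib.eventually_fibreRank_le (cokB a C) x,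
      FlatCxLib.eventually_fibreRank_le (cokB b C) x] with y h1 h2 h3 h4
    have := finrank_HmB_residue a b hab x
    have := finrank_HmB_residue a b hab y
    constructor <;> omega
  have hspec : ∀ p q : PrimeSpectrum C, p ≤ q →
      fibreRank (cokB a C) p = fibreRank (cokB a C) q ∧ fibreRank (cokB b C) p = fibreRank (cokB b C) q :=
    fun p q hpq => by
      obtain ⟨O, hO, hOo, hqO⟩ := eventually_nhds_iff.1 (hev q)
      exact hO p ((PrimeSpectrum.le_iff_specializes p q).1 hpq |>.mem_open hOo hqO)
  have := SemiRankLib.projective_of_fibreRank_le_const (cokB a C) fun p q h => (hspec p q h).1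
  have := SemiRankLib.projective_of_fibreRank_le_const (cokB b C) fun p q h => (hspec p q h).2
  exact ⟨inferInstance, inferInstance⟩

end Loc

end CohCmpLib
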