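import Groth.Agent.CohCmpLib.Crit

/-! Isomorphism criterion for transposed maps on a chosen family of affine opens. -/

set_option autoImplicit false
set_option maxHeartbeats 1000000

universe u

open CategoryTheory CategoryTheory.Limits AlgebraicGeometry TopologicalSpace Opposite TensorProduct
open RpushLib (secMap₀ extSL)

namespace CohCmpLib

variable {S S' : Scheme.{u}} (g : S' ⟶ S)

/-- A map out of a pullback is an isomorphism when its adjoint induces bijections over a basis of pairs of
affine opens. -/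
theorem isIso_homEquiv_symm_of {N : S.Modules} [Coh.IsQCoh N] {N' : S'.Modules}
    (β : N ⟶ (Scheme.Modules.pushforward g).obj N') (P : S.Opens → S'.Opens → Prop)
    (hP : Opens.IsBasis {U' : S'.Opens | IsAffineOpen U' ∧ ∃ U : S.Opens, IsAffineOpen U ∧ U' ≤ g ⁻¹ᵁ U ∧ P U U'})
    (h : ∀ (U : S.Opens) (U' : S'.Opens), IsAffineOpen U → IsAffineOpen U' → P U U' → ∀ hle : U' ≤ g ⁻¹ᵁ U,
      letI := (g.appLE U U' hle).hom.toAlgebra
      Function.Bijective (extSL (secMap₀ (σ := algebraMap Γ(S, U) Γ(S', U')) g (RingHom.id Γ(S, U))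
        (RingHom.id Γ(S', U')) hle (fun _ => rfl) β))) :
    IsIso (((Scheme.Modules.pullbackPushforwardAdjunction g).homEquiv N N').symm β) := by
  refine RpushLib.isIso_of_bijective_basis _ hP fun U' ⟨hU', U, hU, hle, hp⟩ => ?_
  let φ := ((Scheme.Modules.pullbackPushforwardAdjunction g).homEquiv N N').symm β
  let := (g.appLE U U' hle).hom.toAlgebra
  let Q := KFlatLib.pb g N
  let : Module Γ(S, U) Γ(Q, U') := Module.compHom Γ(Q, U') (g.appLE U U' hle).hom
  have : IsScalarTower Γ(S, U) Γ(S', U') Γ(Q, U') := IsScalarTower.of_algebraMap_smul fun _ _ => rfl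
  let Ψ : Γ(N, U) →ₗ[Γ(S, U)] Γ(Q, U') :=
    { toFun := KFlatLib.puSecLE g N hle
      map_add' := map_add _
      map_smul' := fun r m => KFlatLib.puSecLE_smul g N hle r m }
  have hbc := KFlatLib.isBaseChange_puSec g N hU hU' hle (fun _ => rfl) Ψ fun _ => rfl
  have hβ : ∀ m : Γ(N, U), φ.app U' (Ψ m) = N'.presheaf.map (homOfLE hle).op (β.app U m) := fun m => by
    have e : (Scheme.Modules.pullbackPushforwardAdjunction g).unit.app N ≫
        (Scheme.Modules.pushforward g).map φ = β := by
      exact ((Scheme.Modules.pullbackPushforwardAdjunction g).homEquiv_unit N N' φ).symm.trans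
        (Equiv.apply_symm_apply _ β)
    refine (QCohLib.app_map φ (homOfLE hle) (KFlatLib.puSec g (M := N) (U := U) m)).trans ?_
    refine congrArg (N'.presheaf.map (homOfLE hle).op) ?_
    exact congrArg (fun ψ : N ⟶ _ => ψ.app U m) e
  let σ₀ := secMap₀ (σ := algebraMap Γ(S, U) Γ(S', U')) g (RingHom.id Γ(S, U))
    (RingHom.id Γ(S', U')) hle (fun _ => rfl) β
  have key : ∀ x : Γ(S', U') ⊗[Γ(S, U)] Γ(N, U), φ.app U' (hbc.equiv x) = (extSL σ₀ x : Γ(N', U')) := by
    intro x
    induction x using TensorProduct.induction_on with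
    | zero => rw [map_zero, map_zero]; exact (map_zero (extSL σ₀)).symm
    | tmul b m =>
      refine Eq.trans ?_ (RpushLib.extSL_tmul σ₀ b m).symm
      rw [IsBaseChange.equiv_tmul, QCohLib.app_smul, hβ]
      rfl
    | add x y hx hy =>
      rw [map_add, map_add, hx, hy]
      exact (map_add (extSL σ₀) x y).symm
  have hb : Function.Bijective fun x => φ.app U' (hbc.equiv x) := by
    rw [funext key]
    exact h U U' hU hU' hp hle
  exact (Function.Bijective.of_comp_iff _ hbc.equiv.bijective).mp hb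

/-- Flatness over the base, on sections over affine opens. -/
theorem flat_sections_over {Y : Scheme.{u}} (b : Y ⟶ S) (G : Y.Modules) [Coh.IsQCoh G]
    (hfl : FlatMod.IsFlatOver b G) {W : S.Opens} (hW : IsAffineOpen W) {U : Y.Opens} (hU : IsAffineOpen U)
    (hle : U ≤ b ⁻¹ᵁ W) :
    letI := Module.compHom Γ(G, U) (b.appLE W U hle).hom
    Module.Flat Γ(S, W) Γ(G, U) := by
  let : Algebra Γ(S, W) Γ(Y, U) := (b.appLE W U hle).hom.toAlgebra
  let : Module Γ(S, W) Γ(G, U) := Module.compHom _ (b.appLE W U hle).hom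
  have : IsScalarTower Γ(S, W) Γ(Y, U) Γ(G, U) := IsScalarTower.of_algebraMap_smul fun _ _ => rfl
  refine (RichLib.FlatColimit.flat_iff_flatLocus_eq_univ (S := Γ(Y, U))).2 fun q => ?_
  let P : (U : Scheme.{u}) := hU.isoSpec.inv.base q
  have hq : hU.primeIdealOf ⟨P.1, P.2⟩ = q := by
    change hU.isoSpec.hom.base P = q
    exact congrArg (fun g => g.base q) hU.isoSpec.inv_hom_id
  rw [← hq]
  exact (FlatLib.isFlatOverAt_iff b G W hW U hU hle P.2 rfl).1 (hfl P.1)

theorem Ch.Univ.acyclic {R : Type u} [CommRing R] {U : Scheme.{u}} {φ : U ⟶ Spec (CommRingCat.of R)} {c : Ch U}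
    (hc : c.Univ φ) : c.Acyclic := fun q m => by
  have hid : IsPullback (𝟙 U) φ φ (Spec.map (CommRingCat.ofHom (algebraMap R R))) := by
    have e : CommRingCat.ofHom (algebraMap R R) = 𝟙 (CommRingCat.of R) := rfl
    rw [e, Spec.map_id]
    exact IsPullback.of_id_fst
  have := (hc.good q R hid).1 m
  exact subsingleton_HC_of_iso ((Scheme.Modules.pullbackId U).app (c.C q)) (m + 1)

end CohCmpLib
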