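import Groth.Agent.CohCmpLib.Chart
import Groth.Agent.CohCmpLib.Alg
import Groth.Agent.CohCmpLib.IsoCrit
import Groth.Agent.FormalLib.ModPow

/-! Higher direct images and base change maps through the models. -/

set_option autoImplicit false
set_option maxRecDepth 8000

universe u

open CategoryTheory CategoryTheory.Limits AlgebraicGeometry TopologicalSpace Opposite TensorProduct
open RpushLib (overW secFun secMap₀ extSL)
open CohBCLib (HA)
open FlatCxLib (Hm fibreRank)

namespace CohCmpLib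

variable {X S : Scheme.{u}} {f : X ⟶ S} {F : X.Modules} {W : S.Opens} (K : Chart f F W)

/-- The left differential. -/
noncomputable abbrev Chart.a (p : ℕ) :
    (K.mdl.P.X ((p : ℤ) - 1) : Type u) →ₗ[K.A₀] (K.mdl.P.X (p : ℤ) : Type u) :=
  (K.mdl.P.d ((p : ℤ) - 1) p).hom

/-- The right differential. -/
noncomputable abbrev Chart.b (p : ℕ) :
    (K.mdl.P.X (p : ℤ) : Type u) →ₗ[K.A₀] (K.mdl.P.X ((p + 1 : ℕ) : ℤ) : Type u) :=
  (K.mdl.P.d (p : ℤ) ((p + 1 : ℕ) : ℤ)).hom

instance (i : ℤ) : Module.Finite K.A₀ (K.mdl.P.X i) := (K.mdl.fin i).1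

instance (i : ℤ) : Module.Free K.A₀ (K.mdl.P.X i) := (K.mdl.fin i).2

theorem Chart.hab (p : ℕ) : K.b p ∘ₗ K.a p = 0 := by
  rw [← ModuleCat.hom_comp, K.mdl.P.d_comp_d]
  rfl

/-- The cokernel of the left differential is flat. -/
def Chart.Fl (p : ℕ) (C : Type u) [CommRing C] [Algebra K.A₀ C] : Prop := Module.Flat C (cokB (K.a p) C)

theorem range_d_congr {A : Type u} [CommRing A] (P : CochainComplex (ModuleCat.{u} A) ℤ) {i j : ℤ} (h : i = j)
    (k : ℤ) (C : Type u) [CommRing C] [Algebra A C] :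
    LinearMap.range ((P.d i k).hom.baseChange C) = LinearMap.range ((P.d j k).hom.baseChange C) := by
  subst h; rfl

variable (C : Type u) [CommRing C] [Algebra K.A₀ C]

theorem Chart.fl_succ_iff (p : ℕ) : Module.Flat C (cokB (K.b p) C) ↔ K.Fl (p + 1) C := by
  have e := Submodule.quotEquivOfEq _ _
    (range_d_congr K.mdl.P (show ((p + 1 : ℕ) : ℤ) - 1 = (p : ℤ) by omega) ((p + 1 : ℕ) : ℤ) C)
  exact ⟨fun _ => Module.Flat.of_linearEquiv (R := C) e, fun h =>
    haveI : Module.Flat C (cokB (K.a (p + 1)) C) := h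
    Module.Flat.of_linearEquiv (R := C) e.symm⟩

theorem Chart.fl_above (p : ℕ) (hp : K.mdl.N < p) : K.Fl p C := by
  have := ModuleCat.subsingleton_of_isZero (K.mdl.above (p : ℤ) (by omega))
  have : Subsingleton (C ⊗[K.A₀] (K.mdl.P.X (p : ℤ) : Type u)) := subsingleton_of_forall_eq 0 fun z => by
    induction z using TensorProduct.induction_on with
    | zero => rfl
    | tmul t x => rw [Subsingleton.elim x 0, TensorProduct.tmul_zero]
    | add x y hx hy => rw [hx, hy, add_zero]
  exact Module.Flat.of_linearEquiv (R := C) (M := PUnit.{u + 1})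
    { toFun := fun _ => PUnit.unit, invFun := fun _ => 0, map_add' := fun _ _ => rfl, map_smul' := fun _ _ => rfl
      left_inv := fun _ => Subsingleton.elim _ _, right_inv := fun _ => rfl }

theorem Chart.fl_zero : K.Fl 0 C := by
  have := K.mdl.flat0
  let a := K.a 0
  let g := (LinearMap.range a).mkQ.baseChange C
  have hsurj : Function.Surjective g := LinearMap.lTensor_surjective C (Submodule.mkQ_surjective _)
  have hker : LinearMap.ker g = LinearMap.range (a.baseChange C) := by
    ext x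
    exact lTensor_exact C (LinearMap.exact_map_mkQ_range a) (Submodule.mkQ_surjective _) x
  exact Module.Flat.of_linearEquiv ((Submodule.quotEquivOfEq _ _ hker.symm).trans
    (g.quotKerEquivOfSurjective hsurj))

theorem Chart.fl_mono (D : Type u) [CommRing D] [Algebra K.A₀ D] [Algebra C D] [IsScalarTower K.A₀ C D]
    (p : ℕ) (h : K.Fl p C) : K.Fl p D :=
  haveI : Module.Flat C (cokB (K.a p) C) := h
  flat_cokB (K.a p) C D

theorem Chart.bijective_canHm (p : ℕ) (h : K.Fl (p + 1) C) (D : Type u) [CommRing D] [Algebra K.A₀ D]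
    [Algebra C D] [IsScalarTower K.A₀ C D] :
    Function.Bijective (canHm ((K.a p).baseChange C) ((K.b p).baseChange C) D) :=
  haveI := (K.fl_succ_iff C p).2 h
  bijective_canHm_of_flat (K.a p) (K.b p) C D (K.hab p)

theorem Chart.flat_step (p : ℕ) (h : K.Fl (p + 1) C) (h' : Module.Flat C (HmB (K.a p) (K.b p) C)) :
    K.Fl p C := by
  have := (K.fl_succ_iff C p).2 h
  have : Module.Flat C (C ⊗[K.A₀] (K.mdl.P.X ((p + 1 : ℕ) : ℤ) : Type u) ⧸
    LinearMap.range ((K.b p).baseChange C)) := this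
  exact flat_coker_of_hm _ _ (baseChange_comp_eq_zero (K.a p) (K.b p) (K.hab p))

section Sections

variable [HasInjectiveResolutions X.Modules] {Δ : RDer.DerivedLES (Scheme.Modules.pushforward f)}
  (E : CohCmp.SectCmp f Δ) [QuasiCompact f] [IsSeparated f] [Coh.IsQCoh F]

include E in
/-- Sections are the homology of the base changed complex. -/
theorem Chart.nonempty_secEquiv {V : S.Opens} (hV : IsAffineOpen V) (hle : V ≤ W) (p : ℕ) :
    letI := K.alg hle
    Nonempty (HmB (K.a p) (K.b p) Γ(S, V) ≃ₗ[Γ(S, V)] Γ((Coh.Rpush f p).obj F, V)) := by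
  let := K.alg hle
  obtain ⟨h, sq, ⟨e⟩⟩ := K.pb V hV hle
  have sq' : IsPullback h (overW f hV) K.f₀ (Spec.map (CommRingCat.ofHom (algebraMap K.A₀ Γ(S, V)))) := sq
  let eS : ((secFun V (RingHom.id Γ(S, V))).obj ((Coh.Rpush f p).obj F) : Type u) ≃ₗ[Γ(S, V)]
      Γ((Coh.Rpush f p).obj F, V) :=
    { toFun := fun m => m, invFun := fun m => m, map_add' := fun _ _ => rfl, map_smul' := fun _ _ => rfl
      left_inv := fun _ => rfl, right_inv := fun _ => rfl }
  exact ⟨((LinearEquiv.ofBijective _ (K.mdl.bij Γ(S, V) p)).trans (omegaTo sq' K.univ e p)).trans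
    ((LinearEquiv.ofBijective (epsLin E hV F p) (eps_bijective_affine E F hV p)).trans eS)⟩

variable {X' S' : Scheme.{u}} {g : S' ⟶ S} {f' : X' ⟶ S'} {g' : X' ⟶ X} (H : IsPullback g' f' f g)
  [HasInjectiveResolutions X'.Modules] {Δ' : RDer.DerivedLES (Scheme.Modules.pushforward f')}
  (E' : CohCmp.SectCmp f' Δ') (B : CohCmp.GenBC f g f' g' H.w E E')

/-- Base change maps on affine opens are exchange maps. -/
theorem Chart.secMap_iff {V : S.Opens} (hV : IsAffineOpen V) (hVW : V ≤ W) {V' : S'.Opens}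
    (hV' : IsAffineOpen V') (hle : V' ≤ g ⁻¹ᵁ V) (p : ℕ) :
    letI := (g.appLE V V' hle).hom.toAlgebra
    letI := K.alg hVW
    (Function.Bijective (extSL (secMap₀ (σ := algebraMap Γ(S, V) Γ(S', V')) g (RingHom.id Γ(S, V))
        (RingHom.id Γ(S', V')) hle (fun _ => rfl) (B.φ p F))) ↔
      Function.Bijective (canHm ((K.a p).baseChange Γ(S, V)) ((K.b p).baseChange Γ(S, V)) Γ(S', V'))) ∧
    (Function.Surjective (extSL (secMap₀ (σ := algebraMap Γ(S, V) Γ(S', V')) g (RingHom.id Γ(S, V))
        (RingHom.id Γ(S', V')) hle (fun _ => rfl) (B.φ p F))) ↔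
      Function.Surjective (canHm ((K.a p).baseChange Γ(S, V)) ((K.b p).baseChange Γ(S, V)) Γ(S', V'))) := by
  let := (g.appLE V V' hle).hom.toAlgebra
  let := K.alg hVW
  let : Algebra K.A₀ Γ(S', V') :=
    ((algebraMap Γ(S, V) Γ(S', V')).comp (algebraMap K.A₀ Γ(S, V))).toAlgebra
  have : IsScalarTower K.A₀ Γ(S, V) Γ(S', V') := IsScalarTower.of_algebraMap_eq fun _ => rfl
  have : IsSeparated f' := MorphismProperty.of_isPullback H ‹_›
  have : QuasiCompact f' := MorphismProperty.of_isPullback H ‹_›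
  obtain ⟨h, sq, ⟨e⟩⟩ := K.pb V hV hVW
  have sq' : IsPullback h (overW f hV) K.f₀ (Spec.map (CommRingCat.ofHom (algebraMap K.A₀ Γ(S, V)))) := sq
  have hp := isPullback_piece H hV hV' hle
  have hb : Spec.map (CommRingCat.ofHom (algebraMap Γ(S, V) Γ(S', V'))) ≫
      Spec.map (CommRingCat.ofHom (algebraMap K.A₀ Γ(S, V))) =
      Spec.map (CommRingCat.ofHom (algebraMap K.A₀ Γ(S', V'))) := by
    rw [← Spec.map_comp]
    rfl
  have sq'' : IsPullback (kPiece H.w V hle ≫ h) (overW f' hV') K.f₀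
      (Spec.map (CommRingCat.ofHom (algebraMap K.A₀ Γ(S', V')))) := hb ▸ hp.paste_horiz sq'
  have h1 := bijective_secMap_iff E H E' B F p hV hV' hle
  have h2 := canHm_bc_iff Γ(S, V) Γ(S', V') (K.mdl.mid p) (K.mdl.bij Γ(S, V) p) (K.mdl.bij Γ(S', V') p)
  exact ⟨h1.1.trans ((bijective_pullClass_iff sq' hp K.univ sq'' e (psiPiece H.w V hle F) p).trans h2.1.symm),
    h1.2.trans ((surjective_pullClass_iff sq' hp K.univ sq'' e (psiPiece H.w V hle F) p).trans h2.2.symm)⟩

end Sections

/-- The transposed map on sections is the linear extension. -/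
theorem surjective_app_symm_iff {S' : Scheme.{u}} {N : S.Modules} [Coh.IsQCoh N] {N' : S'.Modules}
    {g : S' ⟶ S} (β : N ⟶ (Scheme.Modules.pushforward g).obj N') {U : S.Opens} (hU : IsAffineOpen U) {U' : S'.Opens}
    (hU' : IsAffineOpen U') (hle : U' ≤ g ⁻¹ᵁ U) :
    letI := (g.appLE U U' hle).hom.toAlgebra
    Function.Surjective ((((Scheme.Modules.pullbackPushforwardAdjunction g).homEquiv N N').symm β).app U') ↔
      Function.Surjective (extSL (secMap₀ (σ := algebraMap Γ(S, U) Γ(S', U')) g (RingHom.id Γ(S, U))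
        (RingHom.id Γ(S', U')) hle (fun _ => rfl) β)) := by
  let φ := ((Scheme.Modules.pullbackPushforwardAdjunction g).homEquiv N N').symm β
  let := (g.appLE U U' hle).hom.toAlgebra
  let Q := KFlatLib.pb g N
  let : Module Γ(S, U) Γ(Q, U') := Module.compHom Γ(Q, U') (g.appLE U U' hle).hom
  have : IsScalarTower Γ(S, U) Γ(S', U') Γ(Q, U') := IsScalarTower.of_algebraMap_smul fun _ _ => rfl
  let Ψ : Γ(N, U) →ₗ[Γ(S, U)] Γ(Q, U') :=
    { toFun := KFlatLib.puSecLE g N hle
      map_add' := map_add _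
      map_smul' := fun r m => KFlatLib.puSecLE_smul g N hle r m }
  have hbc := KFlatLib.isBaseChange_puSec g N hU hU' hle (fun _ => rfl) Ψ fun _ => rfl
  have hβ : ∀ m : Γ(N, U), φ.app U' (Ψ m) = N'.presheaf.map (homOfLE hle).op (β.app U m) := fun m => by
    have e : (Scheme.Modules.pullbackPushforwardAdjunction g).unit.app N ≫
        (Scheme.Modules.pushforward g).map φ = β := by
      exact ((Scheme.Modules.pullbackPushforwardAdjunction g).homEquiv_unit N N' φ).symm.trans
        (Equiv.apply_symm_apply _ β)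
    refine (QCohLib.app_map φ (homOfLE hle) (KFlatLib.puSec g (M := N) (U := U) m)).trans ?_
    refine congrArg (N'.presheaf.map (homOfLE hle).op) ?_
    exact congrArg (fun ψ : N ⟶ _ => ψ.app U m) e
  let σ₀ := secMap₀ (σ := algebraMap Γ(S, U) Γ(S', U')) g (RingHom.id Γ(S, U))
    (RingHom.id Γ(S', U')) hle (fun _ => rfl) β
  have key : ⇑(φ.app U') ∘ ⇑hbc.equiv = ⇑(extSL σ₀) := by
    funext x
    induction x using TensorProduct.induction_on with
    | zero => exact (congrArg (φ.app U') (map_zero hbc.equiv)).trans ((map_zero _).trans (map_zero (extSL σ₀)).symm)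
    | tmul b m =>
      refine Eq.trans ?_ (RpushLib.extSL_tmul σ₀ b m).symm
      rw [Function.comp_apply, IsBaseChange.equiv_tmul, QCohLib.app_smul, hβ]
      rfl
    | add x y hx hy =>
      simp only [Function.comp_apply] at hx hy ⊢
      rw [map_add, map_add, hx, hy]
      exact (map_add (extSL σ₀) x y).symm
  exact (EquivLike.surjective_comp hbc.equiv (f := ⇑(φ.app U'))).symm.trans
    (iff_of_eq (congrArg Function.Surjective key))

end CohCmpLib
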