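import Groth.Agent.CohCmpLib.ChartCrit
import Groth.Agent.CohBCLib.Cons
set_option autoImplicit false

set_option maxRecDepth 8000

universe u
open CategoryTheory CategoryTheory.Limits AlgebraicGeometry TopologicalSpace Opposite TensorProduct
open FlatCxLib (Hm fibreRank)

namespace CohCmpLib
theorem flat_sections_restrict {S : Scheme.{u}} (G : S.Modules) (V : S.Opens)
    (h : FlatMod.IsFinLocFree (G.restrict V.ι)) {W : S.Opens} (hW : IsAffineOpen W) (hle : W ≤ V) :
    Module.Flat Γ(S, W) Γ(G, W) := by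
  obtain ⟨W', rfl⟩ : ∃ W' : (V : Scheme.{u}).Opens, V.ι ''ᵁ W' = W := ⟨V.ι ⁻¹ᵁ W, by
    rw [Scheme.Hom.image_preimage_eq_opensRange_inf, Scheme.Opens.opensRange_ι]
    exact inf_eq_right.2 hle⟩
  have hW' : IsAffineOpen W' := V.ι.isAffineOpen_iff_of_isOpenImmersion.1 hW
  have h1 := CohBCLib.flat_sections_of_isFinLocFree (G.restrict V.ι) h hW'
  let _ : Module Γ((V : Scheme.{u}), W') Γ(G.restrict V.ι, W') := inferInstance
  exact (RichLib.ModFlat.flat_iff_of_semilinear (R := Γ(S, V.ι ''ᵁ W')) (M := Γ(G, V.ι ''ᵁ W'))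
    (R' := Γ((V : Scheme.{u}), W')) (M' := Γ(G.restrict V.ι, W'))
    (show Γ(S, V.ι ''ᵁ W') ≃+* Γ((V : Scheme.{u}), W') from RingEquiv.refl _)
    (show Γ(G, V.ι ''ᵁ W') ≃+ Γ(G.restrict V.ι, W') from AddEquiv.refl _) fun a m => by
      refine Eq.symm ((Scheme.Modules.smul_restrictAppIso_hom_apply V.ι G W' a m).trans ?_)
      rw [Scheme.Opens.ι_appIso]
      rfl).2 h1
variable {X S : Scheme.{u}} {f : X ⟶ S} {F : X.Modules}

/-- Models exist near every point. -/
theorem exists_chart_at [IsProper f] [LocallyOfFinitePresentation f] [Coh.IsQCoh F] (hfp : CohB1.IsFP F)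
    (hfl : FlatMod.IsFlatOver f F) (y : S) :
    ∃ (W : S.Opens) (_ : Chart f F W), IsAffineOpen W ∧ y ∈ W := by
  obtain ⟨W, hW, hy⟩ := QCohLib.exists_affine_nhd y
  obtain ⟨K⟩ := exists_chart hfp hfl hW
  exact ⟨W, K, hW, hy⟩

variable {W : S.Opens} (K : Chart f F W) [IsSeparated f] [QuasiCompact f] [Coh.IsQCoh F]
  [HasInjectiveResolutions X.Modules] {Δ : RDer.DerivedLES (Scheme.Modules.pushforward f)}
  (E : CohCmp.SectCmp f Δ)

include E in
/-- The descending step through the sections. -/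
theorem Chart.flAt_step {V : S.Opens} (hV : IsAffineOpen V) (hle : V ≤ W) (p : ℕ) (h : K.FlAt (p + 1) hle)
    (h' : Module.Flat Γ(S, V) Γ((Coh.Rpush f p).obj F, V)) : K.FlAt p hle := by
  let := K.alg hle
  obtain ⟨e⟩ := K.nonempty_secEquiv E hV hle p
  exact K.flat_step Γ(S, V) p h (Module.Flat.of_linearEquiv e)

include E in
/-- Flat higher direct images in high degrees give flat cokernels there. -/
theorem Chart.flAt_of_flat_above {V : S.Opens} (hV : IsAffineOpen V) (hle : V ≤ W) (m : ℕ)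
    (h : ∀ i, m < i → Module.Flat Γ(S, V) Γ((Coh.Rpush f i).obj F, V)) :
    ∀ i, m < i → K.FlAt i hle := by
  suffices ∀ k i, m < i → K.mdl.N < i + k → K.FlAt i hle from fun i hi => this (K.mdl.N + 1) i hi (by omega)
  intro k
  induction k with
  | zero =>
    intro i _ hN
    let := K.alg hle
    exact K.fl_above Γ(S, V) i (by omega)
  | succ k ih => exact fun i hi hN => K.flAt_step E hV hle i (ih (i + 1) (by omega) (by omega)) (h i hi)

include E in
/-- Epimorphisms at all points of an affine open give flatness on it. -/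
theorem Chart.flAt_of_forall_epi {V : S.Opens} (hV : IsAffineOpen V) (hle : V ≤ W) (p : ℕ)
    [∀ s : S, HasInjectiveResolutions (f.fiber s).Modules]
    (Δs : ∀ s : S, RDer.DerivedLES (Scheme.Modules.pushforward (f.fiberToSpecResidueField s)))
    (Es : ∀ s : S, CohCmp.SectCmp (f.fiberToSpecResidueField s) (Δs s))
    (Bs : ∀ s : S, CohCmp.GenBC f (S.fromSpecResidueField s) (f.fiberToSpecResidueField s) (f.fiberι s)
      (f.fiber_fac s) E (Es s))
    (h : ∀ s : S, Epi ((Bs s).bc p F)) : K.FlAt (p + 1) hle := by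
  let := K.alg hle
  exact (K.fl_succ_iff Γ(S, V) p).1 (flat_of_forall_surjective (K.a p) (K.b p) (K.hab p) fun q =>
    (K.epi_fibre_iff hV hle E p q (Es _) (Bs _)).1 (h _))

omit [IsSeparated f] [QuasiCompact f] [Coh.IsQCoh F] [HasInjectiveResolutions X.Modules] in
/-- Locally constant fibre ranks over a reduced base give flat cokernels. -/
theorem Chart.flAt_of_locallyConstant [IsReduced S] {V : S.Opens} (hV : IsAffineOpen V) (hle : V ≤ W) (p : ℕ)
    (h : IsLocallyConstant (CohIII.fiberRank f F p)) : K.FlAt p hle ∧ K.FlAt (p + 1) hle := by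
  let := K.alg hle
  have hl : IsLocallyConstant fun q : PrimeSpectrum Γ(S, V) =>
      Module.finrank q.asIdeal.ResidueField (HmB (K.a p) (K.b p) q.asIdeal.ResidueField) := by
    have e : (fun q : PrimeSpectrum Γ(S, V) =>
        Module.finrank q.asIdeal.ResidueField (HmB (K.a p) (K.b p) q.asIdeal.ResidueField)) =
        CohIII.fiberRank f F p ∘ fun q => hV.fromSpec q :=
      funext fun q => ((K.fibre_spec hV hle p q).1).symm
    rw [e]
    exact h.comp_continuous hV.fromSpec.continuous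
  obtain ⟨h1, h2⟩ := flat_of_locallyConstant (K.a p) (K.b p) (K.hab p) hl
  exact ⟨h1, (K.fl_succ_iff Γ(S, V) p).1 h2⟩

omit [IsSeparated f] [QuasiCompact f] [Coh.IsQCoh F] [HasInjectiveResolutions X.Modules] in
/-- Vanishing homology with flat next cokernel gives vanishing fibre cohomology. -/
theorem Chart.subsingleton_fiberH {V : S.Opens} (hV : IsAffineOpen V) (hle : V ≤ W) (p : ℕ)
    (h : K.FlAt (p + 1) hle) (hz : letI := K.alg hle
      Subsingleton (HmB (K.a p) (K.b p) Γ(S, V))) {y : S} (hy : y ∈ V) :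
    Subsingleton (CohIII.fiberH f F y p) := by
  obtain ⟨q, rfl⟩ := exists_fromSpec hV hy
  let := K.alg hle
  refine (K.fibre_spec hV hle p q).2.2 ?_
  let k := q.asIdeal.ResidueField
  have : Subsingleton (HmB (K.a p) (K.b p) Γ(S, V)) := hz
  have : Subsingleton (k ⊗[Γ(S, V)] HmB (K.a p) (K.b p) Γ(S, V)) := subsingleton_of_forall_eq 0 fun z => by
    induction z using TensorProduct.induction_on with
    | zero => rfl
    | tmul t x => rw [Subsingleton.elim x 0, TensorProduct.tmul_zero]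
    | add x y hx hy => rw [hx, hy, add_zero]
  have := (K.bijective_canHm Γ(S, V) p h k).2.subsingleton
  exact (towEquiv (B := Γ(S, V)) (B' := k) (K.a p) (K.b p)).symm.toEquiv.subsingleton

include E in
/-- Vanishing fibre cohomology: the neighbourhood. -/
theorem Chart.exists_vanishing_nhd {V : S.Opens} (hV : IsAffineOpen V) (hle : V ≤ W) (p : ℕ) {y : S}
    (hy : y ∈ V) (h : Subsingleton (CohIII.fiberH f F y p)) :
    ∃ (V' : S.Opens) (hle' : V' ≤ W), V' ≤ V ∧ IsAffineOpen V' ∧ y ∈ V' ∧ K.FlAt p hle' ∧ K.FlAt (p + 1) hle' ∧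
      IsZero (((Coh.Rpush f p).obj F).restrict V'.ι) ∧ ∀ z ∈ V', Subsingleton (CohIII.fiberH f F z p) := by
  obtain ⟨V', h', h'V, hV', hy', a, b, hz⟩ := K.exists_zero_nhd hV hle p hy h
  exact ⟨V', h', h'V, hV', hy', a, b, K.isZero_nhd E hV' h' p hz,
    fun z hz' => K.subsingleton_fiberH hV' h' p b hz hz'⟩

omit [IsSeparated f] [QuasiCompact f] [Coh.IsQCoh F] [HasInjectiveResolutions X.Modules] in
/-- Vanishing passes to smaller opens. -/
theorem isZero_restrict_mono {G : S.Modules} {O U : S.Opens} (h : IsZero (G.restrict O.ι)) (hle : U ≤ O) :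
    IsZero (G.restrict U.ι) :=
  isZero_restrict_of_nhds G U fun _ hx => ⟨O, hle hx, h⟩

omit [IsSeparated f] [QuasiCompact f] [Coh.IsQCoh F] [HasInjectiveResolutions X.Modules] in
theorem isZero_of_restrict_top {G : S.Modules} (h : IsZero (G.restrict (⊤ : S.Opens).ι)) : IsZero G := by
  rw [IsZero.iff_id_eq_zero] at h ⊢
  apply Scheme.Modules.hom_ext
  intro t
  refine ConcreteCategory.hom_ext _ _ fun z => ?_
  obtain ⟨t', rfl⟩ : ∃ t' : ((⊤ : S.Opens) : Scheme.{u}).Opens, (⊤ : S.Opens).ι ''ᵁ t' = t :=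
    ⟨(⊤ : S.Opens).ι ⁻¹ᵁ t, by
      rw [Scheme.Hom.image_preimage_eq_opensRange_inf, Scheme.Opens.opensRange_ι, top_inf_eq]⟩
  exact congr(Scheme.Modules.Hom.app $h t' z)

end CohCmpLib
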