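import Groth.Agent.CohCmpLib.ConormalChart
import Groth.Agent.S2157
import Groth.Agent.DetDegLib.Main
import Groth.Agent.CohCmpLib.LineBundle
import Groth.Agent.RankLocusLib.Tilde
import Groth.Prelude.Def_Canon

/-!
The differentials of a smooth morphism are locally free, and its canonical sheaf is invertible.
-/

set_option autoImplicit false
set_option maxRecDepth 8000

noncomputable section

universe u

open CategoryTheory CategoryTheory.Limits AlgebraicGeometry TopologicalSpace Opposite TensorProduct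

namespace CohCmpLib

/-- The differentials on an affine chart. -/
theorem nonempty_omega_chart {X Y : Scheme.{u}} (f : X ⟶ Y) [QuasiSeparated f] (R A : Type u) [CommRing R]
    [CommRing A] [Algebra R A] (a : Spec (CommRingCat.of A) ⟶ X) [IsOpenImmersion a]
    (b : Spec (CommRingCat.of R) ⟶ Y) [IsOpenImmersion b]
    (h : a ≫ f = Spec.map (CommRingCat.ofHom (algebraMap R A)) ≫ b) :
    Nonempty ((Scheme.Modules.pullback a).obj (Omega.sheaf f) ≅
      tilde (R := CommRingCat.of A) (ModuleCat.of A (Ω[A⁄R]))) := by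
  let π := Spec.map (CommRingCat.ofHom (algebraMap R A))
  let m : pullback π π ⟶ pullback f f := pullback.map π π f f a a b h.symm h.symm
  let e : Spec (CommRingCat.of (A ⊗[R] A)) ⟶ pullback f f := (pullbackSpecIso R A A).inv ≫ m
  have hcomm : a ≫ pullback.diagonal f = Spec.map (Groth.Agent.S2157.mu R A) ≫ e := by
    rw [← Category.assoc, ← Groth.Agent.S2157.diag_eq R A]
    apply pullback.hom_ext
    · simp only [m, pullback.map, Category.assoc]
      rw [pullback.diagonal_fst]
      erw [pullback.lift_fst, pullback.diagonal_fst_assoc]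
      exact Category.comp_id a
    · simp only [m, pullback.map, Category.assoc]
      rw [pullback.diagonal_snd]
      erw [pullback.lift_snd, pullback.diagonal_snd_assoc]
      exact Category.comp_id a
  have hrange : ∀ x, pullback.diagonal f x ∈ Set.range e → x ∈ Set.range a := by
    rintro x ⟨z, hz⟩
    refine ⟨((pullbackSpecIso R A A).inv ≫ pullback.fst π π) z, ?_⟩
    have h1 : (e ≫ pullback.fst f f) z = x :=
      (congrArg (pullback.fst f f) hz).trans congr($(pullback.diagonal_fst f) x)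
    have h2 : e ≫ pullback.fst f f = ((pullbackSpecIso R A A).inv ≫ pullback.fst π π) ≫ a := by
      simp only [e, m, pullback.map, Category.assoc]
      erw [pullback.lift_fst]
    rw [h2] at h1
    exact h1
  obtain ⟨i⟩ := ConormalChart.nonempty_conormal_chart e (Groth.Agent.S2157.mu R A) (pullback.diagonal f) a hcomm hrange
  obtain ⟨j⟩ := Groth.Agent.S2157.nonempty_extend_iso R A
  exact ⟨i ≪≫ (tilde.functor _).mapIso j⟩

/-- The differentials of a smooth morphism of relative dimension `n`. -/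
theorem rank_omega {X Y : Scheme.{u}} (f : X ⟶ Y) [QuasiSeparated f] (n : ℕ) [SmoothOfRelativeDimension n f] :
    FlatMod.IsFinLocFreeOfRank n (Omega.sheaf f) := fun x => by
  obtain ⟨U, hU, V, hV, hx, e, hf⟩ :=
    SmoothOfRelativeDimension.exists_isStandardSmoothOfRelativeDimension (n := n) (f := f) x
  let R : Type u := Γ(Y, U)
  let A : Type u := Γ(X, V)
  algebraize [(f.appLE U V e).hom]
  have hh : hV.fromSpec ≫ f = Spec.map (CommRingCat.ofHom (algebraMap R A)) ≫ hU.fromSpec :=
    (hU.SpecMap_appLE_fromSpec f hV e).symm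
  obtain ⟨i⟩ := nonempty_omega_chart f R A hV.fromSpec hU.fromSpec hh
  have : Nonempty (V : Scheme.{u}) := ⟨⟨x, hx⟩⟩
  have : Nontrivial A := (X.presheaf.germ V x hx).hom.domain_nontrivial
  have : Algebra.IsStandardSmooth R A := Algebra.IsStandardSmoothOfRelativeDimension.isStandardSmooth n
  have hr : Module.rank A Ω[A⁄R] = n := Algebra.IsStandardSmoothOfRelativeDimension.rank_kaehlerDifferential n
  have : Module.Finite A Ω[A⁄R] := inferInstance
  let b : Module.Basis (Fin n) A (Ω[A⁄R]) := Module.finBasisOfFinrankEq A (Ω[A⁄R])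
    (Module.finrank_eq_of_rank_eq hr)
  let Z : Scheme.{u} := Spec (CommRingCat.of A)
  let T : Z.Modules := tilde (R := CommRingCat.of A) (ModuleCat.of A (Ω[A⁄R]))
  have hT : RankLocusLib.FreeAlong n T ((⊤ : Z.Opens).ι ≫ 𝟙 Z) := by
    refine (RankLocusLib.freeAlong_tilde_iff (𝟙 Z) _ (isAffineOpen_top _) n).2 ?_
    let : Algebra A Γ(Z, ⊤) := (CohBCLib.secA (𝟙 Z) ⊤).toAlgebra
    exact ⟨b.baseChange Γ(Z, ⊤)⟩
  obtain ⟨c⟩ := hT
  have h' : RankLocusLib.FreeAlong n (Omega.sheaf f) ((⊤ : Z.Opens).ι ≫ hV.fromSpec) :=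
    (RankLocusLib.freeAlong_pullback_iff hV.fromSpec (⊤ : Z.Opens).ι).1
      ⟨(Scheme.Modules.pullback (⊤ : Z.Opens).ι).mapIso i ≪≫
        (Scheme.Modules.pullbackCongr (Category.comp_id (⊤ : Z.Opens).ι).symm).app T ≪≫ c⟩
  refine ⟨V, hx, (RankLocusLib.freeAlong_restrict_iff _ V).1 ?_⟩
  have := RankLocusLib.freeAlong_comp h' (hV.isoSpec.hom ≫ Z.topIso.inv)
  have e3 : (hV.isoSpec.hom ≫ Z.topIso.inv) ≫ (⊤ : Z.Opens).ι ≫ hV.fromSpec = V.ι := by
    rw [← Z.topIso_hom, Category.assoc, Iso.inv_hom_id_assoc, IsAffineOpen.fromSpec]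
    exact Iso.hom_inv_id_assoc hV.isoSpec V.ι
  rwa [e3] at this

/-- Top exterior powers of locally free modules are invertible. -/
theorem isInvertible_of_isExtPow {X : Scheme.{u}} [IsLocallyNoetherian X] {n : ℕ} {E L : X.Modules}
    (hE : FlatMod.IsFinLocFreeOfRank n E) (hL : ExtPow.IsExtPow n E L) : PicF.IsInvertible L := by
  obtain ⟨φ, hφ⟩ := hL
  have : Coh.IsQCoh E := (CurvLib.isCoh_of_locFree hE).1
  have hg : ∀ x : X, ∃ (V : X.affineOpens) (_ : x ∈ V.1) (b : Fin n → Γ(E, V.1)),
      ∀ (y : X) (hy : y ∈ V.1), DetDegLib.FrameAt E b hy := fun x => by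
    obtain ⟨V, hV, hxV⟩ := QCohLib.exists_affine_nhd x
    obtain ⟨b, hb⟩ := DetDegLib.exists_frame_at hE hV hxV
    obtain ⟨h, hxh, hh⟩ := DetDegLib.exists_frame_basicOpen hE hV b hxV hb
    exact ⟨⟨X.basicOpen h, hV.basicOpen h⟩, hxh, _, fun y hy =>
      (DetDegLib.frameAt_res (X.basicOpen_le h) b hy).mpr (hh y hy)⟩
  choose V hV b hb using hg
  exact TwistLib.isInvertible_of_genOn (fun x : X => (V x).1) (fun x => ⟨x, hV x⟩)
    (fun x => DetDegLib.wsec φ (V x) (b x)) fun x =>
      TwistLib.genOn_of_genAt fun _ hy => DetDegLib.frameAt_wsec φ hφ (V x) (b x) (hb x) hy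

end CohCmpLib
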