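import Groth.Agent.CohCmpLib.PicApps
import Groth.Agent.CohCmpLib.OmegaRank
import Groth.Agent.AbSchLib.Flat
import Groth.Agent.S0036
import Groth.Agent.RankLocusLib.Tilde
import Groth.Prelude.Def_RedSub

/-!
Pluricanonical line bundles of smooth projective families.
-/

set_option autoImplicit false
set_option maxRecDepth 8000

noncomputable section

universe u

open CategoryTheory CategoryTheory.Limits AlgebraicGeometry TopologicalSpace Opposite

namespace CohCmpLib

variable {X S : Scheme.{u}} (f : X ⟶ S)

theorem isProper_of_isLocallyProjective (h : RedSub.IsLocallyProjective (Over.mk f)) : IsProper f := by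
  choose V hV n e he hf using h
  refine IsZariskiLocalAtTarget.of_iSup_eq_top (P := @IsProper) V
    (top_le_iff.1 fun s _ => Opens.mem_iSup.2 ⟨s, hV s⟩) fun s => ?_
  have : IsClosedImmersion (e s) := he s
  have hp : IsProper (pullback.snd f (V s).ι) := by
    change IsProper (Red.bc (V s).ι (Over.mk f)).hom
    rw [← hf s]
    infer_instance
  have e' : f ∣_ V s = (isPullback_morphismRestrict f (V s)).flip.isoPullback.hom ≫ pullback.snd f (V s).ι :=
    ((isPullback_morphismRestrict f (V s)).flip.isoPullback_hom_snd).symm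
  rw [e']
  infer_instance

/-- Fibre cohomology vanishing makes degree zero commute with base change. -/
theorem epi_bc0_of_vanishing_one [IsProper f] [LocallyOfFinitePresentation f] {F : X.Modules} [Coh.IsQCoh F]
    (hfp : CohB1.IsFP F) (hfl : FlatMod.IsFlatOver f F) (s : S) (h : Subsingleton (CohIII.fiberH f F s 1)) :
    Epi (CohBC.bc0 f (S.fromSpecResidueField s) (f.fiberToSpecResidueField s) (f.fiberι s) (f.fiber_fac s) F) := by
  have : HasInjectiveResolutions X.Modules := inferInstance
  have : HasInjectiveResolutions (f.fiber s).Modules := inferInstance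
  obtain ⟨Δ, ⟨E⟩⟩ := exists_sectCmp f
  obtain ⟨Δ', ⟨E'⟩⟩ := exists_sectCmp (f.fiberToSpecResidueField s)
  let B := genBC (f.fiber_fac s) E E'
  have : IsIso (B.bc 0 F) := isIso_bc_of_compatAt E (IsPullback.of_hasPullback f (S.fromSpecResidueField s)) E' B 0
    fun z => by
      have hz : S.fromSpecResidueField s z = s := Scheme.fromSpecResidueField_apply _ _
      obtain ⟨W, K, hW, hsW⟩ := exists_chart_at hfp hfl s
      obtain ⟨V, hle, -, hV, hsV, a, -, -⟩ := K.exists_vanishing_nhd E hW le_rfl 1 hsW h
      exact ⟨W, K, V, hle, hV, hz.symm ▸ hsV, a⟩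
  have := isIso_bc0_of_bc B F
  infer_instance

/-- Isomorphic fibres have isomorphic cohomology. -/
theorem subsingleton_fiberH_of_trivial {L : X.Modules} (p : ℕ) (y : S)
    (ht : Nonempty (CohIII.fiberMod f L y ≅ Coh.structureModule (f.fiber y)))
    (h : Subsingleton (Coh.HH (f.fiber y) (Coh.structureModule (f.fiber y)) p)) :
    Subsingleton (CohIII.fiberH f L y p) := by
  let k : Type u := S.residueField y
  let : (f.fiber y).Over (Spec (CommRingCat.of k)) := ⟨f.fiberToSpecResidueField y⟩
  exact (CurvLib.hIso (k := k) ht.some p).toEquiv.subsingleton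

/-- Coherent modules on the spectrum of a field are free. -/
theorem exists_freeMod_iso_of_field (k : Type u) [Field k] (N : (Spec (CommRingCat.of k)).Modules) [Coh.IsQCoh N]
    (hN : CohB1.IsFT N) : ∃ r : ℕ, Nonempty (N ≅ FlatMod.freeMod (Spec (CommRingCat.of k)) r) := by
  let T := Spec (CommRingCat.of k)
  have hF : IsField Γ(T, ⊤) := (Scheme.ΓSpecIso (CommRingCat.of k)).commRingCatIsoToRingEquiv.toMulEquiv.isField
    (Field.toIsField k)
  let := hF.toField
  have := QCohLib.finite_of_isFT hN (isAffineOpen_top T)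
  have h := RankLocusLib.freeAlong_of_basis N (isAffineOpen_top T) (Module.finBasis Γ(T, ⊤) Γ(N, ⊤))
  have h' := RankLocusLib.freeAlong_comp h T.topIso.inv
  rw [show T.topIso.inv ≫ (⊤ : T.Opens).ι = 𝟙 T by rw [← T.topIso_hom]; exact Iso.inv_hom_id _] at h'
  obtain ⟨e⟩ := h'
  exact ⟨_, ⟨((Scheme.Modules.pullbackId T).app N).symm ≪≫ e⟩⟩

/-- Ranks of free modules are well defined. -/
theorem eq_one_of_rank_one_free {Z : Scheme.{u}} [Nonempty Z] {L : Z.Modules} (hL : PicF.IsInvertible L) {r : ℕ}
    (e : L ≅ FlatMod.freeMod Z r) : r = 1 := by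
  obtain ⟨z⟩ := ‹Nonempty Z›
  obtain ⟨U, hU, h⟩ := (invertible_iff_rank_one L).1 hL z
  obtain ⟨b₁⟩ := RankLocusLib.nonempty_basis_of_freeAlong L ((RankLocusLib.freeAlong_restrict_iff L U).2 h)
  have h2 : RankLocusLib.FreeAlong r L U.ι :=
    ⟨(Scheme.Modules.pullback U.ι).mapIso e ≪≫ KFlatLib.pullFreeIso U.ι r⟩
  obtain ⟨b₂⟩ := RankLocusLib.nonempty_basis_of_freeAlong L h2
  have : Nontrivial Γ(Z, U) := (Z.presheaf.germ U z hU).hom.domain_nontrivial
  simpa using Fintype.card_congr (b₂.indexEquiv b₁)

variable [IsProper f] [Flat f] [LocallyOfFinitePresentation f]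

/-- A line bundle with invertible counit comes from the base. -/
theorem of_isIso_counit [IsLocallyNoetherian S]
    (h0 : ∀ y : S, Module.finrank (S.residueField y) Γ(f.fiber y, ⊤) = 1) {L : X.Modules}
    (hL : FlatMod.IsFinLocFreeOfRank 1 L)
    (hev : IsIso ((Scheme.Modules.pullbackPushforwardAdjunction f).counit.app L)) :
    (∀ y : S, Nonempty (CohIII.fiberMod f L y ≅ Coh.structureModule (f.fiber y))) ∧
      ∀ s, Epi (CohBC.bc0 f (S.fromSpecResidueField s) (f.fiberToSpecResidueField s) (f.fiberι s)
        (f.fiber_fac s) L) := by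
  let P := (Scheme.Modules.pushforward f).obj L
  have : HasInjectiveResolutions X.Modules := inferInstance
  obtain ⟨hQ, -, -⟩ := rank_one_hyps f hL
  have hLc := LocSuppLib.isCoh_of_isFinLocFree fun x => let ⟨U, h⟩ := hL x; ⟨U, 1, h⟩
  have : PreservesFiniteLimits (Scheme.Modules.pushforward f) := preservesFiniteLimits_push
  have hR := Groth.Agent.S0036.result f L hLc 0
  let i : (Coh.Rpush f 0).obj L ≅ P := (Scheme.Modules.pushforward f).rightDerivedZeroIsoSelf.app L
  have := hR.1
  have : Coh.IsQCoh P := QCohLib.isQCoh_of_iso i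
  have hPft : CohB1.IsFT P := QCohLib.isFT_of_iso i hR.2
  let a : (Scheme.Modules.pullback f).obj P ≅ L :=
    @asIso _ _ _ _ ((Scheme.Modules.pullbackPushforwardAdjunction f).counit.app L) hev
  have hpt : ∀ s : S, Nonempty ((Scheme.Modules.pullback (S.fromSpecResidueField s)).obj P ≅
      Coh.structureModule (Spec (S.residueField s))) := fun s => by
    let j := S.fromSpecResidueField s
    have : Coh.IsQCoh ((Scheme.Modules.pullback j).obj P) := KFlatLib.isQCoh_pullback j _
    obtain ⟨r, ⟨e⟩⟩ := exists_freeMod_iso_of_field (S.residueField s) ((Scheme.Modules.pullback j).obj P)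
      (ConsLib.isFT_pullback j P hPft)
    have hne : Nonempty (f.fiber s) := by
      by_contra hE
      rw [not_nonempty_iff] at hE
      have := h0 s
      have hsub : Subsingleton Γ(f.fiber s, ⊤) := inferInstance
      rw [Module.finrank_zero_of_subsingleton] at this
      omega
    have h1 : r = 1 := eq_one_of_rank_one_free (AmpleDevLib.isInvertible_pb (f.fiberι s) ((invertible_iff_rank_one L).2 hL))
      ((Scheme.Modules.pullback (f.fiberι s)).mapIso a.symm ≪≫ ((sqIso (f.fiber_fac s)).app P).symm ≪≫
        (Scheme.Modules.pullback (f.fiberToSpecResidueField s)).mapIso e ≪≫ KFlatLib.pullFreeIso _ r)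
    subst h1
    exact ⟨e ≪≫ Limits.coproductUniqueIso _⟩
  refine ⟨fun y => ?_, fun s => ?_⟩
  · exact ⟨(Scheme.Modules.pullback (f.fiberι y)).mapIso a.symm ≪≫ ((sqIso (f.fiber_fac y)).app P).symm ≪≫
      (Scheme.Modules.pullback (f.fiberToSpecResidueField y)).mapIso (hpt y).some ≪≫ KFlatLib.pullUnitIso _⟩
  · refine epi_bc0_of_iso f _ a ?_
    have := epi_unitToPush_fibre f s (h0 s)
    have := epi_unit_of_iso (f.fiberToSpecResidueField s) (hpt s).some
    have : Epi ((Scheme.Modules.pullback (S.fromSpecResidueField s)).map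
        ((Scheme.Modules.pullbackPushforwardAdjunction f).unit.app P) ≫
        CohBC.bc0 f (S.fromSpecResidueField s) (f.fiberToSpecResidueField s) (f.fiberι s) (f.fiber_fac s)
          ((Scheme.Modules.pullback f).obj P)) := by
      rw [bc0_unitApp (f.fiber_fac s) P]
      exact epi_comp _ _
    exact epi_of_epi ((Scheme.Modules.pullback (S.fromSpecResidueField s)).map
      ((Scheme.Modules.pullbackPushforwardAdjunction f).unit.app P)) _

/-- The evaluation transposes to the base change map. -/
theorem homEquiv_sq_counit {X' S' : Scheme.{u}} {g : S' ⟶ S} {f' : X' ⟶ S'} {g' : X' ⟶ X}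
    (w : g' ≫ f = f' ≫ g) (F : X.Modules) :
    (Scheme.Modules.pullbackPushforwardAdjunction f').homEquiv _ _
      ((sqIso w).hom.app ((Scheme.Modules.pushforward f).obj F) ≫
        (Scheme.Modules.pullback g').map ((Scheme.Modules.pullbackPushforwardAdjunction f).counit.app F)) =
      CohBC.bc0 f g f' g' w F := by
  rw [← bc0_counit w F]
  exact ((Scheme.Modules.pullbackPushforwardAdjunction f').homEquiv _ _).apply_symm_apply
    (CohBC.bc0 f g f' g' w F) |> fun h => by
      rw [Adjunction.homEquiv_counit] at h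
      exact h

end CohCmpLib

namespace CohCmpLib

/-- The pluricanonical sheaf of a smooth projective family with connected fibres: standing facts. -/
theorem pluricanonical_setup {X S : Scheme.{u}} [IsLocallyNoetherian S] (f : X ⟶ S)
    (hproj : RedSub.IsLocallyProjective (Over.mk f)) (n : ℕ) [SmoothOfRelativeDimension n f]
    [GeometricallyConnected f] {ω : X.Modules} (hω : Canon.IsTopDiff f n ω) (m : ℕ) :
    IsProper f ∧ Smooth f ∧ (∀ y : S, Module.finrank (S.residueField y) Γ(f.fiber y, ⊤) = 1) ∧
      FlatMod.IsFinLocFreeOfRank 1 (CohB1.tensorPow ω m) := by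
  have : IsProper f := isProper_of_isLocallyProjective f hproj
  have : Smooth f := SmoothOfRelativeDimension.smooth n f
  have := AbSchLib.geometricallyReduced_of_smooth f
  have : IsLocallyNoetherian X := LocallyOfFiniteType.isLocallyNoetherian f
  refine ⟨inferInstance, inferInstance, fun y => ?_, ?_⟩
  · have : IsIso (f.fiberToSpecResidueField y).appTop :=
      H0Lib.H0Fib.of_geometrically f (S.residueField y) (S.fromSpecResidueField y)
    exact finrank_global_of_isIso f y
  · exact (invertible_iff_rank_one _).1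
      (AmpleThLib.tensorPow_isInvertible (isInvertible_of_isExtPow (rank_omega f n) hω) m)

end CohCmpLib
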