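import Groth.Agent.CohCmpLib.TrivFibre
import Groth.Agent.CurvLib.Line
import Groth.Agent.VBP1Lib.Tensor
import Groth.Agent.AmpleDevLib.Pull
import Groth.Agent.MiscFlat6.InvDual
import Groth.Agent.SerreVanLib.Converse

/-!
Line bundles with a section and a cosection.
-/

set_option autoImplicit false
set_option maxRecDepth 8000

noncomputable section

universe u

open CategoryTheory CategoryTheory.Limits AlgebraicGeometry TopologicalSpace Opposite

namespace CohCmpLib

variable {X : Scheme.{u}}

/-- Endomorphisms of `O` as global functions. -/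
def endVal : (Coh.structureModule X ⟶ Coh.structureModule X) ≃ Γ(X, ⊤) :=
  KFlatLib.unitSecEquiv (Coh.structureModule X)

theorem endVal_id : endVal (𝟙 (Coh.structureModule X)) = 1 := rfl

theorem endVal_zero : endVal (0 : Coh.structureModule X ⟶ Coh.structureModule X) = 0 := rfl

/-- Endomorphisms of `O` are multiplication by their value at one. -/
theorem endVal_comp (φ ψ : Coh.structureModule X ⟶ Coh.structureModule X) :
    endVal (φ ≫ ψ) = endVal φ * endVal ψ := by
  refine (KFlatLib.unitSecEquiv_comp φ ψ).trans ?_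
  refine Eq.trans ?_ (QCohLib.app_smul ψ ⊤ (endVal φ) (show Γ(Coh.structureModule X, ⊤) from (1 : Γ(X, ⊤))))
  exact congrArg (fun z => ψ.app ⊤ z) (mul_one (endVal φ)).symm

/-- A section and a cosection trivialise a line bundle when global functions form a field. -/
theorem nonempty_iso_of_section_cosection [IsIntegral X] (hfield : IsField (Γ(X, ⊤) : Type u))
    {L : X.Modules} (hL : PicF.IsInvertible L) (s : Coh.structureModule X ⟶ L) (hs : s ≠ 0)
    (t : L ⟶ Coh.structureModule X) (ht : t ≠ 0) : Nonempty (L ≅ Coh.structureModule X) := by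
  have hO : PicF.IsInvertible (Coh.structureModule X) := CurvLib.isInvertible_structureModule
  have : Mono t := CurvLib.mono_of_ne_zero hL hO ht
  have hst : s ≫ t ≠ 0 := fun h => hs (zero_of_comp_mono t h)
  have hc : endVal (s ≫ t) ≠ 0 := fun h => hst (endVal.injective (h.trans endVal_zero.symm))
  obtain ⟨d, hd⟩ := hfield.mul_inv_cancel hc
  have h1 : (endVal.symm d ≫ s) ≫ t = 𝟙 _ := endVal.injective (by
    rw [Category.assoc, endVal_comp, Equiv.apply_symm_apply, endVal_id, mul_comm, hd])
  have : Epi t := epi_of_epi_fac h1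
  have := isIso_of_epi_rank_one ((invertible_iff_rank_one L).1 hL) (rank_one_structureModule X) t
  exact ⟨asIso t⟩

theorem structureModule_id_ne_zero [Nonempty X] : 𝟙 (Coh.structureModule X) ≠ 0 := fun h => by
  obtain ⟨x⟩ := ‹Nonempty X›
  have : Nontrivial Γ(X, ⊤) := (X.presheaf.germ ⊤ x trivial).hom.domain_nontrivial
  exact one_ne_zero (α := Γ(X, ⊤)) (endVal_id.symm.trans ((congrArg endVal h).trans endVal_zero))

theorem map_conj_ne_zero {C : Type*} [Category* C] [Preadditive C] (F : C ⥤ C) [F.Faithful]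
    [F.PreservesZeroMorphisms] {A A' M M' : C} (a : A' ≅ F.obj A) (b : F.obj M ≅ M') {t : A ⟶ M} (ht : t ≠ 0) :
    a.hom ≫ F.map t ≫ b.hom ≠ 0 := fun h =>
  ht (F.map_injective ((zero_of_comp_mono b.hom (zero_of_epi_comp a.hom h)).trans (F.map_zero A M).symm))

/-- An inverse pair, both with sections. -/
theorem nonempty_iso_of_inverse_pair [IsIntegral X] (hfield : IsField (Γ(X, ⊤) : Type u))
    {L M : X.Modules} (hL : PicF.IsInvertible L) (e : CohB1.tensorMod L M ≅ Coh.structureModule X)
    (s : Coh.structureModule X ⟶ L) (hs : s ≠ 0) (t : Coh.structureModule X ⟶ M) (ht : t ≠ 0) :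
    Nonempty (L ≅ Coh.structureModule X) := by
  have := VBP1Lib.isEquivalence_tensor e
  let T : X.Modules ⥤ X.Modules := CurvLib.tensorLeft' L
  let a : L ≅ T.obj (Coh.structureModule X) :=
    ((HilbPolyLib.swapIso L (Coh.structureModule X)) ≪≫ KFlatLib.tensUnitIso L).symm
  let b : T.obj M ≅ Coh.structureModule X := e
  exact nonempty_iso_of_section_cosection hfield hL s hs (a.hom ≫ T.map t ≫ b.hom)
    (map_conj_ne_zero T a b ht)

/-- An inverse pair pulls back to one. -/
theorem nonempty_pullback_inverse {Y : Scheme.{u}} (g : Y ⟶ X) {L M : X.Modules}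
    (e : CohB1.tensorMod L M ≅ Coh.structureModule X) :
    Nonempty (CohB1.tensorMod ((Scheme.Modules.pullback g).obj L) ((Scheme.Modules.pullback g).obj M) ≅
      Coh.structureModule Y) := by
  have := KFlatLib.isIso_pullθ g L M
  exact ⟨(@asIso _ _ _ _ (KFlatLib.pullθ g L M) this).symm ≪≫ (Scheme.Modules.pullback g).mapIso e ≪≫
    KFlatLib.pullUnitIso g⟩

/-- An inverse of a line bundle is a line bundle. -/
theorem isInvertible_of_inverse' {L M : X.Modules} (hL : PicF.IsInvertible L)
    (e : CohB1.tensorMod L M ≅ Coh.structureModule X) : PicF.IsInvertible M := by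
  intro x
  obtain ⟨U, hU, ⟨g⟩⟩ := hL x
  obtain ⟨t⟩ := SerreVanLib.nonempty_restrict_tensor_iso M g
  exact ⟨U, hU, ⟨t.symm ≪≫ (Scheme.Modules.restrictFunctor U.ι).mapIso (HilbPolyLib.swapIso M L ≪≫ e) ≪≫
    (Scheme.Modules.restrictFunctorIsoPullback U.ι).app _ ≪≫ KFlatLib.pullUnitIso U.ι⟩⟩

/-- Inverses are unique. -/
theorem nonempty_iso_of_inverse_unique {L M M' : X.Modules} (e : CohB1.tensorMod L M ≅ Coh.structureModule X)
    (e' : CohB1.tensorMod L M' ≅ Coh.structureModule X) : Nonempty (M ≅ M') :=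
  ⟨(HilbPolyLib.unitLeft M).symm ≪≫ HilbPolyLib.congrLeft (e'.symm ≪≫ HilbPolyLib.swapIso L M') M ≪≫
    HilbPolyLib.assocIso M' L M ≪≫ HilbPolyLib.congrRight M' e ≪≫ HilbPolyLib.swapIso M' _ ≪≫
    HilbPolyLib.unitLeft M'⟩

end CohCmpLib
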