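import Groth.Agent.CohCmpLib.ChartLink
import Groth.Agent.CohBCLib.Global
import Groth.Agent.QCohLib.SerreCrit

/-! Fibres through the models. -/

set_option autoImplicit false
set_option maxRecDepth 8000

universe u

open CategoryTheory CategoryTheory.Limits AlgebraicGeometry TopologicalSpace Opposite TensorProduct
open RpushLib (overW secFun secMap₀ extSL)
open CohBCLib (HA)
open FlatCxLib (Hm fibreRank)

namespace CohCmpLib

/-- The residue field at a point of an affine open. -/
noncomputable def resIso {S : Scheme.{u}} {V : S.Opens} (hV : IsAffineOpen V) (q : PrimeSpectrum Γ(S, V)) :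
    S.residueField (hV.fromSpec q) ≅ CommRingCat.of q.asIdeal.ResidueField :=
  let xx : ↥(Spec Γ(S, V)) := q
  asIso (hV.fromSpec.residueFieldMap xx) ≪≫ Scheme.Spec.residueFieldIso Γ(S, V) xx

theorem resIso_spec {S : Scheme.{u}} {V : S.Opens} (hV : IsAffineOpen V) (q : PrimeSpectrum Γ(S, V)) :
    Spec.map (resIso hV q).hom ≫ S.fromSpecResidueField (hV.fromSpec q) =
      Spec.map (CommRingCat.ofHom (algebraMap Γ(S, V) q.asIdeal.ResidueField)) ≫ hV.fromSpec := by
  let xx : ↥(Spec Γ(S, V)) := q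
  rw [resIso, Iso.trans_hom, asIso_hom, Spec.map_comp, Category.assoc,
    Scheme.Hom.SpecMap_residueFieldMap_fromSpecResidueField,
    ← Scheme.Spec.map_residueFieldIso_inv_eq_fromSpecResidueField]
  exact CohBCLib.spec_map_iso_cancel (Scheme.Spec.residueFieldIso Γ(S, V) xx) _ _

theorem mem_of_fromSpec {S : Scheme.{u}} {V : S.Opens} (hV : IsAffineOpen V) (q : PrimeSpectrum Γ(S, V)) :
    hV.fromSpec q ∈ V := by
  have : hV.fromSpec q ∈ Set.range hV.fromSpec := ⟨q, rfl⟩
  rwa [hV.range_fromSpec] at this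

theorem exists_fromSpec {S : Scheme.{u}} {V : S.Opens} (hV : IsAffineOpen V) {y : S} (hy : y ∈ V) :
    ∃ q : PrimeSpectrum Γ(S, V), hV.fromSpec q = y := by
  have : y ∈ Set.range hV.fromSpec := by rw [hV.range_fromSpec]; exact hy
  obtain ⟨q, hq⟩ := this
  exact ⟨q, hq⟩

theorem le_preimage_residue {S : Scheme.{u}} {V : S.Opens} {y : S} (hy : y ∈ V) :
    (⊤ : (Spec (S.residueField y)).Opens) ≤ (S.fromSpecResidueField y) ⁻¹ᵁ V := fun z _ => by
  change (S.fromSpecResidueField y) z ∈ V
  rwa [Scheme.fromSpecResidueField_apply]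

variable {X S : Scheme.{u}} {f : X ⟶ S} {F : X.Modules} {W : S.Opens} (K : Chart f F W)
  {V : S.Opens} (hV : IsAffineOpen V) (hle : V ≤ W)

/-- Fibre cohomology is the homology at the residue field. -/
theorem Chart.fibre_spec (p : ℕ) (q : PrimeSpectrum Γ(S, V)) :
    letI := K.alg hle
    CohIII.fiberRank f F p (hV.fromSpec q) =
        Module.finrank q.asIdeal.ResidueField (HmB (K.a p) (K.b p) q.asIdeal.ResidueField) ∧
      (Subsingleton (CohIII.fiberH f F (hV.fromSpec q) p) ↔
        Subsingleton (HmB (K.a p) (K.b p) q.asIdeal.ResidueField)) := by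
  let := K.alg hle
  let k := q.asIdeal.ResidueField
  let y : S := hV.fromSpec q
  let e : S.residueField y ≅ CommRingCat.of k := resIso hV q
  let f' : f.fiber y ⟶ Spec (CommRingCat.of k) := f.fiberToSpecResidueField y ≫ Spec.map e.inv
  let s := Spec.map (CommRingCat.ofHom (algebraMap Γ(S, V) k))
  have hs : Spec.map e.hom ≫ S.fromSpecResidueField y = s ≫ hV.fromSpec := resIso_spec hV q
  have hbig : IsPullback (f.fiberι y) f' f (s ≫ hV.fromSpec) := by
    refine (IsPullback.of_hasPullback f (S.fromSpecResidueField y)).of_iso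
      (Iso.refl _) (Iso.refl _) (Scheme.Spec.mapIso e.symm.op) (Iso.refl _) ?_ ?_ ?_ ?_
    · exact (Category.comp_id _).trans (Category.id_comp _).symm
    · exact ((Category.id_comp _).trans rfl).symm
    · exact (Category.comp_id _).trans (Category.id_comp _).symm
    · rw [Iso.refl_hom, Category.comp_id]
      refine Eq.trans ?_ (congrArg (Spec.map e.inv ≫ ·) hs)
      rw [← Spec.map_comp_assoc, Iso.hom_inv_id, Spec.map_id, Category.id_comp]
  have t := CohBCLib.isPullback_overW f hV
  let g' : f.fiber y ⟶ (f ⁻¹ᵁ V : Scheme.{u}) :=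
    t.lift (f.fiberι y) (f' ≫ s) (hbig.w.trans (Category.assoc _ _ _).symm)
  have hg : g' ≫ (f ⁻¹ᵁ V).ι = f.fiberι y := t.lift_fst _ _ _
  have hsq : IsPullback g' f' (overW f hV) s :=
    IsPullback.of_right (hg.symm ▸ hbig) (t.lift_snd _ _ _) t
  obtain ⟨h, sq, ⟨ε⟩⟩ := K.pb V hV hle
  have hb : s ≫ Spec.map (CommRingCat.ofHom (algebraMap K.A₀ Γ(S, V))) =
      Spec.map (CommRingCat.ofHom (algebraMap K.A₀ k)) := by
    rw [← Spec.map_comp, IsScalarTower.algebraMap_eq K.A₀ Γ(S, V) k]
    rfl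
  have sq' : IsPullback (g' ≫ h) f' K.f₀ (Spec.map (CommRingCat.ofHom (algebraMap K.A₀ k))) :=
    hb ▸ hsq.paste_horiz sq
  let θ : (Scheme.Modules.pullback (g' ≫ h)).obj (K.c.Z 0) ≅ CohIII.fiberMod f F y :=
    ((Scheme.Modules.pullbackComp g' h).app _).symm ≪≫
      (Scheme.Modules.pullback g').mapIso
        (ε ≪≫ (Scheme.Modules.restrictFunctorIsoPullback (f ⁻¹ᵁ V).ι).app F) ≪≫
      (Scheme.Modules.pullbackComp g' (f ⁻¹ᵁ V).ι).app F ≪≫ (Scheme.Modules.pullbackCongr hg).app F
  let _ := Module.compHom (CohIII.fiberH f F y p) (Coh.toGlobal f')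
  let l : HmB (K.a p) (K.b p) k ≃ₗ[k] CohIII.fiberH f F y p :=
    (LinearEquiv.ofBijective _ (K.mdl.bij k p)).trans (omegaTo sq' K.univ θ p)
  refine ⟨?_, ⟨fun h => l.toEquiv.subsingleton, fun h => l.symm.toEquiv.subsingleton⟩⟩
  rw [l.finrank_eq]
  exact CohBCLib.finrank_eq_of_semilinear (K := S.residueField y) e.commRingCatIsoToRingEquiv
    (AddEquiv.refl (CohIII.fiberH f F y p)) fun c v => by
      refine congrArg (fun a : Coh.Γtop (f.fiber y) => a • v) ?_
      exact ((CohBCLib.toGlobal_comp_specMap (f.fiberToSpecResidueField y) e.inv (e.hom c)).trans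
        (congrArg (Coh.toGlobal (f.fiberToSpecResidueField y)) (Iso.hom_inv_id_apply e c))).symm

variable [IsSeparated f] [QuasiCompact f] [Coh.IsQCoh F] [HasInjectiveResolutions X.Modules]
  {Δ : RDer.DerivedLES (Scheme.Modules.pushforward f)} (E : CohCmp.SectCmp f Δ)

/-- The fibre base change map is epi exactly for a surjective exchange map. -/
theorem Chart.epi_fibre_iff (p : ℕ) (q : PrimeSpectrum Γ(S, V))
    [HasInjectiveResolutions (f.fiber (hV.fromSpec q)).Modules]
    {Δs : RDer.DerivedLES (Scheme.Modules.pushforward (f.fiberToSpecResidueField (hV.fromSpec q)))}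
    (Es : CohCmp.SectCmp (f.fiberToSpecResidueField (hV.fromSpec q)) Δs)
    (Bs : CohCmp.GenBC f (S.fromSpecResidueField (hV.fromSpec q)) (f.fiberToSpecResidueField (hV.fromSpec q))
      (f.fiberι (hV.fromSpec q)) (f.fiber_fac (hV.fromSpec q)) E Es) :
    letI := K.alg hle
    Epi (Bs.bc p F) ↔
      Function.Surjective (canHm ((K.a p).baseChange Γ(S, V)) ((K.b p).baseChange Γ(S, V))
        q.asIdeal.ResidueField) := by
  let := K.alg hle
  let y : S := hV.fromSpec q
  let g := S.fromSpecResidueField y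
  have H : IsPullback (f.fiberι y) (f.fiberToSpecResidueField y) f g := IsPullback.of_hasPullback f g
  let hT := isAffineOpen_top (Spec (S.residueField y))
  have hl : (⊤ : (Spec (S.residueField y)).Opens) ≤ g ⁻¹ᵁ V := le_preimage_residue (mem_of_fromSpec hV q)
  let := (g.appLE V ⊤ hl).hom.toAlgebra
  let e : Γ(Spec (S.residueField y), ⊤) ≅ CommRingCat.of q.asIdeal.ResidueField :=
    Scheme.ΓSpecIso (S.residueField y) ≪≫ resIso hV q
  have he : g.appLE V ⊤ hl ≫ e.hom = CommRingCat.ofHom (algebraMap Γ(S, V) q.asIdeal.ResidueField) := by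
    apply Spec.map_injective
    rw [← cancel_mono hV.fromSpec, Spec.map_comp, Category.assoc,
      IsAffineOpen.SpecMap_appLE_fromSpec g hV hT hl, Iso.trans_hom, Spec.map_comp, Category.assoc]
    refine Eq.trans ?_ (resIso_spec hV q)
    refine congrArg (Spec.map (resIso hV q).hom ≫ ·) ?_
    rw [IsAffineOpen.fromSpec_top, Scheme.isoSpec_Spec_inv, ← Spec.map_comp_assoc, Iso.inv_hom_id,
      Spec.map_id, Category.id_comp]
  let eA : Γ(Spec (S.residueField y), ⊤) ≃ₐ[Γ(S, V)] q.asIdeal.ResidueField :=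
    AlgEquiv.ofRingEquiv (f := e.commRingCatIsoToRingEquiv) fun c => congr($he c)
  have hab := baseChange_comp_eq_zero (C := Γ(S, V)) (K.a p) (K.b p) (K.hab p)
  have : IsSeparated (f.fiberToSpecResidueField y) := MorphismProperty.of_isPullback H ‹_›
  have : QuasiCompact (f.fiberToSpecResidueField y) := MorphismProperty.of_isPullback H ‹_›
  have : Coh.IsQCoh ((Scheme.Modules.pullback (f.fiberι y)).obj F) := KFlatLib.isQCoh_pullback _ F
  have := RpushLib.isQCoh_Rpush f F p
  have := RpushLib.isQCoh_Rpush (f.fiberToSpecResidueField y) ((Scheme.Modules.pullback (f.fiberι y)).obj F) p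
  have : Coh.IsQCoh ((Scheme.Modules.pullback g).obj ((Coh.Rpush f p).obj F)) := KFlatLib.isQCoh_pullback g _
  have h1 : Epi (Bs.bc p F) ↔ Function.Surjective ((Bs.bc p F).app ⊤) := by
    refine ⟨fun _ => FormalLib.app_surjective_of_epi _ (Bs.bc p F) hT, fun h => ?_⟩
    refine QCohLib.epi_of_surjective_on_affines _ fun O t z hz => ?_
    obtain rfl : O = ⊤ := top_le_iff.1 fun z' _ => by rwa [Subsingleton.elim z' z]
    exact ⟨⊤, le_rfl, hz, h _⟩
  refine h1.trans ((surjective_app_symm_iff (Bs.φ p F) hV hT hl).trans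
    ((K.secMap_iff E H Es Bs hV hle hT hl p).2.trans ?_))
  exact ⟨fun h => surjective_canHm_algEquiv eA hab h, fun h => surjective_canHm_algEquiv eA.symm hab h⟩

end CohCmpLib
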