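import Groth.Agent.CohCmpLib.Rows
import Groth.Agent.CohCmpLib.SectExists
import Groth.Agent.PerfLib.Restrict

/-! Consequences of the vanishing of fibre cohomology, without comparison data in the hypotheses. -/

set_option autoImplicit false
set_option maxRecDepth 8000

universe u

open CategoryTheory CategoryTheory.Limits AlgebraicGeometry TopologicalSpace Opposite

namespace CohCmpLib

variable {X S : Scheme.{u}} {f : X ⟶ S} {F : X.Modules} [IsProper f] [LocallyOfFinitePresentation f]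
  [Coh.IsQCoh F] [HasInjectiveResolutions X.Modules]

/-- Degree zero needs no hypothesis. -/
theorem Chart.flAt_zero {W : S.Opens} (K : Chart f F W) {V : S.Opens} (hle : V ≤ W) : K.FlAt 0 hle := by
  let := K.alg hle
  exact K.fl_zero Γ(S, V)

/-- Vanishing in one degree at a point. -/
theorem exists_vanishing_nhd_at (hfp : CohB1.IsFP F) (hfl : FlatMod.IsFlatOver f F) (p : ℕ) (s : S)
    (h : Subsingleton (CohIII.fiberH f F s p)) :
    ∃ U : S.Opens, s ∈ U ∧ IsZero (((Coh.Rpush f p).obj F).restrict U.ι) := by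
  obtain ⟨Δ, ⟨E⟩⟩ := exists_sectCmp f
  obtain ⟨W, K, hW, hsW⟩ := exists_chart_at hfp hfl s
  obtain ⟨V, -, -, -, hsV, -, -, hz, -⟩ := K.exists_vanishing_nhd E hW le_rfl p hsW h
  exact ⟨V, hsV, hz⟩

/-- Vanishing in one degree at all points. -/
theorem isZero_rpush_of_fibre (hfp : CohB1.IsFP F) (hfl : FlatMod.IsFlatOver f F) (p : ℕ)
    (h : ∀ s : S, Subsingleton (CohIII.fiberH f F s p)) : IsZero ((Coh.Rpush f p).obj F) :=
  isZero_of_restrict_top (isZero_restrict_of_nhds _ _ fun s _ => exists_vanishing_nhd_at hfp hfl p s (h s))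

/-- Flat cokernels in two consecutive degrees near `s` make the direct image free near `s`. -/
theorem exists_free_at {W : S.Opens} (K : Chart f F W) {V : S.Opens} (hV : IsAffineOpen V) (hle : V ≤ W)
    (p : ℕ) (a : K.FlAt p hle) (b : K.FlAt (p + 1) hle) {s : S} (hs : s ∈ V) :
    ∃ (O : S.Opens) (n : ℕ), s ∈ O ∧ Nonempty (((Coh.Rpush f p).obj F).restrict O.ι ≅ FlatMod.freeMod (↑O) n) := by
  obtain ⟨Δ, ⟨E⟩⟩ := exists_sectCmp f
  obtain ⟨O, hO, e⟩ := K.exists_free_nhd E hV hle p a b hs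
  exact ⟨O, _, hO, e⟩

/-- Vanishing of the fibre cohomology in degree `q + 2` and `q` makes degree `q + 1` locally free. -/
theorem exists_adjacent_nhd (hfp : CohB1.IsFP F) (hfl : FlatMod.IsFlatOver f F) (q : ℕ) (s : S)
    (ha : Subsingleton (CohIII.fiberH f F s (q + 2))) (hb : Subsingleton (CohIII.fiberH f F s q)) :
    ∃ U : S.Opens, s ∈ U ∧ IsZero (((Coh.Rpush f (q + 2)).obj F).restrict U.ι) ∧
      IsZero (((Coh.Rpush f q).obj F).restrict U.ι) ∧
        FlatMod.IsFinLocFree (((Coh.Rpush f (q + 1)).obj F).restrict U.ι) := by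
  obtain ⟨Δ, ⟨E⟩⟩ := exists_sectCmp f
  obtain ⟨W, K, hW, hsW⟩ := exists_chart_at hfp hfl s
  obtain ⟨V₁, h₁, -, hV₁, hs₁, a₁, -, z₁, -⟩ := K.exists_vanishing_nhd E hW le_rfl (q + 2) hsW ha
  obtain ⟨V, hle, hVV₁, hV, hsV, -, b, z, -⟩ := K.exists_vanishing_nhd E hV₁ h₁ q hs₁ hb
  exact ⟨V, hsV, isZero_restrict_mono z₁ hVV₁, z, isFinLocFree_restrict_of_nhds _ V fun x hx =>
    exists_free_at K hV hle (q + 1) b (K.flAt_mono a₁ hVV₁) hx⟩

/-- The free neighbourhood in the middle degree. -/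
theorem exists_adjacent_free (hfp : CohB1.IsFP F) (hfl : FlatMod.IsFlatOver f F) (q : ℕ) (s : S)
    (ha : Subsingleton (CohIII.fiberH f F s (q + 2))) (hb : Subsingleton (CohIII.fiberH f F s q)) :
    ∃ (O : S.Opens) (n : ℕ), s ∈ O ∧
      Nonempty (((Coh.Rpush f (q + 1)).obj F).restrict O.ι ≅ FlatMod.freeMod (↑O) n) := by
  obtain ⟨Δ, ⟨E⟩⟩ := exists_sectCmp f
  obtain ⟨W, K, hW, hsW⟩ := exists_chart_at hfp hfl s
  obtain ⟨V₁, h₁, -, hV₁, hs₁, a₁, -, -, -⟩ := K.exists_vanishing_nhd E hW le_rfl (q + 2) hsW ha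
  obtain ⟨V, hle, hVV₁, hV, hsV, -, b, -, -⟩ := K.exists_vanishing_nhd E hV₁ h₁ q hs₁ hb
  exact exists_free_at K hV hle (q + 1) b (K.flAt_mono a₁ hVV₁) hsV

/-- Vanishing in degree one at a point. -/
theorem exists_degree_one_nhd (hfp : CohB1.IsFP F) (hfl : FlatMod.IsFlatOver f F) (s : S)
    (h : Subsingleton (CohIII.fiberH f F s 1)) :
    ∃ U : S.Opens, s ∈ U ∧ IsZero (((Coh.Rpush f 1).obj F).restrict U.ι) ∧
      FlatMod.IsFinLocFree (((Coh.Rpush f 0).obj F).restrict U.ι) := by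
  obtain ⟨Δ, ⟨E⟩⟩ := exists_sectCmp f
  obtain ⟨W, K, hW, hsW⟩ := exists_chart_at hfp hfl s
  obtain ⟨V, hle, -, hV, hsV, a, -, z, -⟩ := K.exists_vanishing_nhd E hW le_rfl 1 hsW h
  exact ⟨V, hsV, z, isFinLocFree_restrict_of_nhds _ V fun x hx =>
    exists_free_at K hV hle 0 (K.flAt_zero hle) a hx⟩

/-- Degree zero is the direct image. -/
theorem isFinLocFree_push_of_rpush_zero {U : S.Opens}
    (h : FlatMod.IsFinLocFree (((Coh.Rpush f 0).obj F).restrict U.ι)) :
    FlatMod.IsFinLocFree (((Coh.push f).obj F).restrict U.ι) :=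
  have : PreservesFiniteLimits (Scheme.Modules.pushforward f) := preservesFiniteLimits_push
  Groth.Agent.PerfLib.isFinLocFree_of_iso ((Scheme.Modules.restrictFunctor U.ι).mapIso
    ((Scheme.Modules.pushforward f).rightDerivedZeroIsoSelf.app F)) h

end CohCmpLib
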