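import Groth.Agent.CohCmpLib.SectionPair
import Groth.Agent.CohCmpLib.FibreRows

/-!
Line bundles in families: reduced bases, and fibres with sections of an inverse pair.
-/

set_option autoImplicit false
set_option maxRecDepth 8000

noncomputable section

universe u

open CategoryTheory CategoryTheory.Limits AlgebraicGeometry TopologicalSpace Opposite

namespace CohCmpLib

variable {X S : Scheme.{u}} (f : X ⟶ S)

/-- Surjective comparisons only depend on the isomorphism class. -/
theorem epi_bc0_of_iso {X' S' : Scheme.{u}} {g : S' ⟶ S} {f' : X' ⟶ S'} {g' : X' ⟶ X} (w : g' ≫ f = f' ≫ g)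
    {F G : X.Modules} (e : F ≅ G) (h : Epi (CohBC.bc0 f g f' g' w F)) : Epi (CohBC.bc0 f g f' g' w G) := by
  have e1 := bc0_map w e.hom
  have : Epi ((Scheme.Modules.pullback g).map ((Scheme.Modules.pushforward f).map e.hom) ≫
      CohBC.bc0 f g f' g' w G) := by
    rw [e1]; exact epi_comp _ _
  exact epi_of_epi ((Scheme.Modules.pullback g).map ((Scheme.Modules.pushforward f).map e.hom)) _

/-- Nonzero cohomology in degree zero is a nonzero section. -/
theorem exists_section_of_nontrivial {F : X.Modules} {y : S} (h : Nontrivial (CohIII.fiberH f F y 0)) :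
    ∃ s : Coh.structureModule (f.fiber y) ⟶ CohIII.fiberMod f F y, s ≠ 0 := by
  have : Nontrivial Γ(CohIII.fiberMod f F y, ⊤) :=
    ((DegPullLib.e0 (CohIII.fiberMod f F y)).toEquiv.nontrivial_congr).1 h
  obtain ⟨x, hx⟩ := exists_ne (0 : Γ(CohIII.fiberMod f F y, ⊤))
  refine ⟨(KFlatLib.unitSecEquiv _).symm x, fun h0 => hx ?_⟩
  rw [← (KFlatLib.unitSecEquiv (CohIII.fiberMod f F y)).apply_symm_apply x, h0]
  rfl

/-- A trivial line bundle on a fibre has nonzero sections. -/
theorem nontrivial_of_trivial {F : X.Modules} {y : S} [Nonempty (f.fiber y)]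
    (h : Nonempty (CohIII.fiberMod f F y ≅ Coh.structureModule (f.fiber y))) :
    Nontrivial (CohIII.fiberH f F y 0) := by
  obtain ⟨z⟩ := ‹Nonempty (f.fiber y)›
  have hN : Nontrivial Γ(f.fiber y, ⊤) := ((f.fiber y).presheaf.germ ⊤ z trivial).hom.domain_nontrivial
  let k : Type u := S.residueField y
  let : (f.fiber y).Over (Spec (CommRingCat.of k)) := ⟨f.fiberToSpecResidueField y⟩
  have : Nontrivial (Coh.HH (f.fiber y) (Coh.structureModule (f.fiber y)) 0) :=
    ((DegPullLib.e0 (Coh.structureModule (f.fiber y))).toEquiv.nontrivial_congr).2 hN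
  exact (CurvLib.hIso (k := k) h.some 0).toEquiv.nontrivial_congr.2 this

/-- Fibrewise triviality from sections of an inverse pair. -/
theorem trivial_of_sections [UniversallyClosed f] {L M : X.Modules} (hL : PicF.IsInvertible L)
    (e : CohB1.tensorMod L M ≅ Coh.structureModule X) (y : S) [IsIntegral (f.fiber y)]
    (h₁ : Nontrivial (CohIII.fiberH f L y 0)) (h₂ : Nontrivial (CohIII.fiberH f M y 0)) :
    Nonempty (CohIII.fiberMod f L y ≅ Coh.structureModule (f.fiber y)) := by
  have : UniversallyClosed (f.fiberToSpecResidueField y) :=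
    MorphismProperty.of_isPullback (IsPullback.of_hasPullback f (S.fromSpecResidueField y)) ‹_›
  have hfield : IsField (Γ(f.fiber y, ⊤) : Type u) :=
    isField_of_universallyClosed (S.residueField y) (f.fiberToSpecResidueField y)
  obtain ⟨e'⟩ := nonempty_pullback_inverse (f.fiberι y) e
  obtain ⟨s, hs⟩ := exists_section_of_nontrivial f h₁
  obtain ⟨t, ht⟩ := exists_section_of_nontrivial f h₂
  exact nonempty_iso_of_inverse_pair hfield (AmpleDevLib.isInvertible_pb (f.fiberι y) hL) e' s hs t ht

variable [IsProper f] [Flat f] [LocallyOfFinitePresentation f]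

omit [Flat f] in
/-- Over a reduced base constant fibre rank gives base change in degree zero. -/
theorem epi_bc0_of_locallyConstant [IsReduced S] {F : X.Modules} [Coh.IsQCoh F] (hfp : CohB1.IsFP F)
    (hfl : FlatMod.IsFlatOver f F) (h : IsLocallyConstant (CohIII.fiberRank f F 0)) (s : S) :
    Epi (CohBC.bc0 f (S.fromSpecResidueField s) (f.fiberToSpecResidueField s) (f.fiberι s) (f.fiber_fac s) F) := by
  have : HasInjectiveResolutions X.Modules := inferInstance
  have : HasInjectiveResolutions (f.fiber s).Modules := inferInstance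
  obtain ⟨Δ, ⟨E⟩⟩ := exists_sectCmp f
  obtain ⟨Δ', ⟨E'⟩⟩ := exists_sectCmp (f.fiberToSpecResidueField s)
  let B := genBC (f.fiber_fac s) E E'
  have : IsIso (B.bc 0 F) := isIso_bc_of_compatAt E (IsPullback.of_hasPullback f (S.fromSpecResidueField s)) E' B 0
    fun z => by
      obtain ⟨W, K, hW, hzW⟩ := exists_chart_at hfp hfl (S.fromSpecResidueField s z)
      exact ⟨W, K, W, le_rfl, hW, hzW, (K.flAt_of_locallyConstant hW le_rfl 0 h).2⟩
  have := isIso_bc0_of_bc B F
  infer_instance

/-- Over a reduced base: trivial on fibres is a pullback from the base. -/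
theorem counit_of_trivial_reduced [IsReduced S]
    (h0 : ∀ y : S, Module.finrank (S.residueField y) Γ(f.fiber y, ⊤) = 1) {L : X.Modules}
    (hL : FlatMod.IsFinLocFreeOfRank 1 L)
    (htriv : ∀ y : S, Nonempty (CohIII.fiberMod f L y ≅ Coh.structureModule (f.fiber y))) :
    FlatMod.IsFinLocFreeOfRank 1 ((Scheme.Modules.pushforward f).obj L) ∧
      IsIso ((Scheme.Modules.pullbackPushforwardAdjunction f).counit.app L) := by
  obtain ⟨hQ, hfp, hfl⟩ := rank_one_hyps f hL
  refine counit_of_trivial f h0 hL htriv (epi_bc0_of_locallyConstant f hfp hfl ?_)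
  rw [show CohIII.fiberRank f L 0 = fun _ => 1 from funext fun y => fiberRank_eq_one f h0 y (htriv y)]
  exact IsLocallyConstant.const 1

omit [Flat f] in
/-- Nonvanishing of fibre cohomology is closed. -/
theorem isClosed_nontrivial_fiberH {F : X.Modules} [Coh.IsQCoh F] (hfp : CohB1.IsFP F)
    (hfl : FlatMod.IsFlatOver f F) (p : ℕ) : IsClosed {s : S | Nontrivial (CohIII.fiberH f F s p)} := by
  rw [← isOpen_compl_iff, isOpen_iff_forall_mem_open]
  intro s hs
  have hs' : Subsingleton (CohIII.fiberH f F s p) := not_nontrivial_iff_subsingleton.1 hs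
  have : HasInjectiveResolutions X.Modules := inferInstance
  obtain ⟨Δ, ⟨E⟩⟩ := exists_sectCmp f
  obtain ⟨W, K, hW, hsW⟩ := exists_chart_at hfp hfl s
  obtain ⟨V, -, -, -, hsV, -, -, -, hz⟩ := K.exists_vanishing_nhd E hW le_rfl p hsW hs'
  exact ⟨V, fun z hz' => not_nontrivial_iff_subsingleton.2 (hz z hz'), V.2, hsV⟩

end CohCmpLib
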