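import Groth.Agent.CohCmpLib.PullOnComp

/-! Restriction commutes with pullback of classes. Classes pulled back along equal data are compared at
the level of homomorphisms, never pointwise by reflexivity (that unfolds Ext in the kernel). -/

set_option autoImplicit false
set_option maxHeartbeats 1000000

universe u

open CategoryTheory CategoryTheory.Limits AlgebraicGeometry TopologicalSpace Opposite
open KFlatLib (puSec puSecLE)

namespace CohCmpLib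

variable {X Y : Scheme.{u}}

theorem pullbackId_comp (g : X ⟶ Y) (F : Y.Modules) :
    (Scheme.Modules.pullbackId X).hom.app ((Scheme.Modules.pullback g).obj F) =
      (Scheme.Modules.pullbackComp (𝟙 X) g).hom.app F ≫
        (Scheme.Modules.pullbackCongr (Category.id_comp g)).hom.app F := by
  refine hom_ext_puSec₂ _ _ fun U m => ?_
  let G := (Scheme.Modules.pullback g).obj F
  refine (congrArg (((Scheme.Modules.pullbackId X).hom.app G).app ((𝟙 X) ⁻¹ᵁ (g ⁻¹ᵁ U)))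
    (puSecLE_refl (𝟙 X) G (le_refl ((𝟙 X) ⁻¹ᵁ (g ⁻¹ᵁ U))) (puSec g m)).symm).trans ?_
  refine (pullbackId_puSecLE G (le_refl (g ⁻¹ᵁ U)) (puSec g m)).trans ?_
  refine (congr($((G.presheaf.map_id (op (g ⁻¹ᵁ U)))) (puSec g m))).trans ?_
  refine Eq.trans ?_ (congrArg (((Scheme.Modules.pullbackCongr (Category.id_comp g)).hom.app F).app
    ((𝟙 X) ⁻¹ᵁ (g ⁻¹ᵁ U))) (pullbackComp_puSec (𝟙 X) g F m)).symm
  have h2 := pullbackCongr_puSec (Category.id_comp g) F m (le_refl ((𝟙 X ≫ g) ⁻¹ᵁ U))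
    (V := (𝟙 X ≫ g) ⁻¹ᵁ U) (by rw [Category.id_comp])
  exact ((congrArg _ (puSecLE_refl (𝟙 X ≫ g) F (le_refl _) m).symm).trans
    (h2.trans (puSecLE_refl g F (le_refl (g ⁻¹ᵁ U)) m))).symm

theorem pullbackId_comp' (g : X ⟶ Y) (F : Y.Modules) :
    (Scheme.Modules.pullback g).map ((Scheme.Modules.pullbackId Y).hom.app F) =
      (Scheme.Modules.pullbackComp g (𝟙 Y)).hom.app F ≫
        (Scheme.Modules.pullbackCongr (Category.comp_id g)).hom.app F := by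
  refine hom_ext_puSec₂ _ _ fun U m => ?_
  refine (KFlatLib.puSec_natural g _ _).trans ?_
  refine (congrArg (puSec g) ((congrArg (((Scheme.Modules.pullbackId Y).hom.app F).app ((𝟙 Y) ⁻¹ᵁ U))
    (puSecLE_refl (𝟙 Y) F (le_refl ((𝟙 Y) ⁻¹ᵁ U)) m).symm).trans
      ((pullbackId_puSecLE F (le_refl U) m).trans (congr($((F.presheaf.map_id (op U))) m))))).trans ?_
  refine Eq.trans ?_ (congrArg (((Scheme.Modules.pullbackCongr (Category.comp_id g)).hom.app F).app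
    (g ⁻¹ᵁ ((𝟙 Y) ⁻¹ᵁ U))) (pullbackComp_puSec g (𝟙 Y) F m)).symm
  have h2 := pullbackCongr_puSec (Category.comp_id g) F m (le_refl ((g ≫ 𝟙 Y) ⁻¹ᵁ U))
    (V := (g ≫ 𝟙 Y) ⁻¹ᵁ U) (by rw [Category.comp_id])
  exact ((congrArg _ (puSecLE_refl (g ≫ 𝟙 Y) F (le_refl _) m).symm).trans
    (h2.trans (puSecLE_refl g F (le_refl (g ⁻¹ᵁ U)) m))).symm

theorem hpo_irrel (a : X ⟶ Y) {U : Y.Opens} {U' : X.Opens} (ha hb : U' ≤ a ⁻¹ᵁ U) (F : Y.Modules) (p : ℕ) :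
    hpo a ha F p = hpo a hb F p := rfl

theorem hpo_congr {a b : X ⟶ Y} (e : a = b) {U : Y.Opens} {U' : X.Opens} (ha : U' ≤ a ⁻¹ᵁ U)
    (hb : U' ≤ b ⁻¹ᵁ U) (F : Y.Modules) (p : ℕ) (x : HCo F U p) :
    hm ((Scheme.Modules.restrictFunctor U'.ι).map ((Scheme.Modules.pullbackCongr e).hom.app F)) p
        (hpo a ha F p x) = hpo b hb F p x := by
  subst e
  have h : (Scheme.Modules.restrictFunctor U'.ι).map ((Scheme.Modules.pullbackCongr (rfl : a = a)).hom.app F) =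
      𝟙 ((Scheme.Modules.restrictFunctor U'.ι).obj ((Scheme.Modules.pullback a).obj F)) :=
    (Scheme.Modules.restrictFunctor U'.ι).map_id _
  refine Eq.trans ?_ (DFunLike.congr_fun (hpo_irrel a ha hb F p) x)
  refine Eq.trans ?_ (hm_id ((Scheme.Modules.restrictFunctor U'.ι).obj ((Scheme.Modules.pullback a).obj F)) p
    (hpo a ha F p x))
  rw [h]

theorem hres_apply_any {V V' : X.Opens} (le : V' ≤ V) (h' : V' ≤ (𝟙 X) ⁻¹ᵁ V) (F : X.Modules) (p : ℕ)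
    (x : HCo F V p) :
    hres F le p x = hm ((Scheme.Modules.restrictFunctor V'.ι).map
      ((Scheme.Modules.pullbackId X).hom.app F)) p (hpo (𝟙 X) h' F p x) := by
  rw [← hpo_irrel (𝟙 X) (show V' ≤ (𝟙 X) ⁻¹ᵁ V from le) h' F p]
  exact hres_apply le F p x

/-- Pullback then restriction. -/
theorem hres_hpo_left (g : X ⟶ Y) {U : Y.Opens} {U' U₁' : X.Opens} (hU' : U₁' ≤ U')
    (h : U' ≤ g ⁻¹ᵁ U) (hg : U₁' ≤ g ⁻¹ᵁ U) (F : Y.Modules) (p : ℕ) (x : HCo F U p) :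
    hres ((Scheme.Modules.pullback g).obj F) hU' p (hpo g h F p x) = hpo g hg F p x := by
  have h1 : U₁' ≤ (𝟙 X) ⁻¹ᵁ U' := by rwa [Scheme.Hom.id_preimage]
  have h2 : U₁' ≤ (𝟙 X ≫ g) ⁻¹ᵁ U := by rwa [Category.id_comp]
  rw [hres_apply_any hU' h1, pullbackId_comp g F, Functor.map_comp, hm_comp,
    hpo_hpo (𝟙 X) g h h1 h2 F p x]
  exact hpo_congr (Category.id_comp g) h2 hg F p x

/-- Restriction then pullback. -/
theorem hres_hpo_right (g : X ⟶ Y) {U U₁ : Y.Opens} {U₁' : X.Opens} (hU : U₁ ≤ U)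
    (h₁ : U₁' ≤ g ⁻¹ᵁ U₁) (hg : U₁' ≤ g ⁻¹ᵁ U) (F : Y.Modules) (p : ℕ) (x : HCo F U p) :
    hpo g h₁ F p (hres F hU p x) = hpo g hg F p x := by
  have h1 : U₁ ≤ (𝟙 Y) ⁻¹ᵁ U := by rwa [Scheme.Hom.id_preimage]
  have h2 : U₁' ≤ (g ≫ 𝟙 Y) ⁻¹ᵁ U := by rwa [Category.comp_id]
  rw [hres_apply_any hU h1, ← hpo_natural, pullbackId_comp' g F, Functor.map_comp, hm_comp,
    hpo_hpo g (𝟙 Y) h1 h₁ h2 F p x]
  exact hpo_congr (Category.comp_id g) h2 hg F p x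

/-- Restriction commutes with pullback of classes. -/
theorem hres_hpo (g : X ⟶ Y) {U U₁ : Y.Opens} {U' U₁' : X.Opens} (hU : U₁ ≤ U) (hU' : U₁' ≤ U')
    (h : U' ≤ g ⁻¹ᵁ U) (h₁ : U₁' ≤ g ⁻¹ᵁ U₁) (F : Y.Modules) (p : ℕ) (x : HCo F U p) :
    hres ((Scheme.Modules.pullback g).obj F) hU' p (hpo g h F p x) =
      hpo g h₁ F p (hres F hU p x) :=
  (hres_hpo_left g hU' h (hU'.trans h) F p x).trans (hres_hpo_right g hU h₁ (hU'.trans h) F p x).symm

end CohCmpLib
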