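import Groth.Agent.CohCmpLib.SectExists
import Groth.Agent.CohCmpLib.HresHpo

/-! Base change maps of higher direct images exist. Values live on `S'` until the last definition. -/

set_option autoImplicit false
set_option maxHeartbeats 1000000
set_option maxRecDepth 4000

universe u

open CategoryTheory CategoryTheory.Limits AlgebraicGeometry TopologicalSpace Opposite
open QCohLib (toAbF)

namespace CohCmpLib

/-- Monotonicity of preimages, stated on `Scheme.Opens` (the type `homOfLE` gets matters in the kernel). -/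
theorem pre_le {A B : Scheme.{u}} (k : A ⟶ B) {V V' : B.Opens} (h : V' ≤ V) : k ⁻¹ᵁ V' ≤ k ⁻¹ᵁ V :=
  k.preimage_mono h

section Sheaf

variable {X : Scheme.{u}} (M : X.Modules) {ι : Type*} (U : ι → X.Opens) {V : X.Opens} (hle : ∀ i, U i ≤ V)
  (hcov : V ≤ iSup U)

include hcov in
theorem mod_eq_of_locally (a b : Γ(M, V))
    (h : ∀ i, M.presheaf.map (homOfLE (hle i)).op a = M.presheaf.map (homOfLE (hle i)).op b) : a = b :=
  TopCat.Sheaf.eq_of_locally_eq' ((toAbF X).obj M : TopCat.Sheaf AddCommGrpCat _) U V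
    (fun i => homOfLE (hle i)) hcov a b h

include hcov in
theorem mod_glue (s : ∀ i, Γ(M, U i))
    (h : ∀ i j, M.presheaf.map (homOfLE (inf_le_left : U i ⊓ U j ≤ U i)).op (s i) =
      M.presheaf.map (homOfLE (inf_le_right : U i ⊓ U j ≤ U j)).op (s j)) :
    ∃ v : Γ(M, V), ∀ i, M.presheaf.map (homOfLE (hle i)).op v = s i :=
  (TopCat.Sheaf.existsUnique_gluing' ((toAbF X).obj M : TopCat.Sheaf AddCommGrpCat _) U V
    (fun i => homOfLE (hle i)) hcov s h).exists

end Sheaf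

variable {X S X' S' : Scheme.{u}} {f : X ⟶ S} {g : S' ⟶ S} {f' : X' ⟶ S'} {g' : X' ⟶ X}
  (w : g' ≫ f = f' ≫ g) [HasInjectiveResolutions X.Modules] [HasInjectiveResolutions X'.Modules]
  {Δ : RDer.DerivedLES (Scheme.Modules.pushforward f)} {Δ' : RDer.DerivedLES (Scheme.Modules.pushforward f')}
  (E : CohCmp.SectCmp f Δ) (E' : CohCmp.SectCmp f' Δ') (p : ℕ) (F : X.Modules)

local notation3 "tgtSh[" p ", " F "]" => (Coh.Rpush f' p).obj ((Scheme.Modules.pullback g').obj F)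

/-- The prescribed value on a class. -/
noncomputable def bcVal (V : S.Opens) :
    HCo F (f ⁻¹ᵁ V) p →+ Γ(tgtSh[p, F], g ⁻¹ᵁ V) :=
  (eps E' (g ⁻¹ᵁ V) ((Scheme.Modules.pullback g').obj F) p).comp
    (hpo g' (CohCmp.sqLE f g f' g' w V) F p)

theorem bcVal_apply (V : S.Opens) (x : HCo F (f ⁻¹ᵁ V) p) :
    bcVal w E' p F V x = eps E' (g ⁻¹ᵁ V) ((Scheme.Modules.pullback g').obj F) p
      (hpo g' (CohCmp.sqLE f g f' g' w V) F p x) := by
  rw [bcVal, AddMonoidHom.comp_apply]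

theorem bcVal_hres {V V' : S.Opens} (h : V' ≤ V) (x : HCo F (f ⁻¹ᵁ V) p) :
    bcVal w E' p F V' (hres F (f.preimage_mono h) p x) =
      (tgtSh[p, F]).presheaf.map (homOfLE (pre_le g h)).op (bcVal w E' p F V x) := by
  rw [bcVal_apply, bcVal_apply,
    ← hres_hpo g' (f.preimage_mono h) (f'.preimage_mono (pre_le g h))
      (CohCmp.sqLE f g f' g' w V) (CohCmp.sqLE f g f' g' w V') F p x]
  exact eps_hres E' (pre_le g h) _ p _

theorem bcVal_eq_zero (V : S.Opens) (x : HCo F (f ⁻¹ᵁ V) p) (hx : eps E V F p x = 0) :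
    bcVal w E' p F V x = 0 := by
  choose W hW hyW h0 using fun y : {y // y ∈ V} => eps_locally_injective E p F V x hx y.2
  refine mod_eq_of_locally (tgtSh[p, F]) (fun i => g ⁻¹ᵁ W i) (fun i => pre_le g (hW i))
    (fun y hy => Opens.mem_iSup.mpr ⟨⟨g y, hy⟩, hyW ⟨g y, hy⟩⟩) _ _ fun i => ?_
  rw [← bcVal_hres w E' p F (hW i), h0 i, map_zero, map_zero]

theorem bcVal_congr {V : S.Opens} {x y : HCo F (f ⁻¹ᵁ V) p} (h : eps E V F p x = eps E V F p y) :
    bcVal w E' p F V x = bcVal w E' p F V y := by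
  rw [← sub_eq_zero, ← map_sub]
  exact bcVal_eq_zero w E E' p F V _ (by rw [map_sub, h, sub_self])

theorem eps_hres_congr {V V₁ V₂ O : S.Opens} (h₁ : V₁ ≤ V) (h₂ : V₂ ≤ V) (o₁ : O ≤ V₁) (o₂ : O ≤ V₂)
    (t : Γ((Coh.Rpush f p).obj F, V)) (x₁ : HCo F (f ⁻¹ᵁ V₁) p) (x₂ : HCo F (f ⁻¹ᵁ V₂) p)
    (e₁ : eps E V₁ F p x₁ = ((Coh.Rpush f p).obj F).presheaf.map (homOfLE h₁).op t)
    (e₂ : eps E V₂ F p x₂ = ((Coh.Rpush f p).obj F).presheaf.map (homOfLE h₂).op t) :
    eps E O F p (hres F (f.preimage_mono o₁) p x₁) = eps E O F p (hres F (f.preimage_mono o₂) p x₂) := by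
  rw [eps_hres E o₁, eps_hres E o₂, e₁, e₂, QCohLib.map_map', QCohLib.map_map']
  rfl

/-- The characterisation of the value on a section. -/
def IsVal (V : S.Opens) (t : Γ((Coh.Rpush f p).obj F, V)) (v : Γ(tgtSh[p, F], g ⁻¹ᵁ V)) :
    Prop :=
  ∀ (W : S.Opens) (h : W ≤ V) (x : HCo F (f ⁻¹ᵁ W) p),
    eps E W F p x = ((Coh.Rpush f p).obj F).presheaf.map (homOfLE h).op t →
      bcVal w E' p F W x = (tgtSh[p, F]).presheaf.map (homOfLE (pre_le g h)).op v

theorem exists_val (V : S.Opens) (t : Γ((Coh.Rpush f p).obj F, V)) :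
    ∃ v, IsVal w E E' p F V t v := by
  choose W hW hyW x hx using fun i : {y // y ∈ V} => eps_locally_surjective E p F V t i.2
  let T := tgtSh[p, F]
  obtain ⟨v, hv⟩ := mod_glue T (fun i => g ⁻¹ᵁ W i) (fun i => pre_le g (hW i))
    (fun y hy => Opens.mem_iSup.mpr ⟨⟨g y, hy⟩, hyW ⟨g y, hy⟩⟩) (fun i => bcVal w E' p F (W i) (x i))
    (fun i j => by
      refine (bcVal_hres w E' p F (inf_le_left : W i ⊓ W j ≤ W i) (x i)).symm.trans ?_
      refine Eq.trans ?_ (bcVal_hres w E' p F (inf_le_right : W i ⊓ W j ≤ W j) (x j))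
      exact bcVal_congr w E E' p F
        (eps_hres_congr E p F (hW i) (hW j) inf_le_left inf_le_right t _ _ (hx i) (hx j)))
  refine ⟨v, fun W₀ h x₀ hx₀ => ?_⟩
  refine mod_eq_of_locally T (fun i => g ⁻¹ᵁ (W₀ ⊓ W i)) (fun i => pre_le g inf_le_left) ?_ _ _
    fun i => ?_
  · intro y hy
    exact Opens.mem_iSup.mpr ⟨⟨g y, h hy⟩, hy, hyW ⟨g y, h hy⟩⟩
  · refine (bcVal_hres w E' p F (inf_le_left : W₀ ⊓ W i ≤ W₀) x₀).symm.trans ?_
    refine (bcVal_congr w E E' p F
      (eps_hres_congr E p F h (hW i) inf_le_left inf_le_right t _ _ hx₀ (hx i))).trans ?_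
    rw [bcVal_hres w E' p F (inf_le_right : W₀ ⊓ W i ≤ W i), ← hv i, QCohLib.map_map', QCohLib.map_map']
    rfl

/-- The value on a section. -/
noncomputable def val (V : S.Opens) (t : Γ((Coh.Rpush f p).obj F, V)) :
    Γ(tgtSh[p, F], g ⁻¹ᵁ V) :=
  (exists_val w E E' p F V t).choose

theorem isVal_val (V : S.Opens) (t : Γ((Coh.Rpush f p).obj F, V)) : IsVal w E E' p F V t (val w E E' p F V t) :=
  (exists_val w E E' p F V t).choose_spec

/-- An identity between values may be checked on classes. -/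
theorem val_ext {V : S.Opens} {t : Γ((Coh.Rpush f p).obj F, V)} {u : Γ(tgtSh[p, F], g ⁻¹ᵁ V)}
    (h : ∀ y ∈ V, ∃ (W : S.Opens) (hW : W ≤ V), y ∈ W ∧ ∃ x : HCo F (f ⁻¹ᵁ W) p,
      eps E W F p x = ((Coh.Rpush f p).obj F).presheaf.map (homOfLE hW).op t ∧
        bcVal w E' p F W x = (tgtSh[p, F]).presheaf.map (homOfLE (pre_le g hW)).op u) :
    val w E E' p F V t = u := by
  choose W hW hyW x hx hu using fun i : {y // y ∈ V} => h i.1 i.2
  refine mod_eq_of_locally (tgtSh[p, F]) (fun i => g ⁻¹ᵁ W i) (fun i => pre_le g (hW i))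
    (fun y hy => Opens.mem_iSup.mpr ⟨⟨g y, hy⟩, hyW ⟨g y, hy⟩⟩) _ _ fun i => ?_
  exact (isVal_val w E E' p F V t (W i) (hW i) (x i) (hx i)).symm.trans (hu i)

theorem val_eps (V : S.Opens) (x : HCo F (f ⁻¹ᵁ V) p) :
    val w E E' p F V (eps E V F p x) = bcVal w E' p F V x := by
  refine val_ext w E E' p F fun y hy => ⟨V, le_rfl, hy, x, ?_, ?_⟩
  · exact congr($(((Coh.Rpush f p).obj F).presheaf.map_id (op V)) _).symm
  · exact congr($((tgtSh[p, F]).presheaf.map_id (op (g ⁻¹ᵁ V))) _).symm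

theorem val_map {V V' : S.Opens} (h : V' ≤ V) (t : Γ((Coh.Rpush f p).obj F, V)) :
    val w E E' p F V' (((Coh.Rpush f p).obj F).presheaf.map (homOfLE h).op t) =
      (tgtSh[p, F]).presheaf.map (homOfLE (pre_le g h)).op (val w E E' p F V t) := by
  refine val_ext w E E' p F fun y hy => ?_
  obtain ⟨W, hW, hyW, x, hx⟩ := eps_locally_surjective E p F V'
    (((Coh.Rpush f p).obj F).presheaf.map (homOfLE h).op t) hy
  refine ⟨W, hW, hyW, x, hx, ?_⟩
  rw [QCohLib.map_map'] at hx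
  refine (isVal_val w E E' p F V t W (hW.trans h) x (hx.trans rfl)).trans ?_
  exact (QCohLib.map_map' _ _ _ _).symm

theorem val_add (V : S.Opens) (s t : Γ((Coh.Rpush f p).obj F, V)) :
    val w E E' p F V (s + t) = val w E E' p F V s + val w E E' p F V t := by
  refine val_ext w E E' p F fun y hy => ?_
  obtain ⟨W, hW, hyW, x, hx⟩ := eps_locally_surjective E p F V s hy
  obtain ⟨W', hW', hyW', x', hx'⟩ := eps_locally_surjective E p F W
    (((Coh.Rpush f p).obj F).presheaf.map (homOfLE hW).op t) hyW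
  have e1 : eps E W' F p (hres F (f.preimage_mono hW') p x) =
      ((Coh.Rpush f p).obj F).presheaf.map (homOfLE (hW'.trans hW)).op s := by
    rw [eps_hres E hW', hx, QCohLib.map_map']
    rfl
  have e2 : eps E W' F p x' = ((Coh.Rpush f p).obj F).presheaf.map (homOfLE (hW'.trans hW)).op t := by
    rw [hx', QCohLib.map_map']
    rfl
  refine ⟨W', hW'.trans hW, hyW', hres F (f.preimage_mono hW') p x + x', ?_, ?_⟩
  · rw [map_add, e1, e2, map_add]
  · rw [map_add, isVal_val w E E' p F V s W' _ _ e1, isVal_val w E E' p F V t W' _ _ e2, map_add]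

theorem resLE_appTop_topIso {A B : Scheme.{u}} (k : A ⟶ B) {U : B.Opens} {U' : A.Opens} (h : U' ≤ k ⁻¹ᵁ U)
    (a : Γ(B, U)) : (k.resLE U U' h).appTop (U.topIso.inv a) = U'.topIso.inv (k.appLE U U' h a) := by
  change ((k.resLE U U' h).app ⊤) _ = _
  rw [Scheme.Hom.app_eq_appLE, Scheme.Hom.resLE_appLE, Scheme.Opens.topIso_inv, Scheme.Opens.topIso_inv]
  exact congr($((Scheme.Hom.map_appLE k _ _).trans (Scheme.Hom.appLE_map k _ _).symm) a)

include w in
theorem appTop_sq (V : S.Opens) (r : Γ(S, V)) :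
    (g'.resLE (f ⁻¹ᵁ V) (f' ⁻¹ᵁ (g ⁻¹ᵁ V)) (CohCmp.sqLE f g f' g' w V)).appTop
        ((f ⁻¹ᵁ V).topIso.inv (f.app V r)) =
      (f' ⁻¹ᵁ (g ⁻¹ᵁ V)).topIso.inv (f'.app (g ⁻¹ᵁ V) (g.app V r)) := by
  rw [resLE_appTop_topIso]
  refine congrArg (f' ⁻¹ᵁ (g ⁻¹ᵁ V)).topIso.inv ?_
  have h1 : ∀ (u : X' ⟶ S) (v : X' ⟶ S) (e : u = v) (A : X'.Opens) (hu : A ≤ u ⁻¹ᵁ V) (hv : A ≤ v ⁻¹ᵁ V),
      u.appLE V A hu r = v.appLE V A hv r := by rintro u v rfl A hu hv; rfl
  have := h1 _ _ w (f' ⁻¹ᵁ (g ⁻¹ᵁ V)) (CohCmp.sqLE f g f' g' w V) le_rfl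
  rw [Scheme.Hom.comp_appLE g' f, Scheme.Hom.comp_appLE f' g, Scheme.Hom.appLE_eq_app] at this
  simpa only [ConcreteCategory.comp_apply, Scheme.Hom.comp_app] using this

theorem val_smul (V : S.Opens) (r : Γ(S, V)) (t : Γ((Coh.Rpush f p).obj F, V)) :
    val w E E' p F V (r • t) = g.app V r • val w E E' p F V t := by
  refine val_ext w E E' p F fun y hy => ?_
  obtain ⟨W, hW, hyW, x, hx⟩ := eps_locally_surjective E p F V t hy
  let r' : Γ(S, W) := S.presheaf.map (homOfLE hW).op r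
  refine ⟨W, hW, hyW, hs (show Coh.Γtop (f ⁻¹ᵁ W : Scheme.{u}) from
    (f ⁻¹ᵁ W).topIso.inv (f.app W r')) _ p x, ?_, ?_⟩
  · rw [eps_hs, hx]
    exact (Scheme.Modules.map_smul _ _ r t).symm
  · rw [bcVal_apply, hpo_hs, appTop_sq w W r', eps_hs, ← bcVal_apply w E' p F W x,
      isVal_val w E E' p F V t W hW x hx, Scheme.Modules.map_smul]
    congr 1
    exact congr($(g.naturality (homOfLE hW).op) r)

/-- The base change map in adjoint form. -/
noncomputable def bcAdj :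
    (Coh.Rpush f p).obj F ⟶ (Scheme.Modules.pushforward g).obj (tgtSh[p, F]) :=
  ⟨PresheafOfModules.homMk (M₁ := ((Coh.Rpush f p).obj F).val)
    (M₂ := ((Scheme.Modules.pushforward g).obj (tgtSh[p, F])).val)
    { app := fun V => AddCommGrpCat.ofHom
        (AddMonoidHom.mk' (val w E E' p F V.unop) (val_add w E E' p F V.unop))
      naturality := fun V V' i => by
        ext t
        exact val_map w E E' p F i.unop.le t }
    fun V r t => val_smul w E E' p F V.unop r t⟩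

theorem bcAdj_app (V : S.Opens) (t : Γ((Coh.Rpush f p).obj F, V)) :
    (bcAdj w E E' p F).app V t = val w E E' p F V t := rfl

theorem val_natural {F G : X.Modules} (ψ : F ⟶ G) (V : S.Opens) (t : Γ((Coh.Rpush f p).obj F, V)) :
    val w E E' p G V (((Coh.Rpush f p).map ψ).app V t) =
      ((Coh.Rpush f' p).map ((Scheme.Modules.pullback g').map ψ)).app (g ⁻¹ᵁ V) (val w E E' p F V t) := by
  refine val_ext w E E' p G fun y hy => ?_
  obtain ⟨W, hW, hyW, x, hx⟩ := eps_locally_surjective E p F V t hy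
  refine ⟨W, hW, hyW, hm ((Scheme.Modules.restrictFunctor (f ⁻¹ᵁ W).ι).map ψ) p x, ?_, ?_⟩
  · rw [eps_natural, hx]
    exact QCohLib.app_map _ _ _
  · rw [bcVal_apply, ← hpo_natural, eps_natural, ← bcVal_apply w E' p F W x,
      isVal_val w E E' p F V t W hW x hx]
    exact QCohLib.app_map _ _ _

/-- Base change maps exist. -/
noncomputable def genBC : CohCmp.GenBC f g f' g' w E E' where
  φ p F := bcAdj w E E' p F
  natural p {F G} ψ := by
    refine Scheme.Modules.hom_ext _ _ fun V => ?_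
    refine ConcreteCategory.hom_ext _ _ fun t => ?_
    exact val_natural w E E' p ψ V t
  compat V F p x := (val_eps w E E' p F V x).trans (bcVal_apply w E' p F V x)

end CohCmpLib
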