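import Groth.Agent.CohCmpLib.LiftSection

/-!
Line bundles trivial on a fibre and on a neighbourhood of it.
-/

set_option autoImplicit false
set_option maxRecDepth 8000

noncomputable section

universe u

open CategoryTheory CategoryTheory.Limits AlgebraicGeometry TopologicalSpace Opposite
open KFlatLib (puSec puSecLE pb)

namespace CohCmpLib

variable {X S : Scheme.{u}}

/-- Where a section generates is open. -/
theorem isOpen_genAt_on {M : X.Modules} (hM : PicF.IsInvertible M) {W : X.Opens} (m : Γ(M, W)) :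
    IsOpen {x : X | ∃ hx : x ∈ W, AmpleLib.GenAt M m hx} := by
  rw [isOpen_iff_forall_mem_open]
  rintro x ⟨hxW, hx⟩
  obtain ⟨U', e, hxU', he⟩ := TwistLib.exists_genOn hM x
  let V := W ⊓ U'
  obtain ⟨r, hr⟩ := (he V inf_le_right).2 (AmpleLib.res M (inf_le_left : V ≤ W) m)
  have key : ∀ (z : X) (hz : z ∈ V), AmpleLib.GenAt M m (hz.1 : z ∈ W) ↔ z ∈ X.basicOpen r := fun z hz => by
    rw [← AmpleLib.genAt_res (inf_le_left : V ≤ W) m hz, ← hr]
    exact AmpleLib.genAt_smul_iff r _ hz ((he.res (inf_le_right : V ≤ U')).genAt hz)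
  exact ⟨X.basicOpen r, fun z hz => ⟨(X.basicOpen_le r hz).1, (key z (X.basicOpen_le r hz)).2 hz⟩,
    (X.basicOpen r).2, (key x ⟨hxW, hxU'⟩).1 hx⟩

/-- A line bundle trivial on a fibre with liftable sections is trivial near it. -/
theorem exists_trivial_near (f : X ⟶ S) [IsProper f] {L : X.Modules} (hL : PicF.IsInvertible L) (y : S)
    (ht : Nonempty (CohIII.fiberMod f L y ≅ Coh.structureModule (f.fiber y)))
    (he : Epi (CohBC.bc0 f (S.fromSpecResidueField y) (f.fiberToSpecResidueField y) (f.fiberι y) (f.fiber_fac y) L)) :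
    ∃ U : S.Opens, y ∈ U ∧ Nonempty (L.restrict (f ⁻¹ᵁ U).ι ≅ Coh.structureModule (f ⁻¹ᵁ U).toScheme) := by
  obtain ⟨t⟩ := ht
  have : Coh.IsQCoh L := TwistLib.isQCoh_of_isInvertible hL
  let σ : Γ(CohIII.fiberMod f L y, ⊤) :=
    t.inv.app ⊤ (show Γ(Coh.structureModule (f.fiber y), ⊤) from (1 : Γ(f.fiber y, ⊤)))
  have hσ : AmpleLib.GenOn (CohIII.fiberMod f L y) σ := fun V hV => by
    have h1 : ∀ r : Γ(f.fiber y, V), r • AmpleLib.res (CohIII.fiberMod f L y) hV σ =
        t.inv.app V (show Γ(Coh.structureModule (f.fiber y), V) from r) := fun r => by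
      refine Eq.trans ?_ (congrArg (t.inv.app V) (show (r • AmpleLib.res (Coh.structureModule (f.fiber y)) hV
        (show Γ(Coh.structureModule (f.fiber y), ⊤) from (1 : Γ(f.fiber y, ⊤)))) = r from
          ((congrArg (r * ·) (map_one ((f.fiber y).presheaf.map (homOfLE hV).op).hom)).trans (mul_one r))))
      rw [QCohLib.app_smul]
      exact congrArg (r • ·) (QCohLib.app_map t.inv (homOfLE hV) _).symm
    simp only [h1]
    exact ConcreteCategory.bijective_of_isIso (t.inv.app V)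
  obtain ⟨O, hyO, h, m, hm⟩ := exists_lift_section f y he σ
  let G : Set X := {x : X | ∃ hx : x ∈ f ⁻¹ᵁ O, AmpleLib.GenAt L m hx}
  have hG : IsOpen G := isOpen_genAt_on hL m
  have hfib : ∀ x : X, f x = y → x ∈ G := fun x hx => by
    obtain ⟨z, rfl⟩ : x ∈ Set.range (f.fiberι y) := by rw [f.range_fiberι]; exact hx
    refine ⟨h (show z ∈ (⊤ : (f.fiber y).Opens) from trivial), genAt_of_puSec (f.fiberι y) hL m _ ?_⟩
    have h2 := hσ.genAt (show z ∈ (⊤ : (f.fiber y).Opens) from trivial)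
    rw [← hm, KFlatLib.puSecLE_apply] at h2
    exact (AmpleLib.genAt_res h (puSec (f.fiberι y) m) trivial).1 h2
  let C : Set S := f '' Gᶜ
  have hC : IsClosed C := f.isClosedMap _ hG.isClosed_compl
  let U : S.Opens := O ⊓ ⟨Cᶜ, hC.isOpen_compl⟩
  refine ⟨U, ⟨hyO, fun ⟨x, hx, hxy⟩ => hx (hfib x hxy)⟩, ?_⟩
  have hsub : f ⁻¹ᵁ U ≤ f ⁻¹ᵁ O := f.preimage_mono inf_le_left
  refine TwistLib.nonempty_iso_of_genOn (AmpleLib.res L hsub m) (TwistLib.genOn_of_genAt fun x hx => ?_)
  refine (AmpleLib.genAt_res hsub m hx).2 ?_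
  by_contra hne
  exact (show f x ∈ Cᶜ from hx.2) ⟨x, fun ⟨_, hg⟩ => hne hg, rfl⟩

/-- A twist trivial near a fibre gives an isomorphism there. -/
theorem nonempty_restrict_iso_of_twist {L M M' : X.Modules} (e : CohB1.tensorMod M M' ≅ Coh.structureModule X)
    (W : X.Opens) (t : Nonempty ((CohB1.tensorMod L M').restrict W.ι ≅ Coh.structureModule W.toScheme)) :
    Nonempty (L.restrict W.ι ≅ M.restrict W.ι) := by
  obtain ⟨s⟩ := SerreVanLib.nonempty_restrict_tensor_iso M t.some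
  exact ⟨(Scheme.Modules.restrictFunctor W.ι).mapIso ((HilbPolyLib.unitLeft L).symm ≪≫
    HilbPolyLib.congrLeft e.symm L ≪≫ HilbPolyLib.assocIso M M' L ≪≫
      HilbPolyLib.congrRight M (HilbPolyLib.swapIso M' L)) ≪≫ s⟩

end CohCmpLib
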