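import Groth.Agent.CohCmpLib.FibreRowsBC

/-!
Models over a noetherian ring, and models of a base change.
-/

set_option autoImplicit false
set_option maxRecDepth 8000

universe u

open CategoryTheory CategoryTheory.Limits AlgebraicGeometry TopologicalSpace Opposite
open RpushLib (overW)

namespace CohCmpLib

variable {X S : Scheme.{u}} {f : X ⟶ S} {F : X.Modules}

/-- Models exist over affine opens, with noetherian base ring. -/
theorem exists_chart_noeth [IsProper f] [LocallyOfFinitePresentation f] [Coh.IsQCoh F] (hfp : CohB1.IsFP F)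
    (hfl : FlatMod.IsFlatOver f F) {W : S.Opens} (hW : IsAffineOpen W) :
    ∃ K : Chart f F W, IsNoetherianRing K.A₀ := by
  have : LocallyOfFinitePresentation (overW f hW) :=
    MorphismProperty.of_isPullback (CohBCLib.isPullback_overW f hW) ‹_›
  have hfp' : CohB1.IsFP (F.restrict (f ⁻¹ᵁ W).ι) :=
    (SheafOfModules.isFinitePresentation (R := (f ⁻¹ᵁ W : Scheme.{u}).ringCatSheaf)).prop_of_iso
      ((Scheme.Modules.restrictFunctorIsoPullback (f ⁻¹ᵁ W).ι).app F).symm
      (RichLib.ModFlat.isFP_pullback (f ⁻¹ᵁ W).ι hfp)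
  obtain ⟨A₀, hA₀, X₀, f₀, hf₀, F₀, hF₀, q, sq, e, hflat⟩ :=
    exists_proper_descent (overW f hW) (F.restrict (f ⁻¹ᵁ W).ι) hfp' (CohBCLib.flat_FW f F hW hfl)
  have : IsNoetherianRing A₀ := by
    have : Algebra.FiniteType ℤ A₀ := (Subalgebra.fg_iff_finiteType A₀).1 hA₀
    exact Algebra.FiniteType.isNoetherianRing ℤ A₀
  obtain ⟨c, hu, hc, ⟨M⟩⟩ := exists_model f₀ F₀ hF₀ hflat
  subst hc
  refine ⟨{ A₀ := A₀, X₀ := X₀, f₀ := f₀, c := c, univ := hu, mdl := M, φ := A₀.val.toRingHom,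
            pb := fun V hV hle => ?_ }, ‹IsNoetherianRing A₀›⟩
  let j := X.homOfLE (f.preimage_mono hle)
  have hj : j ≫ (f ⁻¹ᵁ W).ι = (f ⁻¹ᵁ V).ι := X.homOfLE_ι _
  let ρ := Spec.map (S.presheaf.map (homOfLE hle).op)
  have hρ : ρ ≫ hW.fromSpec = hV.fromSpec := hW.map_fromSpec hV _
  have tV := CohBCLib.isPullback_overW f hV
  have tW := CohBCLib.isPullback_overW f hW
  have hw : j ≫ overW f hW = overW f hV ≫ ρ := by
    rw [← cancel_mono hW.fromSpec]
    refine (Category.assoc _ _ _).trans ((congrArg (j ≫ ·) tW.w.symm).trans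
      ((Category.assoc _ _ _).symm.trans ((congrArg (· ≫ f) hj).trans (tV.w.trans ?_))))
    rw [Category.assoc, hρ]
  have hjs : IsPullback j (overW f hV) (overW f hW) ρ :=
    IsPullback.of_right (by rw [hj, hρ]; exact tV) hw tW
  refine ⟨j ≫ q, ?_, ⟨?_⟩⟩
  · have h2 : ρ ≫ Spec.map (CommRingCat.ofHom A₀.val.toRingHom) =
        Spec.map (CommRingCat.ofHom ((S.presheaf.map (homOfLE hle).op).hom.comp A₀.val.toRingHom)) := by
      rw [← Spec.map_comp]
      rfl
    exact h2 ▸ hjs.paste_horiz sq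
  · exact ((Scheme.Modules.pullbackComp j q).app _).symm ≪≫ (Scheme.Modules.pullback j).mapIso
      (e ≪≫ (Scheme.Modules.restrictFunctorIsoPullback (f ⁻¹ᵁ W).ι).app F) ≪≫
      (Scheme.Modules.pullbackComp j (f ⁻¹ᵁ W).ι).app F ≪≫ (Scheme.Modules.pullbackCongr hj).app F ≪≫
      ((Scheme.Modules.restrictFunctorIsoPullback (f ⁻¹ᵁ V).ι).app F).symm

variable {W : S.Opens} (K : Chart f F W) (hW : IsAffineOpen W)

/-- The algebra structure on sections over an open mapping into the base of the model. -/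
@[reducible] noncomputable def Chart.algMap {T : Scheme.{u}} (u : T ⟶ S) {U : T.Opens} (hle : U ≤ u ⁻¹ᵁ W) :
    Algebra K.A₀ Γ(T, U) :=
  ((u.appLE W U hle).hom.comp ((S.presheaf.map (homOfLE (le_refl W)).op).hom.comp K.φ)).toAlgebra

/-- The model of a base change. -/
noncomputable def Chart.bcChart {X' T : Scheme.{u}} {u : T ⟶ S} {f' : X' ⟶ T} {g' : X' ⟶ X}
    (H : IsPullback g' f' f u) {U : T.Opens} (hle : U ≤ u ⁻¹ᵁ W) :
    Chart f' ((Scheme.Modules.pullback g').obj F) U where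
  A₀ := K.A₀
  X₀ := K.X₀
  f₀ := K.f₀
  c := K.c
  univ := K.univ
  mdl := K.mdl
  φ := (u.appLE W U hle).hom.comp ((S.presheaf.map (homOfLE (le_refl W)).op).hom.comp K.φ)
  pb := fun V hV hVU => by
    obtain ⟨h, sq, ⟨e⟩⟩ := K.pb W hW le_rfl
    have hle' : V ≤ u ⁻¹ᵁ W := hVU.trans hle
    have hp := isPullback_piece H hW hV hle'
    have hb : Spec.map (CommRingCat.ofHom (u.appLE W V hle').hom) ≫
        Spec.map (CommRingCat.ofHom ((S.presheaf.map (homOfLE (le_refl W)).op).hom.comp K.φ)) =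
        Spec.map (CommRingCat.ofHom ((T.presheaf.map (homOfLE hVU).op).hom.comp
          ((u.appLE W U hle).hom.comp ((S.presheaf.map (homOfLE (le_refl W)).op).hom.comp K.φ)))) := by
      rw [← Spec.map_comp, ← u.appLE_map hle (homOfLE hVU).op]
      rfl
    exact ⟨kPiece H.w W hle' ≫ h, hb ▸ hp.paste_horiz sq,
      ⟨((Scheme.Modules.pullbackComp _ _).app _).symm ≪≫
        (Scheme.Modules.pullback (kPiece H.w W hle')).mapIso e ≪≫ psiPiece H.w W hle' F⟩⟩

theorem Chart.bcChart_alg {X' T : Scheme.{u}} {u : T ⟶ S} {f' : X' ⟶ T} {g' : X' ⟶ X}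
    (H : IsPullback g' f' f u) {U : T.Opens} (hle : U ≤ u ⁻¹ᵁ W) {V : T.Opens} (hVU : V ≤ U) :
    (K.bcChart hW H hle).alg hVU = K.algMap u (hVU.trans hle) := by
  refine Algebra.algebra_ext _ _ fun x => ?_
  change T.presheaf.map (homOfLE hVU).op ((u.appLE W U hle).hom _) = _
  rw [← CommRingCat.comp_apply, u.appLE_map]
  rfl

end CohCmpLib
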