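import Groth.Prelude.Def_CohPull
import Groth.Agent.CohBCLib.HCmp
import Groth.Agent.KFlatLib.QCohPull
import Groth.Agent.QCohLib.Push
import Mathlib.CategoryTheory.Preadditive.AdditiveFunctor
import Mathlib.CategoryTheory.Adjunction.Additive
import Mathlib.CategoryTheory.Limits.Preserves.Shapes.Kernels

/-! A locally split embedding into a sum of pushforwards from the members of a cover. -/

set_option autoImplicit false
set_option maxHeartbeats 1000000

universe u

open CategoryTheory CategoryTheory.Limits AlgebraicGeometry TopologicalSpace Opposite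

namespace CohCmpLib

variable {X Y : Scheme.{u}}

instance hasFiniteBiproducts_modules : HasFiniteBiproducts X.Modules :=
  HasFiniteBiproducts.of_hasFiniteProducts

instance additive_pullback (g : X ⟶ Y) : (Scheme.Modules.pullback g).Additive :=
  (Scheme.Modules.pullbackPushforwardAdjunction g).left_adjoint_additive

/-- A map of modules is mono when its restrictions to a cover are. -/
theorem mono_of_restrict {M N : X.Modules} (φ : M ⟶ N) {ι : Type} (U : ι → X.Opens)
    (hU : (⨆ i, U i) = ⊤) (h : ∀ i, Mono ((Scheme.Modules.restrictFunctor (U i).ι).map φ)) : Mono φ := by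
  refine Preadditive.mono_of_kernel_zero ?_
  have hcond : ∀ (W : X.Opens) (t : Γ(kernel φ, W)), t = 0 := fun W t => by
    refine TopCat.Sheaf.eq_of_locally_eq' ((QCohLib.toAbF X).obj (kernel φ) : TopCat.Sheaf AddCommGrpCat _)
      (fun i => W ⊓ U i) W (fun i => homOfLE inf_le_left) ?_ t 0 fun i => ?_
    · rw [← inf_iSup_eq, hU, inf_top_eq]
    · have := h i
      have hz : (Scheme.Modules.restrictFunctor (U i).ι).map (kernel.ι φ) = 0 := by
        rw [← cancel_mono ((Scheme.Modules.restrictFunctor (U i).ι).map φ), ← Functor.map_comp,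
          kernel.condition, Functor.map_zero, zero_comp]
      have e : (U i).ι ''ᵁ ((U i).ι ⁻¹ᵁ (W ⊓ U i)) = W ⊓ U i := by
        rw [Scheme.Hom.image_preimage_eq_opensRange_inf, Scheme.Opens.opensRange_ι, ← inf_assoc,
          inf_comm (U i) W, inf_assoc, inf_idem]
      have hinj : Function.Injective ((kernel.ι φ).app (W ⊓ U i)) :=
        QCohLib.app_injective_of_mono (kernel.ι φ) _
      refine hinj ?_
      have h0 : (kernel.ι φ).app ((U i).ι ''ᵁ ((U i).ι ⁻¹ᵁ (W ⊓ U i))) = 0 :=
        congr(Scheme.Modules.Hom.app $hz ((U i).ι ⁻¹ᵁ (W ⊓ U i)))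
      rw [e] at h0
      rw [h0]
      rfl
  refine Scheme.Modules.hom_ext _ _ fun W => ConcreteCategory.hom_ext _ _ fun t => ?_
  rw [hcond W t, map_zero, map_zero]

section Cover

variable {ι : Type} [Finite ι] (U : ι → X.Opens)

/-- One summand. -/
noncomputable abbrev pc (k : ι) (M : X.Modules) : X.Modules :=
  (Scheme.Modules.pushforward (U k).ι).obj ((Scheme.Modules.restrictFunctor (U k).ι).obj M)

/-- The sum of the pushforwards. -/
noncomputable abbrev C0 (M : X.Modules) : X.Modules := ⨁ fun k => pc U k M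

/-- The embedding. -/
noncomputable def toC0 (M : X.Modules) : M ⟶ C0 U M :=
  biproduct.lift fun k => (Scheme.Modules.restrictAdjunction (U k).ι).unit.app M

/-- The retraction over a member of the cover. -/
noncomputable def retr (M : X.Modules) (k : ι) :
    (Scheme.Modules.restrictFunctor (U k).ι).obj (C0 U M) ⟶ (Scheme.Modules.restrictFunctor (U k).ι).obj M :=
  (Scheme.Modules.restrictFunctor (U k).ι).map (biproduct.π (fun k => pc U k M) k) ≫
    (Scheme.Modules.restrictAdjunction (U k).ι).counit.app _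

theorem toC0_retr (M : X.Modules) (k : ι) :
    (Scheme.Modules.restrictFunctor (U k).ι).map (toC0 U M) ≫ retr U M k = 𝟙 _ := by
  rw [retr, ← Category.assoc, ← Functor.map_comp, toC0, biproduct.lift_π]
  exact (Scheme.Modules.restrictAdjunction (U k).ι).left_triangle_components M

/-- The embedding with its cokernel. -/
noncomputable abbrev cseq (M : X.Modules) : ShortComplex X.Modules :=
  ShortComplex.mk (toC0 U M) (cokernel.π (toC0 U M)) (cokernel.condition _)

/-- A sequence split on the cover. -/
def LocSplit {ι : Type} (U : ι → X.Opens) (S : ShortComplex X.Modules) : Prop :=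
  ∀ k, IsSplitMono ((Scheme.Modules.restrictFunctor (U k).ι).map S.f)

theorem locSplit_cseq (M : X.Modules) : LocSplit U (cseq U M) := fun k =>
  IsSplitMono.mk' ⟨retr U M k, toC0_retr U M k⟩

theorem mono_toC0 (hU : (⨆ i, U i) = ⊤) (M : X.Modules) : Mono (toC0 U M) :=
  mono_of_restrict _ U hU fun k => (locSplit_cseq U M k).mono _

theorem cseq_shortExact (hU : (⨆ i, U i) = ⊤) (M : X.Modules) : (cseq U M).ShortExact where
  exact := ShortComplex.exact_of_g_is_cokernel _ (cokernelIsCokernel _)
  mono_f := mono_toC0 U hU M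
  epi_g := inferInstanceAs (Epi (cokernel.π _))

omit [Finite ι] in
/-- A locally split cokernel sequence stays short exact after pullback. -/
theorem pullback_shortExact (g : Y ⟶ X) (hU : (⨆ i, U i) = ⊤) {S : ShortComplex X.Modules}
    (hS : S.ShortExact) (hloc : LocSplit U S) : (S.map (Scheme.Modules.pullback g)).ShortExact := by
  have : PreservesColimitsOfSize.{0, 0} (Scheme.Modules.pullback g) :=
    (Scheme.Modules.pullbackPushforwardAdjunction g).leftAdjoint_preservesColimits
  refine { exact := ?_, mono_f := ?_, epi_g := ?_ }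
  · exact ShortComplex.exact_of_g_is_cokernel _
      (CokernelCofork.mapIsColimit (CokernelCofork.ofπ S.g S.zero) hS.gIsCokernel _)
  · refine mono_of_restrict _ (fun i => g ⁻¹ᵁ U i) (by rw [← g.preimage_iSup, hU]; rfl) fun k => ?_
    let e : Scheme.Modules.restrictFunctor (U k).ι ⋙
        Scheme.Modules.pullback (g.resLE (U k) (g ⁻¹ᵁ U k) le_rfl) ≅
        Scheme.Modules.pullback g ⋙ Scheme.Modules.restrictFunctor (g ⁻¹ᵁ U k).ι :=
      Functor.isoWhiskerRight (Scheme.Modules.restrictFunctorIsoPullback (U k).ι) _ ≪≫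
        Scheme.Modules.pullbackComp _ _ ≪≫
        Scheme.Modules.pullbackCongr (Scheme.Hom.resLE_comp_ι g le_rfl) ≪≫
        (Scheme.Modules.pullbackComp (g ⁻¹ᵁ U k).ι g).symm ≪≫
        Functor.isoWhiskerLeft _ (Scheme.Modules.restrictFunctorIsoPullback (g ⁻¹ᵁ U k).ι).symm
    have := hloc k
    have hm : Mono ((Scheme.Modules.pullback (g.resLE (U k) (g ⁻¹ᵁ U k) le_rfl)).map
        ((Scheme.Modules.restrictFunctor (U k).ι).map S.f)) := inferInstance
    exact ((MorphismProperty.monomorphisms _).arrow_mk_iso_iff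
      (Arrow.isoMk (e.app S.X₁) (e.app S.X₂) (e.hom.naturality S.f).symm)).1 hm
  · have := hS.epi_g
    exact (Scheme.Modules.pullback g).map_epi S.g

omit [Finite ι] in
theorem isQCoh_pc [QuasiSeparatedSpace X] (hU : ∀ k, IsAffineOpen (U k)) (k : ι) (M : X.Modules)
    [Coh.IsQCoh M] : Coh.IsQCoh (pc U k M) := by
  have : IsAffine (U k : Scheme.{u}) := hU k
  have : QuasiCompact (U k).ι := inferInstance
  have : Coh.IsQCoh ((Scheme.Modules.restrictFunctor (U k).ι).obj M) :=
    inferInstanceAs (Coh.IsQCoh (M.restrict (U k).ι))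
  exact QCohLib.isQCoh_pushforward _ _

theorem isQCoh_C0 [QuasiSeparatedSpace X] (hU : ∀ k, IsAffineOpen (U k)) (M : X.Modules) [Coh.IsQCoh M] :
    Coh.IsQCoh (C0 U M) :=
  QCohLib.isQCoh_of_isColimit (fun _ => inferInstance) (fun k => isQCoh_pc U hU k.as M)
    (biproduct.isColimit fun k => pc U k M)

theorem isQCoh_cseq [QuasiSeparatedSpace X] (hU : ∀ k, IsAffineOpen (U k)) (M : X.Modules) [Coh.IsQCoh M] :
    Coh.IsQCoh (cseq U M).X₃ :=
  haveI := isQCoh_C0 U hU M
  QCohLib.isQCoh_cokernel (toC0 U M)

end Cover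

end CohCmpLib
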