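import Groth.Agent.CohCmpLib.StratLoc

/-!
The stratum condition, locally on the test scheme.
-/

set_option autoImplicit false
set_option maxRecDepth 8000

noncomputable section

universe u

open CategoryTheory CategoryTheory.Limits AlgebraicGeometry TopologicalSpace Opposite
open scoped TensorProduct
open RankLocusLib (FreeAlong LocFreeAlong)
open FlatCxLib (fibreRank)

namespace CohCmpLib

variable {X S : Scheme.{u}} (f : X ⟶ S) (F : X.Modules) (r : ℕ)

/-- Direct image locally free of rank `r`, of formation commuting with base change, for a base change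
`(fT, gT)` of `(f, F)`. -/
def StratSq {XT T : Scheme.{u}} (fT : XT ⟶ T) (gT : XT ⟶ X) : Prop :=
  FlatMod.IsFinLocFreeOfRank r ((Scheme.Modules.pushforward fT).obj
      ((Scheme.Modules.pullback gT).obj F)) ∧
    ∀ ⦃X'' T' : Scheme.{u}⦄ (v' : X'' ⟶ XT) (f'' : X'' ⟶ T') (u' : T' ⟶ T) (h : IsPullback v' f'' fT u'),
      IsIso (CohBC.bc0 fT u' f'' v' h.w ((Scheme.Modules.pullback gT).obj F))

/-- The condition for the chosen base change. -/
def Strat {T : Scheme.{u}} (u : T ⟶ S) : Prop :=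
  StratSq F r (Limits.pullback.snd f u) (Limits.pullback.fst f u)

/-- The condition, locally through models. -/
def StratLocal {T : Scheme.{u}} (u : T ⟶ S) : Prop :=
  ∀ t : T, ∃ (W : S.Opens) (_ : IsAffineOpen W) (K : Chart f F W) (U : T.Opens) (hle : U ≤ u ⁻¹ᵁ W),
    t ∈ U ∧ K.Free r u hle

variable {f F r}

theorem rank_unique {T : Scheme.{u}} (G : T.Modules) {O O' : T.Opens} {n m : ℕ} {x : T} (hx : x ∈ O)
    (hx' : x ∈ O') (e : Nonempty (G.restrict O.ι ≅ FlatMod.freeMod (↑O) n))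
    (e' : Nonempty (G.restrict O'.ι ≅ FlatMod.freeMod (↑O') m)) : n = m := by
  obtain ⟨U, hU, hxU, hle⟩ := exists_isAffineOpen_mem_and_subset (X := T) (x := x) (U := O ⊓ O') ⟨hx, hx'⟩
  have h1 : FreeAlong n G U.ι := by
    have := RankLocusLib.freeAlong_comp ((RankLocusLib.freeAlong_restrict_iff G O).2 e)
      (T.homOfLE ((show U ≤ O ⊓ O' from hle).trans inf_le_left))
    rwa [Scheme.homOfLE_ι] at this
  have h2 : FreeAlong m G U.ι := by
    have := RankLocusLib.freeAlong_comp ((RankLocusLib.freeAlong_restrict_iff G O').2 e')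
      (T.homOfLE ((show U ≤ O ⊓ O' from hle).trans inf_le_right))
    rwa [Scheme.homOfLE_ι] at this
  obtain ⟨b⟩ := RankLocusLib.nonempty_basis_of_freeAlong G h1
  obtain ⟨b'⟩ := RankLocusLib.nonempty_basis_of_freeAlong G h2
  rw [← fibreRank_of_basis b (hU.primeIdealOf ⟨x, hxU⟩), fibreRank_of_basis b']

variable [IsProper f] [LocallyOfFinitePresentation f] [Coh.IsQCoh F]
  (hfp : CohB1.IsFP F) (hfl : FlatMod.IsFlatOver f F)

/-- Necessity: every model around a point gives the condition near that point. -/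
theorem exists_free_of_stratSq {XT T : Scheme.{u}} {u : T ⟶ S} {fT : XT ⟶ T} {gT : XT ⟶ X}
    (H : IsPullback gT fT f u) (h : StratSq F r fT gT) {W : S.Opens}
    (hW : IsAffineOpen W) (K : Chart f F W) {t : T} (ht : u t ∈ W) :
    ∃ (U : T.Opens) (hle : U ≤ u ⁻¹ᵁ W), t ∈ U ∧ K.Free r u hle := by
  let FT := (Scheme.Modules.pullback gT).obj F
  have : Coh.IsQCoh FT := KFlatLib.isQCoh_pullback _ F
  have : IsProper fT := MorphismProperty.of_isPullback H ‹_›
  have : LocallyOfFinitePresentation fT := MorphismProperty.of_isPullback H ‹_›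
  obtain ⟨U₀, hU₀, htU₀, hle₀⟩ := exists_isAffineOpen_mem_and_subset (X := T) (x := t) (U := u ⁻¹ᵁ W) ht
  let K' := K.bcChart hW H (U := U₀) hle₀
  have : HasInjectiveResolutions XT.Modules := inferInstance
  obtain ⟨q, rfl⟩ := exists_fromSpec hU₀ htU₀
  have : HasInjectiveResolutions (fT.fiber (hU₀.fromSpec q)).Modules := inferInstance
  obtain ⟨Δ, ⟨E⟩⟩ := exists_sectCmp fT
  obtain ⟨Δs, ⟨Es⟩⟩ := exists_sectCmp (fT.fiberToSpecResidueField (hU₀.fromSpec q))
  have hb : Epi ((genBC (fT.fiber_fac (hU₀.fromSpec q)) E Es).bc 0 FT) := by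
    refine epi_bc_of_bc0 _ FT ?_
    have := h.2 (fT.fiberι (hU₀.fromSpec q)) (fT.fiberToSpecResidueField (hU₀.fromSpec q))
      (T.fromSpecResidueField (hU₀.fromSpec q)) (IsPullback.of_hasPullback fT _)
    infer_instance
  obtain ⟨V, hVU, -, hV, htV, hfl1⟩ := K'.exists_fl_of_epi E hU₀ le_rfl 0 q Es (genBC _ E Es) hb
  have hVW : V ≤ u ⁻¹ᵁ W := hVU.trans hle₀
  have hfl0 : K'.FlAt 0 hVU := K'.flAt_zero hVU
  have hrank : CohIII.fiberRank fT FT 0 (hU₀.fromSpec q) = r := by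
    obtain ⟨O, hO, hfree⟩ := K'.exists_free_nhd E hV hVU 0 hfl0 hfl1 htV
    obtain ⟨O', hO', hfree'⟩ := h.1 (hU₀.fromSpec q)
    exact rank_unique _ hO hO' (exists_push_free hfree) hfree'
  let p := hV.primeIdealOf ⟨hU₀.fromSpec q, htV⟩
  have hspec := (K'.fibre_spec hV hVU 0 p).1
  rw [hV.fromSpec_primeIdealOf, hrank] at hspec
  let := K'.alg hVU
  have hN : fibreRank (Γ(T, V) ⊗[K'.A₀] stratMod (K'.a 0) (K'.b 0)) p = K.stratN r := by
    rw [← finrank_HmB_add Γ(T, V) (K'.hab 0), ← hspec]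
    rfl
  obtain ⟨g, hg, hD⟩ := exists_basis_away Γ(T, V) (show Module.Flat Γ(T, V) (cokB (K'.a 0) Γ(T, V)) from hfl0)
    ((K'.fl_succ_iff Γ(T, V) 0).2 hfl1) p hN
  obtain ⟨V', h', -, hV', htV', hP⟩ := K'.exists_basic hV hVU p
    (fun D _ _ => Nonempty (Module.Basis (Fin (K.stratN r)) D (D ⊗[K'.A₀] stratMod (K'.a 0) (K'.b 0))))
    ⟨g, hg, fun D _ _ _ _ _ => hD D⟩
  rw [hV.fromSpec_primeIdealOf] at htV'
  refine ⟨V', h'.trans hle₀, htV', (K.free_iff_basis r u hV' _).2 ?_⟩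
  have halg := K.bcChart_alg hW H hle₀ h'
  rw [← halg]
  exact hP

include hfp hfl in
theorem stratLocal_of_stratSq {XT T : Scheme.{u}} {u : T ⟶ S} {fT : XT ⟶ T} {gT : XT ⟶ X}
    (H : IsPullback gT fT f u) (h : StratSq F r fT gT) : StratLocal f F r u := fun t => by
  obtain ⟨W, K, hW, hy⟩ := exists_chart_at hfp hfl (u t)
  obtain ⟨U, hle, htU, hfree⟩ := exists_free_of_stratSq H h hW K hy
  exact ⟨W, hW, K, U, hle, htU, hfree⟩

/-- Sufficiency. -/
theorem stratSq_of_stratLocal {XT T : Scheme.{u}} {u : T ⟶ S} {fT : XT ⟶ T} {gT : XT ⟶ X}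
    (H : IsPullback gT fT f u) (h : StratLocal f F r u) : StratSq F r fT gT := by
  let FT := (Scheme.Modules.pullback gT).obj F
  have : Coh.IsQCoh FT := KFlatLib.isQCoh_pullback _ F
  have : IsProper fT := MorphismProperty.of_isPullback H ‹_›
  have : LocallyOfFinitePresentation fT := MorphismProperty.of_isPullback H ‹_›
  have : HasInjectiveResolutions XT.Modules := inferInstance
  obtain ⟨Δ, ⟨E⟩⟩ := exists_sectCmp fT
  have key : ∀ t : T, ∃ (U : T.Opens) (K' : Chart fT FT U), IsAffineOpen U ∧ t ∈ U ∧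
      K'.FlAt 1 (le_refl U) ∧ CohIII.fiberRank fT FT 0 t = r := fun t => by
    obtain ⟨W, hW, K, U, hle, htU, hfree⟩ := h t
    obtain ⟨U₀, hU₀, htU₀, hle₀⟩ := exists_isAffineOpen_mem_and_subset (X := T) (x := t) (U := U) htU
    have hle' : U₀ ≤ u ⁻¹ᵁ W := (show U₀ ≤ U from hle₀).trans hle
    obtain ⟨b⟩ := (K.free_iff_basis r u hU₀ hle').1 (K.free_mono hfree hle₀)
    let K' := K.bcChart hW H (U := U₀) hle'
    have halg : K'.alg (le_refl U₀) = K.algMap u ((le_refl U₀).trans hle') := K.bcChart_alg hW H hle' le_rfl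
    let := K'.alg (le_refl U₀)
    obtain ⟨b⟩ : Nonempty (Module.Basis (Fin (K.stratN r)) Γ(T, U₀)
        (Γ(T, U₀) ⊗[K'.A₀] stratMod (K'.a 0) (K'.b 0))) := by
      have hb : letI := K.algMap u hle'
          Nonempty (Module.Basis (Fin (K.stratN r)) Γ(T, U₀) (Γ(T, U₀) ⊗[K.A₀] K.stratM)) := ⟨b⟩
      rw [← halg] at hb
      exact hb
    have : Module.Free Γ(T, U₀) (Γ(T, U₀) ⊗[K'.A₀] stratMod (K'.a 0) (K'.b 0)) := Module.Free.of_basis b
    have hflat := flat_of_stratMod_flat (K'.a 0) (K'.b 0) Γ(T, U₀)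
    refine ⟨U₀, K', hU₀, htU₀, (K'.fl_succ_iff Γ(T, U₀) 0).1 hflat.2, ?_⟩
    have hspec := (K'.fibre_spec hU₀ le_rfl 0 (hU₀.primeIdealOf ⟨t, htU₀⟩)).1
    rw [hU₀.fromSpec_primeIdealOf] at hspec
    have hadd := finrank_HmB_add Γ(T, U₀) (K'.hab 0) (hU₀.primeIdealOf ⟨t, htU₀⟩)
    rw [fibreRank_of_basis b, ← hspec] at hadd
    exact Nat.add_right_cancel hadd
  refine ⟨fun t => ?_, fun X'' T' v' f'' u' hp => ?_⟩
  · obtain ⟨U, K', hU, htU, hfl1, hr⟩ := key t
    obtain ⟨O, hO, hfree⟩ := K'.exists_free_nhd E hU le_rfl 0 (K'.flAt_zero le_rfl) hfl1 htU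
    rw [hr] at hfree
    exact ⟨O, hO, exists_push_free hfree⟩
  · have : HasInjectiveResolutions X''.Modules := inferInstance
    obtain ⟨Δ', ⟨E'⟩⟩ := exists_sectCmp f''
    let B := genBC hp.w E E'
    have : IsIso (B.bc 0 FT) := isIso_bc_of_compatAt E hp E' B 0 fun z => by
      obtain ⟨U, K', hU, htU, hfl1, -⟩ := key (u' z)
      exact ⟨U, K', U, le_rfl, hU, htU, hfl1⟩
    exact isIso_bc0_of_bc B FT

omit [IsProper f] [LocallyOfFinitePresentation f] [Coh.IsQCoh F] in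
theorem stratLocal_comp {T T' : Scheme.{u}} {u : T ⟶ S} (g : T' ⟶ T) (h : StratLocal f F r u) :
    StratLocal f F r (g ≫ u) := fun t => by
  obtain ⟨W, hW, K, U, hle, htU, hfree⟩ := h (g t)
  exact ⟨W, hW, K, g ⁻¹ᵁ U, fun _ hx => hle hx, htU, K.free_comp g hfree le_rfl⟩

omit [IsProper f] [LocallyOfFinitePresentation f] [Coh.IsQCoh F] in
theorem stratLocal_of_local {T : Scheme.{u}} (u : T ⟶ S)
    (h : ∀ t : T, ∃ V : T.Opens, t ∈ V ∧ StratLocal f F r (V.ι ≫ u)) : StratLocal f F r u := fun t => by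
  obtain ⟨V, htV, hV⟩ := h t
  obtain ⟨W, hW, K, U, hle, htU, hfree⟩ := hV ⟨t, htV⟩
  let U' := V.ι ''ᵁ U
  have hle' : U' ≤ u ⁻¹ᵁ W := by
    rintro _ ⟨y, hy, rfl⟩
    exact hle hy
  refine ⟨W, hW, K, U', hle', ⟨⟨t, htV⟩, htU, rfl⟩, ?_⟩
  have hr : Set.range U'.ι ⊆ Set.range (U.ι ≫ V.ι) := by
    rintro _ ⟨⟨_, y, hy, rfl⟩, rfl⟩
    exact ⟨⟨y, hy⟩, rfl⟩
  have h2 := RankLocusLib.freeAlong_comp hfree (IsOpenImmersion.lift (U.ι ≫ V.ι) U'.ι hr)
  have e : IsOpenImmersion.lift (U.ι ≫ V.ι) U'.ι hr ≫ (V.ι ≫ u).resLE W U hle = u.resLE W U' hle' := by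
    rw [← cancel_mono W.ι]
    simp only [Category.assoc, Scheme.Hom.resLE_comp_ι]
    rw [← Category.assoc U.ι, ← Category.assoc (IsOpenImmersion.lift (U.ι ≫ V.ι) U'.ι hr),
      IsOpenImmersion.lift_fac]
  rwa [← Category.assoc, e] at h2

end CohCmpLib
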