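import Groth.Agent.CohCmpLib.FamilyPic2
import Groth.Agent.AmpleThLib.Pow

/-!
Further consequences for line bundles.
-/

set_option autoImplicit false
set_option maxRecDepth 8000

noncomputable section

universe u

open CategoryTheory CategoryTheory.Limits AlgebraicGeometry TopologicalSpace Opposite

namespace CohCmpLib

variable {X S : Scheme.{u}}

/-- Powers of a nonzero section are nonzero. -/
theorem exists_section_pow [IsIntegral X] {L : X.Modules} (hL : PicF.IsInvertible L)
    (s : Coh.structureModule X ⟶ L) (hs : s ≠ 0) :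
    ∀ n : ℕ, ∃ t : Coh.structureModule X ⟶ CohB1.tensorPow L n, t ≠ 0
  | 0 => ⟨𝟙 _, structureModule_id_ne_zero⟩
  | n + 1 => by
    obtain ⟨t, ht⟩ := exists_section_pow hL s hs n
    let P := CohB1.tensorPow L n
    have hP := AmpleThLib.tensorPow_isInvertible hL n
    obtain ⟨e⟩ := MiscFlat6.nonempty_dualIso (L := P) hP
    have := VBP1Lib.isEquivalence_tensor e
    let T : X.Modules ⥤ X.Modules := CurvLib.tensorLeft' P
    let a : P ≅ T.obj (Coh.structureModule X) :=
      ((HilbPolyLib.swapIso P (Coh.structureModule X)) ≪≫ KFlatLib.tensUnitIso P).symm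
    have hm : a.hom ≫ T.map s ≫ 𝟙 (T.obj L) ≠ 0 := map_conj_ne_zero T a (Iso.refl _) hs
    refine ⟨(t ≫ a.hom ≫ T.map s ≫ 𝟙 (T.obj L) : Coh.structureModule X ⟶ T.obj L), fun h => ?_⟩
    have : Mono t := CurvLib.mono_of_ne_zero CurvLib.isInvertible_structureModule hP ht
    have hQ : PicF.IsInvertible (T.obj L) := HilbPolyLib.isInvertible_tensor hP hL
    have : Mono (a.hom ≫ T.map s ≫ 𝟙 (T.obj L)) := CurvLib.mono_of_ne_zero hP hQ hm
    exact ht (zero_of_comp_mono _ h)

/-- `O = f_* O`: units of line bundles are invertible. -/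
theorem isIso_unit_of_unitToPush (f : X ⟶ S) [IsIso (ClSub.unitToPush f)] {M : S.Modules}
    (hM : FlatMod.IsFinLocFree M) : IsIso ((Scheme.Modules.pullbackPushforwardAdjunction f).unit.app M) := by
  let a := Scheme.Modules.pullbackPushforwardAdjunction f
  obtain ⟨b⟩ := nonempty_push_pull_iso f hM
  let N := (Scheme.Modules.pullback f).obj M
  have hN : FlatMod.IsFinLocFree N := KFlatLib.isFinLocFree_pull f hM
  have hNc := LocSuppLib.isCoh_of_isFinLocFree hN
  let A := (Scheme.Modules.pushforward f ⋙ Scheme.Modules.pullback f).obj N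
  have hA : FlatMod.IsFinLocFree A := KFlatLib.isFinLocFree_pull f (M := (Scheme.Modules.pushforward f).obj N)
    fun x => by
      obtain ⟨U, r, hU, ⟨t⟩⟩ := hM x
      exact ⟨U, r, hU, ⟨(Scheme.Modules.restrictFunctor U.ι).mapIso b ≪≫ t⟩⟩
  have := (LocSuppLib.isCoh_of_isFinLocFree hA).1
  have : Coh.IsQCoh ((𝟭 X.Modules).obj N) := hNc.1
  have : Coh.IsQCoh N := hNc.1
  have h1 : Epi (a.counit.app N) := epi_of_epi_fac (a.left_triangle_components M)
  have : IsIso (a.counit.app N) :=
    isIso_of_epi_of_iso (P := A) (Q := N) hNc.2 ((Scheme.Modules.pullback f).mapIso b.symm) (a.counit.app N)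
  have : IsIso ((Scheme.Modules.pushforward f).map (a.counit.app N)) := inferInstance
  have h2 : IsIso (a.unit.app ((Scheme.Modules.pushforward f).obj N) ≫
      (Scheme.Modules.pushforward f).map (a.counit.app N)) := by
    rw [a.right_triangle_components N]; infer_instance
  have h3 : IsIso (a.unit.app ((Scheme.Modules.pushforward f).obj N)) :=
    IsIso.of_isIso_comp_right (a.unit.app ((Scheme.Modules.pushforward f).obj N))
      ((Scheme.Modules.pushforward f).map (a.counit.app N))
  exact (NatTrans.isIso_app_iff_of_iso a.unit b).1 h3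

end CohCmpLib
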