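import Groth.Agent.CohCmpLib.FibreRowsBC
import Groth.Agent.QCohLib.Coherent
import Groth.Agent.S4357
import Groth.Prelude.Def_ClSub2

/-!
The unit `O → f_* O`, the counit, and the base change map; epimorphisms tested on fibres.
-/

set_option autoImplicit false

noncomputable section

universe u

open CategoryTheory CategoryTheory.Limits AlgebraicGeometry TopologicalSpace Opposite

namespace CohCmpLib

variable {X Y : Scheme.{u}}

/-- A map to a module of finite type is an epimorphism if it is one after pullback to some scheme over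
every point. -/
theorem epi_of_epi_pullbacks {A B : X.Modules} [Coh.IsQCoh A] [Coh.IsQCoh B] (hB : CohB1.IsFT B) (φ : A ⟶ B)
    (h : ∀ x : X, ∃ (Z : Scheme.{u}) (g : Z ⟶ X) (z : Z), g z = x ∧ Epi ((Scheme.Modules.pullback g).map φ)) :
    Epi φ := by
  rw [Preadditive.epi_iff_isZero_cokernel]
  have : Coh.IsQCoh (cokernel φ) := QCohLib.isQCoh_cokernel φ
  have hC : CohB1.IsFT (cokernel φ) := QCohLib.isFT_of_epi (cokernel.π φ) hB
  refine DevissLib.isZero_of_support_empty (Set.eq_empty_iff_forall_notMem.2 fun x hx => ?_)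
  obtain ⟨Z, g, z, rfl, hepi⟩ := h x
  have hz : IsZero ((Scheme.Modules.pullback g).obj (cokernel φ)) := by
    have : (Scheme.Modules.pullback g).IsLeftAdjoint :=
      ⟨_, ⟨Scheme.Modules.pullbackPushforwardAdjunction g⟩⟩
    exact (isZero_cokernel_of_epi ((Scheme.Modules.pullback g).map φ)).of_iso
      (PreservesCokernel.iso (Scheme.Modules.pullback g) φ)
  have hmem : z ∈ CohB1.support ((Scheme.Modules.pullback g).obj (cokernel φ)) := by
    rw [Groth.Agent.S4357.result g _ hC]
    exact hx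
  exact (DevissLib.notMem_support_iff _ z).2 ((DevissLib.St z).map_isZero hz) hmem

/-- The unit of `O`, transposed. -/
theorem pullUnitIso_puSec (g : X ⟶ Y) {U : Y.Opens} (s : Γ(Coh.structureModule Y, U)) :
    (KFlatLib.pullUnitIso g).hom.app (g ⁻¹ᵁ U) (KFlatLib.puSec g s) = (ClSub.unitToPush g).app U s := by
  have h : (Scheme.Modules.pullbackPushforwardAdjunction g).unit.app (Coh.structureModule Y) ≫
      (Scheme.Modules.pushforward g).map (KFlatLib.pullUnitIso g).hom = ClSub.unitToPush g := by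
    exact ((Scheme.Modules.pullbackPushforwardAdjunction g).homEquiv_unit _ _ _).symm.trans
      (((Scheme.Modules.pullbackPushforwardAdjunction g).homEquiv _ _).apply_symm_apply (ClSub.unitToPush g))
  exact congr(Scheme.Modules.Hom.app $h U s)

variable {S X' S' : Scheme.{u}} {f : X ⟶ S} {g : S' ⟶ S} {f' : X' ⟶ S'} {g' : X' ⟶ X}

/-- The base change map on a pulled back section. -/
theorem bc0_puSec (w : g' ≫ f = f' ≫ g) (F : X.Modules) {U : S.Opens}
    (s : Γ((Scheme.Modules.pushforward f).obj F, U)) :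
    (CohBC.bc0 f g f' g' w F).app (g ⁻¹ᵁ U) (KFlatLib.puSec g s) =
      KFlatLib.puSecLE g' F (CohCmp.sqLE f g f' g' w U) s := by
  have h : (Scheme.Modules.pullbackPushforwardAdjunction g).unit.app ((Scheme.Modules.pushforward f).obj F) ≫
      (Scheme.Modules.pushforward g).map (CohBC.bc0 f g f' g' w F) = CohBC.bc0Adj f g f' g' w F :=
    ((Scheme.Modules.pullbackPushforwardAdjunction g).homEquiv_unit _ _ _).symm.trans (Equiv.apply_symm_apply _ _)
  exact (congr(Scheme.Modules.Hom.app $h U s)).trans (bc0Adj_app w F U s)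

/-- The base change map is compatible with the units of `O`. -/
theorem bc0_unit (w : g' ≫ f = f' ≫ g) :
    (Scheme.Modules.pullback g).map (ClSub.unitToPush f) ≫ CohBC.bc0 f g f' g' w (Coh.structureModule X) ≫
        (Scheme.Modules.pushforward f').map (KFlatLib.pullUnitIso g').hom =
      (KFlatLib.pullUnitIso g).hom ≫ ClSub.unitToPush f' := by
  refine hom_ext_puSec _ _ fun U m => ?_
  refine Eq.trans ?_ (congrArg ((ClSub.unitToPush f').app (g ⁻¹ᵁ U)) (pullUnitIso_puSec g m)).symm
  change (KFlatLib.pullUnitIso g').hom.app (f' ⁻¹ᵁ (g ⁻¹ᵁ U))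
    ((CohBC.bc0 f g f' g' w (Coh.structureModule X)).app (g ⁻¹ᵁ U)
      (((Scheme.Modules.pullback g).map (ClSub.unitToPush f)).app (g ⁻¹ᵁ U) (KFlatLib.puSec g m))) = _
  have h1 : ((Scheme.Modules.pullback g).map (ClSub.unitToPush f)).app (g ⁻¹ᵁ U) (KFlatLib.puSec g m) =
      KFlatLib.puSec g ((ClSub.unitToPush f).app U m) := by
    exact congr(Scheme.Modules.Hom.app
      $((Scheme.Modules.pullbackPushforwardAdjunction g).unit.naturality (ClSub.unitToPush f)) U m).symm
  rw [h1, bc0_puSec]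
  refine (congrArg _ (KFlatLib.puSecLE_apply g' _ _ _)).trans ((QCohLib.app_map _ _ _).trans ?_)
  refine (congrArg _ (pullUnitIso_puSec g' _)).trans ?_
  change X'.presheaf.map _ (g'.app (f ⁻¹ᵁ U) (f.app U m)) = f'.app (g ⁻¹ᵁ U) (g.app U m)
  have e1 : (g' ≫ f).appLE U (f' ⁻¹ᵁ g ⁻¹ᵁ U) (CohCmp.sqLE f g f' g' w U) = (f' ≫ g).app U := by
    rw [Scheme.Hom.app_eq_appLE]
    congr 1
  exact congr($e1 m)

/-- The counit on a pulled back section. -/
theorem counit_puSec (f : X ⟶ Y) (F : X.Modules) {U : Y.Opens} (s : Γ((Scheme.Modules.pushforward f).obj F, U)) :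
    ((Scheme.Modules.pullbackPushforwardAdjunction f).counit.app F).app (f ⁻¹ᵁ U) (KFlatLib.puSec f s) = s :=
  congr(Scheme.Modules.Hom.app
    $((Scheme.Modules.pullbackPushforwardAdjunction f).right_triangle_components F) U s)

theorem pullbackComp_inv_puSec {Z : Scheme.{u}} (a : X ⟶ Y) (b : Y ⟶ Z) (M : Z.Modules) {U : Z.Opens} (m : Γ(M, U)) :
    ((Scheme.Modules.pullbackComp a b).inv.app M).app ((a ≫ b) ⁻¹ᵁ U) (KFlatLib.puSec (a ≫ b) m) =
      KFlatLib.puSec a (KFlatLib.puSec b m) := by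
  rw [← pullbackComp_puSec]
  exact congr(Scheme.Modules.Hom.app $((Scheme.Modules.pullbackComp a b).hom_inv_id_app M)
    (a ⁻¹ᵁ (b ⁻¹ᵁ U)) (KFlatLib.puSec a (KFlatLib.puSec b m)))

/-- The interchange of the two inverse images of a square. -/
def sqIso (w : g' ≫ f = f' ≫ g) :
    Scheme.Modules.pullback g ⋙ Scheme.Modules.pullback f' ≅ Scheme.Modules.pullback f ⋙ Scheme.Modules.pullback g' :=
  Scheme.Modules.pullbackComp f' g ≪≫ Scheme.Modules.pullbackCongr w.symm ≪≫
    (Scheme.Modules.pullbackComp g' f).symm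

/-- The counits commute with base change. -/
theorem bc0_counit (w : g' ≫ f = f' ≫ g) (F : X.Modules) :
    (Scheme.Modules.pullback f').map (CohBC.bc0 f g f' g' w F) ≫
        (Scheme.Modules.pullbackPushforwardAdjunction f').counit.app ((Scheme.Modules.pullback g').obj F) =
      (sqIso w).hom.app ((Scheme.Modules.pushforward f).obj F) ≫
        (Scheme.Modules.pullback g').map ((Scheme.Modules.pullbackPushforwardAdjunction f).counit.app F) := by
  refine hom_ext_puSec₂ _ _ fun U m => ?_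
  let N := (Scheme.Modules.pushforward f).obj F
  have hL : ((Scheme.Modules.pullback f').map (CohBC.bc0 f g f' g' w F)).app (f' ⁻¹ᵁ (g ⁻¹ᵁ U))
      (KFlatLib.puSec f' (KFlatLib.puSec g m)) =
      KFlatLib.puSec f' (show Γ((Scheme.Modules.pushforward f').obj ((Scheme.Modules.pullback g').obj F), g ⁻¹ᵁ U) from
        KFlatLib.puSecLE g' F (CohCmp.sqLE f g f' g' w U) m) :=
    (KFlatLib.puSec_natural f' _ _).trans (congrArg (KFlatLib.puSec f') (bc0_puSec w F m))
  refine (congrArg (((Scheme.Modules.pullbackPushforwardAdjunction f').counit.app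
    ((Scheme.Modules.pullback g').obj F)).app (f' ⁻¹ᵁ (g ⁻¹ᵁ U))) hL).trans ?_
  refine (counit_puSec f' _ _).trans ?_
  have hle : f' ⁻¹ᵁ (g ⁻¹ᵁ U) ≤ (g' ≫ f) ⁻¹ᵁ U := CohCmp.sqLE f g f' g' w U
  have h2 : ((sqIso w).hom.app N).app (f' ⁻¹ᵁ (g ⁻¹ᵁ U)) (KFlatLib.puSec f' (KFlatLib.puSec g m)) =
      KFlatLib.puSecLE g' ((Scheme.Modules.pullback f).obj N) (U := f ⁻¹ᵁ U) hle (KFlatLib.puSec f m) := by
    change ((Scheme.Modules.pullbackComp g' f).inv.app N).app _
      (((Scheme.Modules.pullbackCongr w.symm).hom.app N).app _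
        (((Scheme.Modules.pullbackComp f' g).hom.app N).app _ (KFlatLib.puSec f' (KFlatLib.puSec g m)))) = _
    rw [pullbackComp_puSec]
    have hc := pullbackCongr_puSec w.symm N m (le_refl ((f' ≫ g) ⁻¹ᵁ U)) hle
    rw [KFlatLib.puSecLE_apply] at hc
    have hid : ((Scheme.Modules.pullback (f' ≫ g)).obj N).presheaf.map
        (homOfLE (le_refl ((f' ≫ g) ⁻¹ᵁ U))).op (KFlatLib.puSec (f' ≫ g) m) = KFlatLib.puSec (f' ≫ g) m := by
      rw [show (homOfLE (le_refl ((f' ≫ g) ⁻¹ᵁ U))).op = 𝟙 _ from rfl, CategoryTheory.Functor.map_id]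
      rfl
    refine (congrArg (((Scheme.Modules.pullbackComp g' f).inv.app N).app _)
      ((congrArg _ hid.symm).trans hc)).trans ?_
    have e1 := KFlatLib.puSecLE_apply (g' ≫ f) N hle m
    have e2 := QCohLib.app_map ((Scheme.Modules.pullbackComp g' f).inv.app N) (homOfLE hle)
      (KFlatLib.puSec (g' ≫ f) m)
    have e3 := congrArg (((Scheme.Modules.pullback g').obj ((Scheme.Modules.pullback f).obj N)).presheaf.map (homOfLE hle).op)
      (pullbackComp_inv_puSec g' f N m)
    exact ((congrArg (((Scheme.Modules.pullbackComp g' f).inv.app N).app (f' ⁻¹ᵁ (g ⁻¹ᵁ U))) e1).trans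
      (e2.trans e3)).trans (KFlatLib.puSecLE_apply g' ((Scheme.Modules.pullback f).obj N) (U := f ⁻¹ᵁ U) hle
        (KFlatLib.puSec f m)).symm
  change _ = ((Scheme.Modules.pullback g').map _).app _ (((sqIso w).hom.app N).app _ _)
  rw [h2]
  refine Eq.trans ?_ (puSecLE_natural g' _ hle _).symm
  exact congrArg (fun t => KFlatLib.puSecLE g' F (CohCmp.sqLE f g f' g' w U) t) (counit_puSec f F m).symm

end CohCmpLib
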