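import Groth.Agent.CohCmpLib.StratIff
import Groth.Agent.RankLocusLib.Local
import Groth.Agent.S4360

/-!
The stratum of fixed degree-zero rank is an immersion of finite presentation.
-/

set_option autoImplicit false
set_option maxRecDepth 8000

noncomputable section

universe u

open CategoryTheory CategoryTheory.Limits AlgebraicGeometry TopologicalSpace Opposite
open scoped TensorProduct
open RankLocusLib (FreeAlong LocFreeAlong)
open FlatCxLib (fibreRank)

namespace CohCmpLib

variable {X S : Scheme.{u}} {f : X ⟶ S} {F : X.Modules} [IsProper f] [LocallyOfFinitePresentation f]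
  [Coh.IsQCoh F] (r : ℕ) (hfp : CohB1.IsFP F) (hfl : FlatMod.IsFlatOver f F)

omit [IsProper f] [LocallyOfFinitePresentation f] [Coh.IsQCoh F] in
/-- The rank locus of the module of a model over a noetherian ring. -/
theorem exists_model_locus {W : S.Opens} (K : Chart f F W) [IsNoetherianRing K.A₀] :
    ∃ (Z : Scheme.{u}) (i : Z ⟶ (W : Scheme.{u})), IsImmersion i ∧ LocallyOfFinitePresentation i ∧
      QuasiCompact i ∧ ∀ (T : Scheme.{u}) (g : T ⟶ (W : Scheme.{u})),
        LocFreeAlong (K.stratN r) (tilde (R := CommRingCat.of K.A₀) K.stratM) (g ≫ K.base) ↔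
          ∃ l : T ⟶ Z, l ≫ i = g := by
  let G := tilde (R := CommRingCat.of K.A₀) K.stratM
  have : Coh.IsQCoh G := inferInstanceAs (tilde (R := CommRingCat.of K.A₀) K.stratM).IsQuasicoherent
  have hFT : CohB1.IsFT G := by
    refine QCohLib.isFT_of_finite fun p => ⟨⊤, isAffineOpen_top _, trivial, ?_⟩
    let R := CommRingCat.of K.A₀
    let e : (K.stratM : Type u) →+ Γ(G, ⊤) := AddMonoidHom.mk'
      (fun m => (show Γ(G, ⊤) from tilde.toOpen (R := R) K.stratM ⊤ m))
      (fun a b => map_add (tilde.toOpen (R := R) K.stratM ⊤).hom a b)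
    have he : Function.Surjective e :=
      (tilde.isoTop (R := CommRingCat.of K.A₀) K.stratM).toLinearEquiv.surjective
    have : Module.Finite K.A₀ (stratMod (K.a 0) (K.b 0)) := inferInstance
    obtain ⟨t, ht⟩ := this.fg_top
    classical
    refine ⟨⟨t.image e, eq_top_iff.2 fun z hz => ?_⟩⟩
    clear hz
    obtain ⟨m, rfl⟩ := he z
    have hm : m ∈ Submodule.span K.A₀ (t : Set (stratMod (K.a 0) (K.b 0))) := ht.ge trivial
    induction hm using Submodule.span_induction with
    | mem y hy => exact Submodule.subset_span (Finset.mem_coe.2 (Finset.mem_image_of_mem _ hy))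
    | zero => rw [map_zero]; exact zero_mem _
    | add a b _ _ ha hb => rw [map_add]; exact add_mem ha hb
    | smul c a _ ha =>
      have hc : e (c • a) = (Spec R).presheaf.map (⊤ : (Spec R).Opens).leTop.op ((Scheme.ΓSpecIso R).inv c) • e a :=
        ((tilde.toOpen (R := R) K.stratM ⊤).hom.map_smul c a).trans (Scheme.Modules.smul_Spec_def (R := R) c _)
      rw [hc]
      exact Submodule.smul_mem _ _ ha
  obtain ⟨Z₀, i₀, hi₀, hu, -⟩ := RankLocusLib.exists_immersion G (K.stratN r) hFT
  have : LocallyOfFinitePresentation i₀ := LocallyOfFinitePresentation.iff_locallyOfFiniteType.2 inferInstance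
  have : QuasiCompact i₀ := Groth.Agent.S4360.result i₀ fun y =>
    ⟨⊤, trivial, by
      have : TopologicalSpace.NoetherianSpace (Spec (CommRingCat.of K.A₀)) :=
        inferInstanceAs (TopologicalSpace.NoetherianSpace (PrimeSpectrum K.A₀))
      exact TopologicalSpace.NoetherianSpace.set _⟩
  have := hi₀
  refine ⟨pullback K.base i₀, pullback.fst _ _, inferInstance, inferInstance,
    inferInstance, fun T g => ?_⟩
  rw [← hu]
  constructor
  · rintro ⟨l, hl⟩
    exact ⟨pullback.lift g l hl.symm, pullback.lift_fst _ _ _⟩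
  · rintro ⟨l, rfl⟩
    exact ⟨l ≫ pullback.snd _ _, by rw [Category.assoc, ← pullback.condition, Category.assoc]⟩

/-- Inside the base of a model the condition is that of its module. -/
theorem stratLocal_iff {W : S.Opens} (hW : IsAffineOpen W) (K : Chart f F W) {T : Scheme.{u}}
    (g : T ⟶ (W : Scheme.{u})) :
    StratLocal f F r (g ≫ W.ι) ↔
      LocFreeAlong (K.stratN r) (tilde (R := CommRingCat.of K.A₀) K.stratM) (g ≫ K.base) := by
  have hres : ∀ (U : T.Opens) (hle : U ≤ (g ≫ W.ι) ⁻¹ᵁ W), (g ≫ W.ι).resLE W U hle = U.ι ≫ g := fun U hle => by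
    rw [← cancel_mono W.ι, Scheme.Hom.resLE_comp_ι, Category.assoc]
  constructor
  · intro h t
    obtain ⟨U, hle, htU, hf⟩ := exists_free_of_stratSq (IsPullback.of_hasPullback f (g ≫ W.ι))
      (stratSq_of_stratLocal (IsPullback.of_hasPullback f _) h) hW K (t := t) (g t).2
    refine ⟨U, htU, ?_⟩
    rw [← Category.assoc, ← hres U hle]
    exact hf
  · intro h t
    obtain ⟨U, htU, hU⟩ := h t
    have hle : U ≤ (g ≫ W.ι) ⁻¹ᵁ W := fun x _ => (g x).2
    refine ⟨W, hW, K, U, hle, htU, ?_⟩
    have e : (g ≫ W.ι).resLE W U hle ≫ K.base = U.ι ≫ g ≫ K.base := by rw [hres U hle, Category.assoc]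
    exact (e.symm ▸ hU :)

include hfp hfl in
/-- A point of the right rank satisfies the condition. -/
theorem stratLocal_residueField {s : S} (hs : CohIII.fiberRank f F 0 s = r) :
    StratLocal f F r (S.fromSpecResidueField s) := fun z => by
  obtain ⟨W, K, hW, hsW⟩ := exists_chart_at hfp hfl s
  let u := S.fromSpecResidueField s
  have hle : (⊤ : (Spec (S.residueField s)).Opens) ≤ u ⁻¹ᵁ W := le_preimage_residue hsW
  refine ⟨W, hW, K, ⊤, hle, trivial, (K.free_iff_basis r u (isAffineOpen_top _) hle).2 ?_⟩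
  let C : Type u := Γ(Spec (S.residueField s), ⊤)
  let := K.algMap u hle
  let k : Type u := S.residueField s
  let e := Scheme.ΓSpecIso (S.residueField s)
  let : Algebra K.A₀ k := (e.hom.hom.comp (algebraMap K.A₀ C)).toAlgebra
  let eA : k ≃ₐ[K.A₀] C := AlgEquiv.ofRingEquiv (f := e.symm.commRingCatIsoToRingEquiv) fun x => by
    change e.inv (e.hom (algebraMap K.A₀ C x)) = _
    exact e.hom_inv_id_apply _
  let q₁ : PrimeSpectrum C := (isAffineOpen_top (Spec (S.residueField s))).primeIdealOf ⟨z, trivial⟩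
  let q : PrimeSpectrum k := PrimeSpectrum.comap eA.toRingEquiv.toRingHom q₁
  have hq : PrimeSpectrum.comap (algebraMap K.A₀ k) q = K.pt hW hsW := by
    have h1 := K.comap_algMap hW u (isAffineOpen_top _) hle (t := z) trivial
    have h2 : u z = s := Scheme.fromSpecResidueField_apply _ _
    have h3 : K.pt hW (hle (show z ∈ (⊤ : (Spec (S.residueField s)).Opens) from trivial)) = K.pt hW hsW := by
      congr 1
    rw [← h3, ← h1, ← PrimeSpectrum.comap_comp_apply]
    congr 1
    exact RingHom.ext fun x => e.hom_inv_id_apply _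
  have hrk : fibreRank (k ⊗[K.A₀] K.stratM) q = K.stratN r := by
    rw [fibreRank_baseChange, hq, ← K.fiberRank_add hW hsW, hs]
    rfl
  let b := Module.Free.chooseBasis k (k ⊗[K.A₀] K.stratM)
  let b' := b.reindex (Fintype.equivFin _)
  rw [fibreRank_of_basis b' q] at hrk
  exact nonempty_basis_algEquiv eA (b'.reindex (finCongr hrk))

include hfp hfl in
set_option backward.isDefEq.respectTransparency false in
/-- **The stratum of rank `r`**. -/
theorem exists_strat :
    ∃ (Z : Scheme.{u}) (ι : Z ⟶ S), IsImmersion ι ∧ LocallyOfFinitePresentation ι ∧ QuasiCompact ι ∧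
      (∀ (T : Scheme.{u}) (u : T ⟶ S), (∃ u' : T ⟶ Z, u' ≫ ι = u) ↔ Strat f F r u) ∧
      (∀ (T : Scheme.{u}) (u : T ⟶ S) (XT : Scheme.{u}) (fT : XT ⟶ T) (gT : XT ⟶ X),
        IsPullback gT fT f u → ((∃ u' : T ⟶ Z, u' ≫ ι = u) ↔ StratSq F r fT gT)) ∧
      Set.range ι = {s : S | CohIII.fiberRank f F 0 s = r} := by
  let P : ∀ T : Scheme.{u}, (T ⟶ S) → Prop := fun T u => StratLocal f F r u
  have hloc : ∀ x : S, ∃ (V : S.Opens) (Zl : Scheme.{u}) (il : Zl ⟶ (V : Scheme.{u})), x ∈ V ∧ IsImmersion il ∧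
      LocallyOfFinitePresentation il ∧ QuasiCompact il ∧
      ∀ (T : Scheme.{u}) (g : T ⟶ (V : Scheme.{u})), P T (g ≫ V.ι) ↔ ∃ l : T ⟶ Zl, l ≫ il = g := fun x => by
    obtain ⟨W, hW, hx⟩ := QCohLib.exists_affine_nhd x
    obtain ⟨K, hK⟩ := exists_chart_noeth hfp hfl hW
    obtain ⟨Zl, il, h1, h2, h3, hu⟩ := exists_model_locus r K
    exact ⟨W, Zl, il, hx, h1, h2, h3, fun T g => (stratLocal_iff r hW K g).trans (hu T g)⟩
  obtain ⟨Z, ι, hι, hu⟩ := RankLocusLib.exists_immersion_of_local P (fun g V h => stratLocal_comp V.ι h)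
    (fun g h => stratLocal_of_local g h)
    (fun x => by
      obtain ⟨V, Zl, il, hx, hi, -, -, hu⟩ := hloc x
      exact ⟨V, hx, Zl, il, hi, hu⟩)
  have hl1 : LocallyOfFinitePresentation ι :=
    RankLocusLib.property_of_local @LocallyOfFinitePresentation.{u} ι hu fun x => by
      obtain ⟨V, Zl, il, hx, hi, h2, -, hu⟩ := hloc x
      exact ⟨V, Zl, il, hx, inferInstance, h2, hu⟩
  have hl2 : QuasiCompact ι :=
    RankLocusLib.property_of_local @QuasiCompact.{u} ι hu fun x => by
      obtain ⟨V, Zl, il, hx, hi, -, h3, hu⟩ := hloc x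
      exact ⟨V, Zl, il, hx, inferInstance, h3, hu⟩
  refine ⟨Z, ι, hι, hl1, hl2, fun T u => (hu T u).trans
    ⟨stratSq_of_stratLocal (IsPullback.of_hasPullback f u), stratLocal_of_stratSq hfp hfl (IsPullback.of_hasPullback f u)⟩,
    fun T u XT fT gT H => (hu T u).trans ⟨stratSq_of_stratLocal H, stratLocal_of_stratSq hfp hfl H⟩, ?_⟩
  refine Set.ext fun s => ⟨?_, fun hs => ?_⟩
  · rintro ⟨z, rfl⟩
    obtain ⟨W, hW, K, U, hle, hz, hf⟩ := (hu Z ι).1 ⟨𝟙 _, Category.id_comp _⟩ z
    exact K.fiberRank_of_free hW hf hz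
  · obtain ⟨l, hl⟩ := (hu _ (S.fromSpecResidueField s)).2 (stratLocal_residueField r hfp hfl hs)
    obtain ⟨z⟩ : Nonempty (Spec (S.residueField s)) := inferInstance
    exact ⟨l z, by rw [← Scheme.Hom.comp_apply, hl, Scheme.fromSpecResidueField_apply]⟩

end CohCmpLib
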