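import Groth.Agent.CohCmpLib.UnitFibre
import Groth.Agent.CohCmpLib.StratRep
import Groth.Agent.CurvLib.Euler
import Groth.Agent.DegPullLib.H0

/-!
Families whose fibres have a one-dimensional space of sections.
-/

set_option autoImplicit false
set_option maxRecDepth 8000

noncomputable section

universe u

open CategoryTheory CategoryTheory.Limits AlgebraicGeometry TopologicalSpace Opposite

namespace CohCmpLib

/-- An epimorphism of line bundles is invertible. -/
theorem isIso_of_epi_rank_one {X : Scheme.{u}} {A B : X.Modules} (hA : FlatMod.IsFinLocFreeOfRank 1 A)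
    (hB : FlatMod.IsFinLocFreeOfRank 1 B) (φ : A ⟶ B) [Epi φ] : IsIso φ := by
  have hA' : Coh.IsQCoh A := (LocSuppLib.isCoh_of_isFinLocFree fun x => let ⟨U, h⟩ := hA x; ⟨U, 1, h⟩).1
  have hB' : Coh.IsQCoh B := (LocSuppLib.isCoh_of_isFinLocFree fun x => let ⟨U, h⟩ := hB x; ⟨U, 1, h⟩).1
  refine RpushLib.isIso_of_bijective_basis φ (B := {V : X.Opens | IsAffineOpen V ∧
    RankLocusLib.FreeAlong 1 A V.ι ∧ RankLocusLib.FreeAlong 1 B V.ι}) ?_ fun V hV => ?_
  · refine Opens.isBasis_iff_nbhd.mpr fun {O z} hz => ?_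
    obtain ⟨U₁, h₁, e₁⟩ := hA z
    obtain ⟨U₂, h₂, e₂⟩ := hB z
    obtain ⟨V, hV, hzV, hle⟩ := exists_isAffineOpen_mem_and_subset (X := X) (x := z) (U := O ⊓ (U₁ ⊓ U₂)) ⟨hz, h₁, h₂⟩
    have hle' : V ≤ O ⊓ (U₁ ⊓ U₂) := hle
    have f₁ := RankLocusLib.freeAlong_comp ((RankLocusLib.freeAlong_restrict_iff A U₁).2 e₁)
      (X.homOfLE (hle'.trans (inf_le_right.trans inf_le_left)))
    have f₂ := RankLocusLib.freeAlong_comp ((RankLocusLib.freeAlong_restrict_iff B U₂).2 e₂)
      (X.homOfLE (hle'.trans (inf_le_right.trans inf_le_right)))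
    rw [Scheme.homOfLE_ι] at f₁ f₂
    exact ⟨V, ⟨hV, f₁, f₂⟩, hzV, hle'.trans inf_le_left⟩
  · obtain ⟨hV, f₁, f₂⟩ := hV
    obtain ⟨a⟩ := RankLocusLib.nonempty_basis_of_freeAlong A f₁
    obtain ⟨b⟩ := RankLocusLib.nonempty_basis_of_freeAlong B f₂
    let l : Γ(A, V) →ₗ[Γ(X, V)] Γ(B, V) :=
      { toFun := φ.app V, map_add' := map_add _, map_smul' := fun r m => QCohLib.app_smul φ V r m }
    have hl : Function.Surjective l := FormalLib.app_surjective_of_epi _ φ hV
    let E := a.equivFun.toLinearMap ∘ₗ (b.equivFun.trans a.equivFun.symm).toLinearMap ∘ₗ l ∘ₗ a.equivFun.symm.toLinearMap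
    have hE : Function.Injective E := OrzechProperty.injective_of_surjective_endomorphism E
      (a.equivFun.surjective.comp ((b.equivFun.trans a.equivFun.symm).surjective.comp (hl.comp a.equivFun.symm.surjective)))
    refine ⟨fun x y h => ?_, hl⟩
    refine a.equivFun.injective (hE ?_)
    simp only [E, LinearMap.comp_apply, LinearEquiv.coe_coe, LinearEquiv.symm_apply_apply]
    rw [show l x = l y from h]

/-- Over a field, one-dimensional global functions make `O → f_* O` an epimorphism. -/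
theorem epi_unitToPush_of_surjective {Z T : Scheme.{u}} [Subsingleton T] (f : Z ⟶ T) [QuasiCompact f]
    [QuasiSeparated f] (h : Function.Surjective f.appTop) : Epi (ClSub.unitToPush f) := by
  have : Coh.IsQCoh (Coh.structureModule Z) := QCohLib.isQCoh_unit
  refine QCohLib.epi_of_surjective_on_affines _ fun O t z hz => ?_
  obtain rfl : O = ⊤ := top_le_iff.1 fun z' _ => by rwa [Subsingleton.elim z' z]
  exact ⟨⊤, le_rfl, hz, h _⟩

variable {X S : Scheme.{u}} {f : X ⟶ S}

/-- `H^0` of the structure sheaf of a fibre, as the algebra of global functions. -/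
theorem finrank_global_eq (y : S) :
    CohIII.fiberRank f (Coh.structureModule X) 0 y = Module.finrank (S.residueField y) Γ(f.fiber y, ⊤) := by
  let k : Type u := S.residueField y
  let Z := f.fiber y
  letI : Z.Over (Spec (CommRingCat.of k)) := ⟨f.fiberToSpecResidueField y⟩
  let e1 := CurvLib.hIso (k := k) (KFlatLib.pullUnitIso (f.fiberι y)) 0
  let e2 : Coh.HH Z (Coh.structureModule Z) 0 ≃ₗ[k] Γ(Z, ⊤) :=
    { DegPullLib.e0 (Coh.structureModule Z) with
      map_smul' := fun c x => DegPullLib.e0_smul (Coh.structureModule Z)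
        (Coh.toGlobal (A := k) (f.fiberToSpecResidueField y) c) x }
  exact (e1.trans e2).finrank_eq

/-- One-dimensional global functions on the fibre: the comparison is onto. -/
theorem epi_bc0_unit [QuasiCompact f] [QuasiSeparated f] (s : S)
    (h : Module.finrank (S.residueField s) Γ(f.fiber s, ⊤) = 1) :
    Epi (CohBC.bc0 f (S.fromSpecResidueField s) (f.fiberToSpecResidueField s) (f.fiberι s) (f.fiber_fac s)
      (Coh.structureModule X)) := by
  let f' := f.fiberToSpecResidueField s
  have hsurj : Function.Surjective f'.appTop := fun z => by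
    have := Module.nontrivial_of_finrank_eq_succ h
    have hz : z ∈ (⊥ : Subalgebra (S.residueField s) Γ(f.fiber s, ⊤)) :=
      (Subalgebra.bot_eq_top_of_finrank_eq_one h).symm ▸ Algebra.mem_top
    obtain ⟨c, hc⟩ := Algebra.mem_bot.1 hz
    exact ⟨(Scheme.ΓSpecIso (S.residueField s)).inv c, hc⟩
  have : QuasiSeparated f' := MorphismProperty.of_isPullback (IsPullback.of_hasPullback f _) ‹_›
  have : QuasiCompact f' := MorphismProperty.of_isPullback (IsPullback.of_hasPullback f _) ‹_›
  have he : Epi (ClSub.unitToPush f') := epi_unitToPush_of_surjective f' hsurj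
  have e := bc0_unit (f.fiber_fac s)
  have h2 : Epi ((Scheme.Modules.pullback (S.fromSpecResidueField s)).map (ClSub.unitToPush f) ≫
      CohBC.bc0 f (S.fromSpecResidueField s) f' (f.fiberι s) (f.fiber_fac s) (Coh.structureModule X) ≫
      (Scheme.Modules.pushforward f').map (KFlatLib.pullUnitIso (f.fiberι s)).hom) := by
    rw [e]
    infer_instance
  exact (epi_comp_iff_of_isIso (CohBC.bc0 f (S.fromSpecResidueField s) f' (f.fiberι s) (f.fiber_fac s)
    (Coh.structureModule X)) ((Scheme.Modules.pushforward f').map (KFlatLib.pullUnitIso (f.fiberι s)).hom)).1 (epi_of_epi ((Scheme.Modules.pullback (S.fromSpecResidueField s)).map (ClSub.unitToPush f)) _)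

variable {F : X.Modules} [IsProper f] [LocallyOfFinitePresentation f] [Coh.IsQCoh F]

/-- A surjective comparison at a point gives compatibility near it. -/
theorem compatAt_of_epi (hfp : CohB1.IsFP F) (hfl : FlatMod.IsFlatOver f F) (s : S)
    (he : Epi (CohBC.bc0 f (S.fromSpecResidueField s) (f.fiberToSpecResidueField s) (f.fiberι s)
      (f.fiber_fac s) F)) : CompatAt f F 0 s := by
  have : HasInjectiveResolutions X.Modules := inferInstance
  have : HasInjectiveResolutions (f.fiber s).Modules := inferInstance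
  obtain ⟨Δ, ⟨E⟩⟩ := exists_sectCmp f
  obtain ⟨Δs, ⟨Es⟩⟩ := exists_sectCmp (f.fiberToSpecResidueField s)
  have hb : Epi ((genBC (f.fiber_fac s) E Es).bc 0 F) := epi_bc_of_bc0 _ F he
  obtain ⟨W, K, hW, hsW⟩ := exists_chart_at hfp hfl s
  obtain ⟨q, rfl⟩ := exists_fromSpec hW hsW
  obtain ⟨V, hle, -, hV, hsV, a⟩ := K.exists_fl_of_epi E hW le_rfl 0 q Es (genBC _ E Es) hb
  exact ⟨W, K, V, hle, hV, hsV, a⟩

/-- One-dimensional fibres and surjective comparisons: a line bundle commuting with base change. -/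
theorem stratLocal_one (hfp : CohB1.IsFP F) (hfl : FlatMod.IsFlatOver f F)
    (h1 : ∀ s, CohIII.fiberRank f F 0 s = 1)
    (he : ∀ s, Epi (CohBC.bc0 f (S.fromSpecResidueField s) (f.fiberToSpecResidueField s) (f.fiberι s)
      (f.fiber_fac s) F)) :
    FlatMod.IsFinLocFreeOfRank 1 ((Scheme.Modules.pushforward f).obj F) ∧
      ∀ {X' S' : Scheme.{u}} {g : S' ⟶ S} {f' : X' ⟶ S'} {g' : X' ⟶ X} (H : IsPullback g' f' f g),
        IsIso (CohBC.bc0 f g f' g' H.w F) := by
  refine ⟨fun s => ?_, fun {X' S' g f' g'} H => ?_⟩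
  · have : HasInjectiveResolutions X.Modules := inferInstance
    obtain ⟨Δ, ⟨E⟩⟩ := exists_sectCmp f
    obtain ⟨W, K, V, hle, hV, hsV, a⟩ := compatAt_of_epi hfp hfl s (he s)
    obtain ⟨O, hO, e⟩ := K.exists_free_nhd E hV hle 0 (K.flAt_zero hle) a hsV
    rw [h1] at e
    exact ⟨O, hO, exists_push_free e⟩
  · have : HasInjectiveResolutions X.Modules := inferInstance
    have : HasInjectiveResolutions X'.Modules := inferInstance
    obtain ⟨Δ, ⟨E⟩⟩ := exists_sectCmp f
    obtain ⟨Δ', ⟨E'⟩⟩ := exists_sectCmp f'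
    let B := genBC H.w E E'
    have : IsIso (B.bc 0 F) := isIso_bc_of_compatAt E H E' B 0 fun z => compatAt_of_epi hfp hfl _ (he (g z))
    exact isIso_bc0_of_bc B F

end CohCmpLib
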