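import Groth.Agent.CohCmpLib.CanonApps
import Groth.Agent.TwistLib.PullGen

/-!
Lifting sections from a fibre.
-/

set_option autoImplicit false
set_option maxRecDepth 8000

noncomputable section

universe u

open CategoryTheory CategoryTheory.Limits AlgebraicGeometry TopologicalSpace Opposite
open KFlatLib (puSec puSecLE pb)

namespace CohCmpLib

/-- Global functions on the spectrum of a residue field come from neighbourhoods. -/
theorem exists_lift_residue {S : Scheme.{u}} (y : S) (c : Γ(Spec (S.residueField y), ⊤)) :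
    ∃ (O : S.Opens) (hy : y ∈ O) (r : Γ(S, O)),
      (S.fromSpecResidueField y).appLE O ⊤ (le_preimage_residue hy) r = c := by
  obtain ⟨s, hs⟩ := S.residue_surjective y ((Scheme.ΓSpecIso (S.residueField y)).hom c)
  obtain ⟨O, hy, r, rfl⟩ := S.presheaf.exists_germ_eq (x := y) s
  refine ⟨O, hy, r, ?_⟩
  have h1 : (⊤ : (Spec (S.presheaf.stalk y)).Opens) ≤ (S.fromSpecStalk y) ⁻¹ᵁ O := by
    intro z _
    have hz : (S.fromSpecStalk y) z ⤳ y := by
      have : (S.fromSpecStalk y) z ∈ Set.range (S.fromSpecStalk y) := ⟨z, rfl⟩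
      rwa [Scheme.range_fromSpecStalk] at this
    exact hz.mem_open O.2 hy
  have key : (S.fromSpecResidueField y).appLE O ⊤ (le_preimage_residue hy) =
      S.presheaf.germ O y hy ≫ S.residue y ≫ (Scheme.ΓSpecIso (S.residueField y)).inv := by
    rw [show (S.fromSpecResidueField y).appLE O ⊤ (le_preimage_residue hy) =
      (Spec.map (S.residue y) ≫ S.fromSpecStalk y).appLE O ⊤ (le_preimage_residue hy) from rfl,
      ← Scheme.Hom.appLE_comp_appLE (Spec.map (S.residue y)) (S.fromSpecStalk y) O ⊤ ⊤ h1 (fun _ _ => trivial)]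
    rw [Scheme.Hom.appLE, Scheme.fromSpecStalk_app hy, Category.assoc, Category.assoc, Category.assoc,
      ← Functor.map_comp_assoc]
    have e1 : ∀ (i : (Opposite.op (⊤ : (Spec (S.presheaf.stalk y)).Opens)) ⟶ Opposite.op ⊤),
        (Spec (S.presheaf.stalk y)).presheaf.map i = 𝟙 _ := fun i => by
      rw [Subsingleton.elim i (𝟙 _)]; exact CategoryTheory.Functor.map_id _ _
    rw [e1, Category.id_comp]
    have e2 : (Spec.map (S.residue y)).appLE ⊤ ⊤ (fun _ _ => trivial) = (Spec.map (S.residue y)).appTop := by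
      rw [Scheme.Hom.appLE, show (homOfLE (fun _ _ => trivial : (⊤ : (Spec (S.residueField y)).Opens) ≤ (Spec.map (S.residue y)) ⁻¹ᵁ ⊤)).op = 𝟙 _ from Subsingleton.elim _ _]
      erw [CategoryTheory.Functor.map_id, Category.comp_id]
    rw [e2, ← Scheme.ΓSpecIso_inv_naturality]
  rw [key, ConcreteCategory.comp_apply, ConcreteCategory.comp_apply, hs]
  exact (Scheme.ΓSpecIso (S.residueField y)).hom_inv_id_apply c

variable {X S : Scheme.{u}} (f : X ⟶ S) [QuasiCompact f] [QuasiSeparated f] {F : X.Modules} [Coh.IsQCoh F]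

/-- A surjective comparison lets sections on a fibre lift to a neighbourhood. -/
theorem exists_lift_section (y : S)
    (he : Epi (CohBC.bc0 f (S.fromSpecResidueField y) (f.fiberToSpecResidueField y) (f.fiberι y) (f.fiber_fac y) F))
    (e : Γ(CohIII.fiberMod f F y, ⊤)) :
    ∃ (O : S.Opens) (_ : y ∈ O) (h : (⊤ : (f.fiber y).Opens) ≤ (f.fiberι y) ⁻¹ᵁ (f ⁻¹ᵁ O)) (m : Γ(F, f ⁻¹ᵁ O)),
      puSecLE (f.fiberι y) F h m = e := by
  let g := S.fromSpecResidueField y
  let f' := f.fiberToSpecResidueField y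
  let T := Spec (S.residueField y)
  let P := (Scheme.Modules.pushforward f).obj F
  have : Coh.IsQCoh P := QCohLib.isQCoh_pushforward f F
  have : Coh.IsQCoh (pb g P) := KFlatLib.isQCoh_pullback g P
  have : QuasiCompact f' := MorphismProperty.of_isPullback (IsPullback.of_hasPullback f g) ‹_›
  have : QuasiSeparated f' := MorphismProperty.of_isPullback (IsPullback.of_hasPullback f g) ‹_›
  have : Coh.IsQCoh (CohIII.fiberMod f F y) := KFlatLib.isQCoh_pullback (f.fiberι y) F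
  have : Coh.IsQCoh ((Scheme.Modules.pushforward f').obj (CohIII.fiberMod f F y)) := QCohLib.isQCoh_pushforward f' _
  obtain ⟨z, hz⟩ := FormalLib.app_surjective_of_epi _
    (CohBC.bc0 f g f' (f.fiberι y) (f.fiber_fac y) F) (isAffineOpen_top T) e
  obtain ⟨V, hV, hyV⟩ := QCohLib.exists_affine_nhd y
  have hle : (⊤ : T.Opens) ≤ g ⁻¹ᵁ V := le_preimage_residue hyV
  let : Algebra Γ(S, V) Γ(T, ⊤) := (g.appLE V ⊤ hle).hom.toAlgebra
  let : Module Γ(S, V) Γ(pb g P, ⊤) := Module.compHom _ (g.appLE V ⊤ hle).hom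
  have : IsScalarTower Γ(S, V) Γ(T, ⊤) Γ(pb g P, ⊤) := IsScalarTower.of_algebraMap_smul fun _ _ => rfl
  let ψ : Γ(P, V) →ₗ[Γ(S, V)] Γ(pb g P, ⊤) :=
    { toFun := puSecLE g P hle
      map_add' := map_add _
      map_smul' := fun r m => KFlatLib.puSecLE_smul g P hle r m }
  have hb : IsBaseChange Γ(T, ⊤) ψ :=
    KFlatLib.isBaseChange_puSec g P hV (isAffineOpen_top T) hle (fun _ => rfl) ψ fun _ => rfl
  let Q : Γ(pb g P, ⊤) → Prop := fun z => ∃ (O : S.Opens) (hy : y ∈ O) (m : Γ(P, O)),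
    puSecLE g P (le_preimage_residue hy) m = z
  have hmono : ∀ {O O' : S.Opens} (h : O' ≤ O) (hy : y ∈ O') (m : Γ(P, O)),
      puSecLE g P (le_preimage_residue hy) (P.presheaf.map (homOfLE h).op m) =
        puSecLE g P (le_preimage_residue (h hy)) m := fun {O O'} h hy m => by
    rw [KFlatLib.puSecLE_apply, KFlatLib.puSecLE_apply]
    refine (congrArg ((pb g P).presheaf.map (homOfLE (le_preimage_residue hy)).op)
      (QCohLib.app_map ((Scheme.Modules.pullbackPushforwardAdjunction g).unit.app P) (homOfLE h) m)).trans ?_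
    exact QCohLib.map_map' (pb g P) (homOfLE (le_preimage_residue hy)) (homOfLE (g.preimage_mono h)) (puSec g m)
  have hQ : ∀ z, Q z := fun z => by
    induction z using hb.inductionOn with
    | zero => exact ⟨V, hyV, 0, map_zero _⟩
    | tmul m => exact ⟨V, hyV, m, rfl⟩
    | smul c z hz =>
      obtain ⟨O, hyO, m, rfl⟩ := hz
      obtain ⟨O', hyO', r, rfl⟩ := exists_lift_residue y c
      have hy' : y ∈ O' ⊓ O := ⟨hyO', hyO⟩
      refine ⟨O' ⊓ O, hy', (show Γ(S, O' ⊓ O) from S.presheaf.map (homOfLE (inf_le_left : O' ⊓ O ≤ O')).op r) •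
        (show Γ(P, O' ⊓ O) from P.presheaf.map (homOfLE (inf_le_right : O' ⊓ O ≤ O)).op m), ?_⟩
      rw [KFlatLib.puSecLE_smul, hmono (inf_le_right : O' ⊓ O ≤ O) hy']
      congr 1
      rw [← ConcreteCategory.comp_apply, Scheme.Hom.map_appLE]
    | add a b ha hb' =>
      obtain ⟨O, hyO, m, rfl⟩ := ha
      obtain ⟨O', hyO', m', rfl⟩ := hb'
      refine ⟨O ⊓ O', ⟨hyO, hyO'⟩, P.presheaf.map (homOfLE (inf_le_left : O ⊓ O' ≤ O)).op m +
        P.presheaf.map (homOfLE (inf_le_right : O ⊓ O' ≤ O')).op m', ?_⟩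
      rw [map_add, hmono (inf_le_left : O ⊓ O' ≤ O) ⟨hyO, hyO'⟩, hmono (inf_le_right : O ⊓ O' ≤ O') ⟨hyO, hyO'⟩]
  obtain ⟨O, hyO, m, hm⟩ := hQ z
  have h : (⊤ : (f.fiber y).Opens) ≤ (f.fiberι y) ⁻¹ᵁ (f ⁻¹ᵁ O) := fun x _ =>
    CohCmp.sqLE f g f' (f.fiberι y) (f.fiber_fac y) O (show f' x ∈ g ⁻¹ᵁ O from le_preimage_residue hyO trivial)
  refine ⟨O, hyO, h, m, ?_⟩
  rw [← hz, ← hm, KFlatLib.puSecLE_apply g P]
  refine Eq.symm ((QCohLib.app_map _ (homOfLE (le_preimage_residue hyO)) (puSec g m)).trans ?_)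
  refine (congrArg (((Scheme.Modules.pushforward f').obj (CohIII.fiberMod f F y)).presheaf.map
    (homOfLE (le_preimage_residue hyO)).op) (bc0_puSec (f.fiber_fac y) F m)).trans ?_
  rw [KFlatLib.puSecLE_apply, KFlatLib.puSecLE_apply]
  exact QCohLib.map_map' (CohIII.fiberMod f F y) (homOfLE _) (homOfLE (CohCmp.sqLE f g f' (f.fiberι y) (f.fiber_fac y) O))
    (puSec (f.fiberι y) m)

omit [QuasiCompact f] [QuasiSeparated f] in
/-- A section whose pullback generates is a generator. -/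
theorem genAt_of_puSec {Z : Scheme.{u}} (g : Z ⟶ X) {M : X.Modules} (hM : PicF.IsInvertible M) {U : X.Opens}
    (m : Γ(M, U)) {z : Z} (hz : g z ∈ U)
    (h : AmpleLib.GenAt (pb g M) (W := g ⁻¹ᵁ U) (puSec g m) (show z ∈ g ⁻¹ᵁ U from hz)) :
    AmpleLib.GenAt M m hz := by
  obtain ⟨U', e, hzU', he⟩ := TwistLib.exists_genOn hM (g z)
  let W := U ⊓ U'
  have hzW : g z ∈ W := ⟨hz, hzU'⟩
  have hW : W ≤ U := inf_le_left
  obtain ⟨r, hr⟩ := (he W inf_le_right).2 (AmpleLib.res M hW m)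
  let e' := AmpleLib.res M (inf_le_right : W ≤ U') e
  have he' : AmpleLib.GenAt M e' hzW := (he.res inf_le_right).genAt hzW
  refine (AmpleLib.genAt_res hW m hzW).1 ?_
  rw [← hr]
  refine (AmpleLib.genAt_smul_iff r e' hzW he').2 ?_
  have h1 : AmpleLib.GenAt (pb g M) (W := g ⁻¹ᵁ W) (puSec g (AmpleLib.res M hW m)) (show z ∈ g ⁻¹ᵁ W from hzW) := by
    have e1 : puSec g (AmpleLib.res M hW m) =
        AmpleLib.res (pb g M) (g.preimage_mono hW) (puSec g m) :=
      QCohLib.app_map ((Scheme.Modules.pullbackPushforwardAdjunction g).unit.app M) (homOfLE hW) m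
    rw [e1]
    exact (AmpleLib.genAt_res (g.preimage_mono hW) (puSec g m) (show z ∈ g ⁻¹ᵁ W from hzW)).2 h
  rw [← hr, KFlatLib.puSec_smul] at h1
  have h2 := (AmpleLib.genAt_smul_iff (g.app W r) (puSec g e') (show z ∈ g ⁻¹ᵁ W from hzW)
    (TwistLib.GenAt.puSec g he')).1 h1
  rwa [← Scheme.preimage_basicOpen] at h2

end CohCmpLib
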