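import Groth.Agent.CohCmpLib.FibreStalk
import Groth.Agent.CohCmpLib.LiftSection
import Groth.Agent.QCohLib.Coherent

/-!
Homomorphisms on a fibre lift to a neighbourhood.
-/

set_option autoImplicit false
set_option maxRecDepth 8000

noncomputable section

universe u

open CategoryTheory CategoryTheory.Limits AlgebraicGeometry TopologicalSpace Opposite
open scoped TensorProduct
open ProjFormLib (ger res ger_res ger_map exists_ger section_ext exists_frame)
open KFlatLib (tens shTm pb puSec puSecLE)

namespace CohCmpLib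

variable {X Z : Scheme.{u}} {M P : X.Modules}

/-- A global section of the sheaf of homomorphisms as a morphism. -/
def secHom (h : Γ(homMod M P, (⊤ : X.Opens))) : M ⟶ P where
  val := PresheafOfModules.homMk
    { app := fun V => AddCommGrpCat.ofHom
        { toFun := fun m : Γ(M, V.unop) => happ (res (homMod M P) (le_top : V.unop ≤ ⊤) h) m
          map_zero' := section_ext _ _ fun y hy => by
            rw [ger_happ]
            exact ((congrArg _ (ger_zero M y hy)).trans (map_zero _)).trans (ger_zero P y hy).symm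
          map_add' := fun a b => section_ext _ _ fun y hy => by
            refine (ger_happ _ _ y hy).trans ((congrArg _ (ProjFormLib.ger_add M y hy a b)).trans ?_)
            refine (map_add _ _ _).trans (Eq.trans ?_ (ProjFormLib.ger_add P y hy _ _).symm)
            exact congr_arg₂ (· + ·) (ger_happ _ _ y hy).symm (ger_happ _ _ y hy).symm }
      naturality := fun V W i => by
        ext m
        refine section_ext _ _ fun y hy => ?_
        refine Eq.trans ?_ (ger_res P i.unop.le y hy _).symm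
        refine (ger_happ _ _ y hy).trans (Eq.trans ?_ (ger_happ _ _ y _).symm)
        exact congrArg _ (ger_res M i.unop.le y hy m) }
    (fun V r m => section_ext _ _ fun y hy => by
      refine (ger_happ _ _ y hy).trans ((congrArg _ (ProjFormLib.ger_smul M y hy r m)).trans ?_)
      refine (map_smul _ _ _).trans (Eq.trans ?_ (ProjFormLib.ger_smul P y hy r _).symm)
      exact congrArg _ (ger_happ _ _ y hy).symm)

theorem stalk_secHom (h : Γ(homMod M P, (⊤ : X.Opens))) (y : X) :
    ((DerSch.stalkFunctor X y).map (secHom h)).hom = hVal h y trivial := by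
  refine LinearMap.ext fun a => ?_
  obtain ⟨V, hy, m, rfl⟩ := exists_ger M y a
  exact (ger_map (secHom h) y hy m).trans (ger_happ _ _ y hy)

/-- A morphism as a global section of the sheaf of homomorphisms. -/
def ofHom (u : M ⟶ P) : Γ(homMod M P, (⊤ : X.Opens)) :=
  (show homSec M P ⊤ from ⟨fun y => ((DerSch.stalkFunctor X y.1).map u).hom,
    fun V _ m => ⟨u.app V m, fun y hy => (ger_map u y hy m).symm⟩⟩)

theorem hVal_ofHom (u : M ⟶ P) (y : X) :
    hVal (ofHom u) y trivial = ((DerSch.stalkFunctor X y).map u).hom := rfl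

variable (g : Z ⟶ X)

/-- Pullback of local homomorphisms. -/
def homPull (M P : X.Modules) : pb g (homMod M P) ⟶ homMod (pb g M) (pb g P) := curryMod (pullEv g (evMod M P))

theorem isFinLocFree_pb (hM : FlatMod.IsFinLocFree M) : FlatMod.IsFinLocFree (pb g M) :=
  isFinLocFree_of_frames fun z => by
    obtain ⟨U, n, e, hz, he⟩ := exists_frame hM (g z)
    exact ⟨g ⁻¹ᵁ U, n, _, hz, isFrame_puSec g he⟩

theorem isIso_homPull (hM : FlatMod.IsFinLocFree M) : IsIso (homPull g M P) :=
  isIso_of_homEv (homPull g M P) (curryMod_comp _) (homEv_pullback g hM (homEv_evMod hM))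
    (homEv_evMod (isFinLocFree_pb g hM))

theorem exists_homPull_stalk (z : Z) :
    letI := (g.stalkMap z).hom.toAlgebra
    ∃ (L : Z.presheaf.stalk z ⊗[X.presheaf.stalk (g z)] stk M (g z) ≃ₗ[Z.presheaf.stalk z] stk (pb g M) z)
      (L' : Z.presheaf.stalk z ⊗[X.presheaf.stalk (g z)] stk P (g z) ≃ₗ[Z.presheaf.stalk z] stk (pb g P) z),
      (∀ (U : X.Opens) (hz : g z ∈ U) (m : Γ(M, U)),
        L (1 ⊗ₜ ger M (g z) hz m) = ger (pb g M) z (U := g ⁻¹ᵁ U) hz (puSec g m)) ∧
      (∀ (U : X.Opens) (hz : g z ∈ U) (m : Γ(P, U)),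
        L' (1 ⊗ₜ ger P (g z) hz m) = ger (pb g P) z (U := g ⁻¹ᵁ U) hz (puSec g m)) ∧
      ∀ (U : X.Opens) (V : Z.Opens) (hV : V ≤ g ⁻¹ᵁ U) (hz : z ∈ V) (h : Γ(homMod M P, U)),
        hVal ((homPull g M P).app V (puSecLE g (homMod M P) hV h)) z hz =
          L'.toLinearMap ∘ₗ (hVal h (g z) (hV hz)).baseChange (Z.presheaf.stalk z) ∘ₗ L.symm.toLinearMap := by
  let := (g.stalkMap z).hom.toAlgebra
  obtain ⟨L, hL⟩ := exists_stalkPullEquiv g M z
  obtain ⟨L', hL'⟩ := exists_stalkPullEquiv g P z
  refine ⟨L, L', hL, hL', fun U V hV hz h => ?_⟩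
  have key : ∀ a, hVal ((homPull g M P).app V (puSecLE g (homMod M P) hV h)) z hz (L a) =
      L' ((hVal h (g z) (hV hz)).baseChange (Z.presheaf.stalk z) a) := fun a => by
    induction a using TensorProduct.induction_on with
    | zero => simp only [map_zero]
    | add a b ha hb => rw [map_add, map_add, ha, hb, map_add, map_add]
    | tmul c a =>
      suffices h1 : hVal ((homPull g M P).app V (puSecLE g (homMod M P) hV h)) z hz (L (1 ⊗ₜ a)) =
          L' (1 ⊗ₜ hVal h (g z) (hV hz) a) by
        rw [show c ⊗ₜ[X.presheaf.stalk (g z)] a = c • ((1 : Z.presheaf.stalk z) ⊗ₜ[X.presheaf.stalk (g z)] a) by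
          rw [TensorProduct.smul_tmul', smul_eq_mul, mul_one]]
        rw [map_smul L, map_smul, h1, map_smul, LinearMap.baseChange_tmul, map_smul]
      obtain ⟨W, hW, m, rfl⟩ := exists_ger M (g z) a
      rw [hL, show hVal ((homPull g M P).app V (puSecLE g (homMod M P) hV h)) z hz =
        evS (pullEv g (evMod M P)) z (ger (pb g (homMod M P)) z hz (puSecLE g (homMod M P) hV h)) from
          hVal_curryMod _ _ z hz, KFlatLib.puSecLE_apply]
      erw [ger_res (pb g (homMod M P)) hV z hz (puSec g h)]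
      have hU : g z ∈ U := hV hz
      have hz' : g z ∈ U ⊓ W := ⟨hU, hW⟩
      have e1 : ∀ {A : X.Modules} {T T' : X.Opens} (hT : T' ≤ T) (hz₁ : g z ∈ T') (s : Γ(A, T)),
          ger (pb g A) z (U := g ⁻¹ᵁ T') hz₁ (puSec g (res A hT s)) =
            ger (pb g A) z (U := g ⁻¹ᵁ T) (hT hz₁) (puSec g s) := fun {A T T'} hT hz₁ s => by
        rw [← ger_res (pb g A) (g.preimage_mono hT) z hz₁ (puSec g s)]
        exact congrArg (ger (pb g A) z (U := g ⁻¹ᵁ T') hz₁)
          (QCohLib.app_map ((Scheme.Modules.pullbackPushforwardAdjunction g).unit.app A) (homOfLE hT) s)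
      rw [← e1 (inf_le_left : U ⊓ W ≤ U) hz' h, ← e1 (inf_le_right : U ⊓ W ≤ W) hz' m, evS_ger, pullEv_puSec,
        evMod_app, ← hL' _ hz', ger_happ, hVal_res, ger_res]
  refine LinearMap.ext fun a => ?_
  have h2 := key (L.symm a)
  rwa [LinearEquiv.apply_symm_apply] at h2

theorem injective_stalk_iff {u : M ⟶ P} (y : X) :
    Function.Injective ((DerSch.stalkFunctor X y).map u).hom ↔ Subsingleton ((kernel u).presheaf.stalk y) := by
  refine Iff.trans ?_ (ModuleCat.isZero_iff_subsingleton (M := (DerSch.stalkFunctor X y).obj (kernel u)))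
  rw [(PreservesKernel.iso (DerSch.stalkFunctor X y) u).isZero_iff, ← ModuleCat.mono_iff_injective]
  exact ⟨fun _ => isZero_kernel_of_mono _, fun h => Preadditive.mono_of_isZero_kernel _ h⟩

theorem surjective_stalk_iff {u : M ⟶ P} (y : X) :
    Function.Surjective ((DerSch.stalkFunctor X y).map u).hom ↔ Subsingleton ((cokernel u).presheaf.stalk y) := by
  refine Iff.trans ?_ (ModuleCat.isZero_iff_subsingleton (M := (DerSch.stalkFunctor X y).obj (cokernel u)))
  rw [(PreservesCokernel.iso (DerSch.stalkFunctor X y) u).isZero_iff, ← ModuleCat.epi_iff_surjective]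
  exact ⟨fun _ => isZero_cokernel_of_epi _, fun h => Preadditive.epi_of_isZero_cokernel _ h⟩

theorem mono_of_stalk_injective {u : M ⟶ P}
    (h : ∀ y, Function.Injective ((DerSch.stalkFunctor X y).map u).hom) : Mono u :=
  Preadditive.mono_of_isZero_kernel u ((KFlatLib.isZero_iff_forall_stalk _).mpr fun y =>
    (ModuleCat.isZero_iff_subsingleton).mpr ((injective_stalk_iff y).1 (h y)))

theorem epi_of_stalk_surjective {u : M ⟶ P}
    (h : ∀ y, Function.Surjective ((DerSch.stalkFunctor X y).map u).hom) : Epi u :=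
  Preadditive.epi_of_isZero_cokernel u ((KFlatLib.isZero_iff_forall_stalk _).mpr fun y =>
    (ModuleCat.isZero_iff_subsingleton).mpr ((surjective_stalk_iff y).1 (h y)))

theorem isOpen_bijective_stalk [IsLocallyNoetherian X] (hM : FlatMod.IsFinLocFree M) (hP : FlatMod.IsFinLocFree P)
    (u : M ⟶ P) : IsOpen {y : X | Function.Bijective ((DerSch.stalkFunctor X y).map u).hom} := by
  have hM' := LocSuppLib.isCoh_of_isFinLocFree hM
  have hP' := LocSuppLib.isCoh_of_isFinLocFree hP
  have h1 := QCohLib.isClosed_support _ (QCohLib.isCoh_kernel u hM' hP'.1).2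
  have h2 := QCohLib.isClosed_support _ (QCohLib.isCoh_cokernel u hM'.1 hP').2
  convert (h1.union h2).isOpen_compl using 1
  ext y
  simp only [Set.mem_setOf_eq, Set.mem_compl_iff, Set.mem_union, CohB1.support, not_or, not_not,
    Function.Bijective, injective_stalk_iff, surjective_stalk_iff]

variable {S : Scheme.{u}} (f : X ⟶ S)

/-- Vanishing of the first cohomology of the sheaf of homomorphisms lets homomorphisms lift. -/
theorem exists_lift_hom [IsProper f] [Flat f] [IsLocallyNoetherian S] {F G : X.Modules}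
    (hF : FlatMod.IsFinLocFree F) (hG : FlatMod.IsFinLocFree G) (s : S)
    [DCoh.HasSheafHom (CohIII.fiberMod f F s)]
    (h1 : Subsingleton (Coh.HH (f.fiber s)
      ((DCoh.sheafHom (CohIII.fiberMod f F s)).obj (CohIII.fiberMod f G s)) 1))
    (u₀ : CohIII.fiberMod f F s ⟶ CohIII.fiberMod f G s) :
    ∃ (O : S.Opens) (_ : s ∈ O) (h : (⊤ : (f.fiber s).Opens) ≤ (f.fiberι s) ⁻¹ᵁ (f ⁻¹ᵁ O))
      (m : Γ(homMod F G, f ⁻¹ᵁ O)),
      (homPull (f.fiberι s) F G).app ⊤ (puSecLE (f.fiberι s) (homMod F G) h m) = ofHom u₀ := by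
  let ι := f.fiberι s
  obtain ⟨hQ, hfp, hfl⟩ := locFree_hyps f (isFinLocFree_homMod hF hG)
  have : IsIso (homPull ι F G) := isIso_homPull ι hF
  have hFy : FlatMod.IsFinLocFree (CohIII.fiberMod f F s) := isFinLocFree_pb ι hF
  let c : (DCoh.sheafHom (CohIII.fiberMod f F s)).obj (CohIII.fiberMod f G s) ⟶
      homMod (CohIII.fiberMod f F s) (CohIII.fiberMod f G s) :=
    curryMod ((DCoh.sheafHomAdj (CohIII.fiberMod f F s)).counit.app (CohIII.fiberMod f G s))
  have : IsIso c := isIso_of_homEv c (curryMod_comp _) (homEv_counit hFy) (homEv_evMod hFy)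
  let k : Type u := S.residueField s
  let : (f.fiber s).Over (Spec (CommRingCat.of k)) := ⟨f.fiberToSpecResidueField s⟩
  let e : pb ι (homMod F G) ≅ (DCoh.sheafHom (CohIII.fiberMod f F s)).obj (CohIII.fiberMod f G s) :=
    asIso (homPull ι F G) ≪≫ (asIso c).symm
  have hv : Subsingleton (CohIII.fiberH f (homMod F G) s 1) := (CurvLib.hIso (k := k) e 1).toEquiv.subsingleton
  have he := epi_bc0_of_vanishing_one f hfp hfl s hv
  obtain ⟨O, hO, h, m, hm⟩ := exists_lift_section f s he ((inv (homPull ι F G)).app ⊤ (ofHom u₀))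
  refine ⟨O, hO, h, m, ?_⟩
  rw [hm]
  exact congr($(IsIso.inv_hom_id (homPull ι F G)).app ⊤ (ofHom u₀))

theorem baseChange_of_lift {F G : X.Modules} {s : S} {u₀ : CohIII.fiberMod f F s ⟶ CohIII.fiberMod f G s}
    {W : X.Opens} {h : (⊤ : (f.fiber s).Opens) ≤ (f.fiberι s) ⁻¹ᵁ W} {m : Γ(homMod F G, W)}
    (hm : (homPull (f.fiberι s) F G).app ⊤ (puSecLE (f.fiberι s) (homMod F G) h m) = ofHom u₀)
    (z : f.fiber s) :
    letI := ((f.fiberι s).stalkMap z).hom.toAlgebra
    (Function.Injective ((DerSch.stalkFunctor (f.fiber s) z).map u₀).hom →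
      Function.Injective ((hVal m (f.fiberι s z) (h trivial)).baseChange ((f.fiber s).presheaf.stalk z))) ∧
    (Function.Surjective ((DerSch.stalkFunctor (f.fiber s) z).map u₀).hom →
      Function.Surjective ((hVal m (f.fiberι s z) (h trivial)).baseChange ((f.fiber s).presheaf.stalk z))) := by
  let := ((f.fiberι s).stalkMap z).hom.toAlgebra
  obtain ⟨L, L', -, -, hLL⟩ := exists_homPull_stalk (M := F) (P := G) (f.fiberι s) z
  have e := hLL W ⊤ h trivial m
  rw [hm, hVal_ofHom] at e
  rw [e]
  simp only [LinearMap.coe_comp, LinearEquiv.coe_coe]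
  exact ⟨fun hi => (Function.Injective.of_comp hi).of_comp_right L.symm.surjective,
    fun hs => (Function.Surjective.of_comp_left hs L'.injective).of_comp⟩

end CohCmpLib
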