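import Groth.Agent.CohCmpLib.PullZero
import Groth.Agent.RpushLib.Flasque

/-! Properties of the comparison maps: restriction, linearity, local bijectivity, bijectivity on
opens without higher cohomology. -/

set_option autoImplicit false
set_option maxHeartbeats 1000000

universe u

open CategoryTheory CategoryTheory.Limits AlgebraicGeometry TopologicalSpace Opposite
open QCohLib (toAbF HU)

namespace CohCmpLib

variable {X Y : Scheme.{u}}

instance enoughInjectives_modules : EnoughInjectives X.Modules :=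
  ModSiteLib.sheafOfModules_enoughInjectives (R := X.ringCatSheaf)

/-- An embedding into an injective module. -/
noncomputable abbrev injSeqM (F : X.Modules) : ShortComplex X.Modules :=
  ShortComplex.mk (Injective.ι F) (cokernel.π (Injective.ι F)) (cokernel.condition _)

theorem injSeqM_shortExact (F : X.Modules) : (injSeqM F).ShortExact where
  exact := ShortComplex.exact_of_g_is_cokernel _ (cokernelIsCokernel _)
  mono_f := inferInstanceAs (Mono (Injective.ι F))
  epi_g := inferInstanceAs (Epi (cokernel.π (Injective.ι F)))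

instance injective_injSeqM (F : X.Modules) : Injective (injSeqM F).X₂ :=
  inferInstanceAs (Injective (Injective.under F))

theorem subsingleton_HCo_injective (I : X.Modules) [Injective I] (U : X.Opens) (n : ℕ) :
    Subsingleton (HCo I U (n + 1)) := by
  have : TopCat.Sheaf.IsFlasque ((toAbF (U : Scheme.{u})).obj (I.restrict U.ι) :
      TopCat.Sheaf AddCommGrpCat.{u} (U : Scheme.{u}).toTopCat) :=
    ⟨fun {A B} i => (AddCommGrpCat.epi_iff_surjective _).mpr
      (RpushLib.surjective_map_injective I (U.ι.image_mono i.unop.le))⟩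
  have h := (QCohLib.subsingleton_H_iff ((toAbF (U : Scheme.{u})).obj (I.restrict U.ι)) (n + 1)).mpr
    (QCohLib.subsingleton_of_isFlasque n _ ⊤)
  exact h

theorem exists_hd_eq {S : ShortComplex X.Modules} (hS : S.ShortExact) [Injective S.X₂] (U : X.Opens)
    (p : ℕ) (x : HCo S.X₁ U (p + 1)) :
    ∃ z, hd (hS.map_of_exact (Scheme.Modules.restrictFunctor U.ι)) p z = x := by
  refine hd_exact₁ (hS.map_of_exact (Scheme.Modules.restrictFunctor U.ι)) p x ?_
  exact @Subsingleton.elim _ (subsingleton_HCo_injective S.X₂ U p) _ _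

theorem hres_hres {V V' V'' : X.Opens} (h : V' ≤ V) (h' : V'' ≤ V') (F : X.Modules) (p : ℕ)
    (x : HCo F V p) : hres F h' p (hres F h p x) = hres F (h'.trans h) p x := by
  induction p generalizing F with
  | zero =>
    obtain ⟨s, rfl⟩ := (sec0 F V).surjective x
    rw [hres_sec0, hres_sec0, hres_sec0, QCohLib.map_map', homOfLE_comp]
  | succ p ih =>
    have hS := injSeqM_shortExact F
    obtain ⟨z, rfl⟩ := exists_hd_eq hS V p x
    exact (congrArg _ (hres_hd h hS p z)).trans ((hres_hd h' hS p _).trans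
      ((congrArg _ (ih _ z)).trans (hres_hd (h'.trans h) hS p z).symm))

theorem hres_self {V : X.Opens} (h : V ≤ V) (F : X.Modules) (p : ℕ) (x : HCo F V p) :
    hres F h p x = x := by
  induction p generalizing F with
  | zero =>
    obtain ⟨s, rfl⟩ := (sec0 F V).surjective x
    rw [hres_sec0]
    exact congrArg (sec0 F V) congr($(F.presheaf.map_id (op V)) s)
  | succ p ih =>
    have hS := injSeqM_shortExact F
    obtain ⟨z, rfl⟩ := exists_hd_eq hS V p x
    exact (hres_hd h hS p z).trans (congrArg _ (ih _ z))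

theorem h0E_hs (M : X.Modules) (c : Coh.Γtop X) (x : HC X M 0) :
    h0E M (hs c M 0 x) = (show Γ(X, ⊤) from c) • h0E M x := by
  refine ((Sheaf.H.equiv₀_naturality isTerminalTop (Coh.smulAb M c) x).symm).trans ?_
  refine congrArg (fun a : Γ(X, ⊤) => a • h0E M x) ?_
  exact congr($(X.presheaf.map_id (op ⊤)) c)

theorem sec0_smul (F : X.Modules) (U : X.Opens) (a : Γ(X, U)) (s : Γ(F, U)) :
    sec0 F U (a • s) = hs (show Coh.Γtop (U : Scheme.{u}) from U.topIso.inv a) _ 0 (sec0 F U s) := by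
  apply (h0E (F.restrict U.ι)).injective
  rw [h0E_hs, h0E_sec0, h0E_sec0]
  refine (Scheme.Modules.map_smul F _ a s).trans ?_
  refine congrArg (fun b : Γ(X, U.ι ''ᵁ ⊤) => b • F.presheaf.map (homOfLE U.ι_image_top.le).op s) ?_
  change X.presheaf.map (homOfLE U.ι_image_top.le).op a = (U.ι.appIso ⊤).inv (U.topIso.inv a)
  rw [Scheme.Opens.ι_appIso]
  rfl

theorem subsingleton_X₂ {X : TopCat.{u}} {T : ShortComplex (QCohLib.AbSh X)} (hT : T.ShortExact) {n : ℕ}
    {U : Opens X} (h₁ : Subsingleton (HU T.X₁ n U)) (h₃ : Subsingleton (HU T.X₃ n U)) :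
    Subsingleton (HU T.X₂ n U) :=
  subsingleton_of_forall_eq 0 fun x => by
    obtain ⟨z, rfl⟩ := Abelian.Ext.covariant_sequence_exact₂ _ hT x (h₃.allEq _ _)
    rw [h₁.allEq z 0, Abelian.Ext.zero_comp]

section Sheaves

variable {M N : Y.Modules}

theorem exists_local_lift (φ : M ⟶ N) [Epi φ] {V : Y.Opens} (t : Γ(N, V)) {y : Y} (hy : y ∈ V) :
    ∃ (W : Y.Opens) (hW : W ≤ V), y ∈ W ∧ ∃ s : Γ(M, W), φ.app W s = N.presheaf.map (homOfLE hW).op t := by
  have hls := (Sheaf.isLocallySurjective_iff_epi' (φ := (toAbF Y).map φ)).mpr inferInstance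
  obtain ⟨W, hWV, ⟨s, hs⟩, hyW⟩ :=
    (TopCat.Presheaf.isLocallySurjective_iff ((toAbF Y).map φ).hom).mp hls V t y hy
  exact ⟨W, hWV, hyW, s, hs⟩

theorem exists_lift_kernel (φ : M ⟶ N) {V : Y.Opens} (t : Γ(M, V)) (ht : φ.app V t = 0) :
    ∃ k : Γ(kernel φ, V), (kernel.ι φ).app V k = t :=
  QCohLib.exists_of_app_eq_zero (S := ShortComplex.mk (kernel.ι φ) φ (kernel.condition φ))
    (ShortComplex.exact_of_f_is_kernel _ (kernelIsKernel φ)) inferInstance t ht

theorem epi_kernel_lift {S : ShortComplex Y.Modules} (h : S.Exact) : Epi (kernel.lift S.g S.f S.zero) :=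
  S.exact_iff_epi_kernel_lift.mp h

theorem exists_local_lift_of_exact {S : ShortComplex Y.Modules} (h : S.Exact) {V : Y.Opens}
    (t : Γ(S.X₂, V)) (ht : S.g.app V t = 0) {y : Y} (hy : y ∈ V) :
    ∃ (W : Y.Opens) (hW : W ≤ V), y ∈ W ∧
      ∃ s : Γ(S.X₁, W), S.f.app W s = S.X₂.presheaf.map (homOfLE hW).op t := by
  obtain ⟨k, rfl⟩ := exists_lift_kernel S.g t ht
  have := epi_kernel_lift h
  obtain ⟨W, hW, hyW, s, hs⟩ := exists_local_lift (kernel.lift S.g S.f S.zero) k hy
  refine ⟨W, hW, hyW, s, ?_⟩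
  rw [← QCohLib.app_map, ← hs]
  exact congr(Scheme.Modules.Hom.app $((kernel.lift_ι S.g S.f S.zero).symm) W s)

/-- No higher cohomology on an open. -/
def AcyOn (V : Y.Opens) (M : Y.Modules) : Prop :=
  ∀ n : ℕ, Subsingleton (HU ((toAbF Y).obj M) (n + 1) V)

theorem AcyOn.of_iso {V : Y.Opens} {M N : Y.Modules} (h : AcyOn V M) (e : M ≅ N) : AcyOn V N :=
  fun n => have := h n; QCohLib.subsingleton_of_iso ((toAbF Y).mapIso e)

theorem acyOn_of_isZero {V : Y.Opens} (h : IsZero M) : AcyOn V M := fun n =>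
  subsingleton_of_forall_eq 0 fun x => by
    rw [← Abelian.Ext.comp_mk₀_id x,
      (IsZero.iff_id_eq_zero _).mp ((toAbF Y).map_isZero h), Abelian.Ext.mk₀_zero, Abelian.Ext.comp_zero]

variable {V : Y.Opens} {S : ShortComplex Y.Modules} (hS : S.ShortExact)

include hS in
theorem AcyOn.third (h₁ : AcyOn V S.X₁) (h₂ : AcyOn V S.X₂) : AcyOn V S.X₃ := fun n => by
  have : Subsingleton (HU (S.map (toAbF Y)).X₂ (n + 1) V) := h₂ n
  have : Subsingleton (HU (S.map (toAbF Y)).X₁ (n + 1 + 1) V) := h₁ (n + 1)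
  exact QCohLib.subsingleton_X₃ (QCohLib.toAbF_shortExact hS)

include hS in
theorem AcyOn.middle (h₁ : AcyOn V S.X₁) (h₃ : AcyOn V S.X₃) : AcyOn V S.X₂ := fun n =>
  subsingleton_X₂ (QCohLib.toAbF_shortExact hS) (h₁ n) (h₃ n)

include hS in
theorem AcyOn.surjective_app (h₁ : AcyOn V S.X₁) : Function.Surjective (S.g.app V) := fun s => by
  have : Subsingleton (HU (S.map (toAbF Y)).X₁ 1 V) := h₁ 0
  exact QCohLib.exists_lift_of_subsingleton (S := S.map (toAbF Y)) (QCohLib.toAbF_shortExact hS) s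

end Sheaves

section Eps

variable {f : X ⟶ Y} [HasInjectiveResolutions X.Modules]
  {Δ : RDer.DerivedLES (Scheme.Modules.pushforward f)} (E : CohCmp.SectCmp f Δ)

/-- The comparison map. -/
noncomputable def eps (V : Y.Opens) (F : X.Modules) (p : ℕ) :
    HCo F (f ⁻¹ᵁ V) p →+ Γ((Coh.Rpush f p).obj F, V) := E.ε V F p

theorem eps_sec0 (V : Y.Opens) (F : X.Modules) (s : Γ(F, f ⁻¹ᵁ V)) :
    eps E V F 0 (sec0 F _ s) = ((Scheme.Modules.pushforward f).toRightDerivedZero.app F).app V s :=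
  E.zero V F s

theorem eps_natural (V : Y.Opens) {F G : X.Modules} (ψ : F ⟶ G) (p : ℕ) (x : HCo F (f ⁻¹ᵁ V) p) :
    eps E V G p (hm ((Scheme.Modules.restrictFunctor (f ⁻¹ᵁ V).ι).map ψ) p x) =
      ((Coh.Rpush f p).map ψ).app V (eps E V F p x) :=
  E.natural V ψ p x

theorem eps_hd (V : Y.Opens) {S : ShortComplex X.Modules} (hS : S.ShortExact) (p : ℕ)
    (x : HCo S.X₃ (f ⁻¹ᵁ V) p) :
    eps E V S.X₁ (p + 1) (hd (hS.map_of_exact (Scheme.Modules.restrictFunctor (f ⁻¹ᵁ V).ι)) p x) =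
      (Δ.δ S hS p (p + 1) rfl).app V (eps E V S.X₃ p x) :=
  E.delta V S hS (QCohLib.toAbF_shortExact (hS.map_of_exact (Scheme.Modules.restrictFunctor (f ⁻¹ᵁ V).ι))) p x

instance preservesFiniteLimits_push : PreservesFiniteLimits (Scheme.Modules.pushforward f) :=
  have := (Scheme.Modules.pullbackPushforwardAdjunction f).rightAdjoint_preservesLimits
  inferInstance

theorem eps_bijective_zero (V : Y.Opens) (F : X.Modules) : Function.Bijective (eps E V F 0) := by
  have h : Function.Bijective (((Scheme.Modules.pushforward f).toRightDerivedZero.app F).app V) :=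
    ConcreteCategory.bijective_of_isIso _
  have e : eps E V F 0 ∘ sec0 F (f ⁻¹ᵁ V) =
      ((Scheme.Modules.pushforward f).toRightDerivedZero.app F).app V := funext (eps_sec0 E V F)
  exact (Function.Bijective.of_comp_iff _ (sec0 F (f ⁻¹ᵁ V)).bijective).mp (e ▸ h)

theorem eps_hres {V V' : Y.Opens} (h : V' ≤ V) (F : X.Modules) (p : ℕ) (x : HCo F (f ⁻¹ᵁ V) p) :
    eps E V' F p (hres F (f.preimage_mono h) p x) =
      ((Coh.Rpush f p).obj F).presheaf.map (homOfLE h).op (eps E V F p x) := by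
  induction p generalizing F with
  | zero =>
    obtain ⟨s, rfl⟩ := (sec0 F (f ⁻¹ᵁ V)).surjective x
    rw [hres_sec0, eps_sec0, eps_sec0]
    exact QCohLib.app_map ((Scheme.Modules.pushforward f).toRightDerivedZero.app F) (homOfLE h) s
  | succ p ih =>
    have hS := injSeqM_shortExact F
    obtain ⟨z, rfl⟩ := exists_hd_eq hS (f ⁻¹ᵁ V) p x
    refine (congrArg _ (hres_hd (f.preimage_mono h) hS p z)).trans ((eps_hd E V' hS p _).trans ?_)
    refine (congrArg _ (ih _ z)).trans ((QCohLib.app_map _ (homOfLE h) _).trans ?_)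
    exact congrArg _ (eps_hd E V hS p z).symm

theorem eps_hs (V : Y.Opens) (F : X.Modules) (p : ℕ) (r : Γ(Y, V)) (x : HCo F (f ⁻¹ᵁ V) p) :
    eps E V F p (hs (show Coh.Γtop (f ⁻¹ᵁ V : Scheme.{u}) from (f ⁻¹ᵁ V).topIso.inv (f.app V r)) _ p x) =
      r • eps E V F p x := by
  induction p generalizing F with
  | zero =>
    obtain ⟨s, rfl⟩ := (sec0 F (f ⁻¹ᵁ V)).surjective x
    rw [← sec0_smul, eps_sec0, eps_sec0]
    exact ((Scheme.Modules.pushforward f).toRightDerivedZero.app F).app_smul r s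
  | succ p ih =>
    have hS := injSeqM_shortExact F
    obtain ⟨z, rfl⟩ := exists_hd_eq hS (f ⁻¹ᵁ V) p x
    refine (congrArg _ (hd_hs _ _ p z).symm).trans ((eps_hd E V hS p _).trans ?_)
    refine (congrArg _ (ih _ z)).trans (((Δ.δ (injSeqM F) hS p (p + 1) rfl).app_smul r _).trans ?_)
    exact congrArg _ (eps_hd E V hS p z).symm

theorem epi_delta {S : ShortComplex X.Modules} (hS : S.ShortExact) [Injective S.X₂] (p : ℕ) :
    Epi (Δ.δ S hS p (p + 1) rfl) :=
  (ShortComplex.exact_iff_epi _ (Functor.isZero_rightDerived_obj_injective_succ _ p S.X₂ |>.eq_of_tgt _ _)).mp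
    (Δ.exact₁ S hS p (p + 1) rfl)

theorem eps_locally_surjective (p : ℕ) (F : X.Modules) (V : Y.Opens)
    (t : Γ((Coh.Rpush f p).obj F, V)) {y : Y} (hy : y ∈ V) :
    ∃ (W : Y.Opens) (hW : W ≤ V), y ∈ W ∧ ∃ x : HCo F (f ⁻¹ᵁ W) p,
      eps E W F p x = ((Coh.Rpush f p).obj F).presheaf.map (homOfLE hW).op t := by
  induction p generalizing F V y with
  | zero => exact ⟨V, le_rfl, hy, (eps_bijective_zero E V F).2 _⟩
  | succ p ih =>
    have hS := injSeqM_shortExact F
    have := epi_delta (Δ := Δ) hS p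
    obtain ⟨W, hW, hyW, s, hs⟩ := exists_local_lift (Δ.δ (injSeqM F) hS p (p + 1) rfl) t hy
    obtain ⟨W', hW', hyW', z, hz⟩ := ih _ W s hyW
    refine ⟨W', hW'.trans hW, hyW', hd (hS.map_of_exact _) p z, ?_⟩
    refine (eps_hd E W' hS p z).trans ((congrArg _ hz).trans ((QCohLib.app_map _ _ _).trans ?_))
    exact (congrArg _ hs).trans (QCohLib.map_map' _ _ _ _)

theorem eps_locally_injective (p : ℕ) (F : X.Modules) (V : Y.Opens) (x : HCo F (f ⁻¹ᵁ V) p)
    (hx : eps E V F p x = 0) {y : Y} (hy : y ∈ V) :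
    ∃ (W : Y.Opens) (hW : W ≤ V), y ∈ W ∧ hres F (f.preimage_mono hW) p x = 0 := by
  induction p generalizing F V y with
  | zero =>
    refine ⟨V, le_rfl, hy, ?_⟩
    rw [(eps_bijective_zero E V F).1 (hx.trans (map_zero _).symm), map_zero]
  | succ p ih =>
    have hS := injSeqM_shortExact F
    obtain ⟨z, rfl⟩ := exists_hd_eq hS (f ⁻¹ᵁ V) p x
    obtain ⟨W, hW, hyW, t, ht⟩ := exists_local_lift_of_exact (Δ.exact₃ (injSeqM F) hS p (p + 1) rfl)
      (eps E V _ p z) ((eps_hd E V hS p z).symm.trans hx) hy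
    obtain ⟨W', hW', hyW', w, hw⟩ := eps_locally_surjective E p _ W t hyW
    let w' := hm ((Scheme.Modules.restrictFunctor (f ⁻¹ᵁ W').ι).map (injSeqM F).g) p w
    obtain ⟨W'', hW'', hyW'', h0⟩ := ih _ W' (hres _ (f.preimage_mono (hW'.trans hW)) p z - w') (by
      rw [map_sub, sub_eq_zero]
      refine (eps_hres E (hW'.trans hW) _ p z).trans ?_
      refine Eq.trans ?_ (eps_natural E W' (injSeqM F).g p w).symm
      refine Eq.trans ?_ (congrArg _ hw).symm
      refine Eq.trans ?_ (QCohLib.app_map _ (homOfLE hW') t).symm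
      refine Eq.trans ?_ (congrArg _ ht).symm
      exact (QCohLib.map_map' _ (homOfLE hW') (homOfLE hW) _).symm) hyW'
    refine ⟨W'', hW''.trans (hW'.trans hW), hyW'', ?_⟩
    rw [map_sub, sub_eq_zero] at h0
    replace h0 := (hres_hres _ _ _ p z).symm.trans h0
    refine (hres_hd _ hS p z).trans ((congrArg _ (h0.trans (hres_natural _ _ p w).symm)).trans ?_)
    exact hm_g_hd (hS.map_of_exact (Scheme.Modules.restrictFunctor (f ⁻¹ᵁ W'').ι)) p (hres _ (f.preimage_mono hW'') p w)

theorem acyOn_rpush_zero_injective (I : X.Modules) [Injective I] (V : Y.Opens) :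
    AcyOn V ((Coh.Rpush f 0).obj I) := by
  refine AcyOn.of_iso (M := (Scheme.Modules.pushforward f).obj I) ?_
    (asIso ((Scheme.Modules.pushforward f).toRightDerivedZero.app I))
  intro n
  have : TopCat.Sheaf.IsFlasque ((toAbF Y).obj ((Scheme.Modules.pushforward f).obj I) :
      TopCat.Sheaf AddCommGrpCat.{u} Y.toTopCat) :=
    ⟨fun {A B} i => (AddCommGrpCat.epi_iff_surjective _).mpr
      (RpushLib.surjective_map_injective I (f.preimage_mono i.unop.le))⟩
  exact QCohLib.subsingleton_of_isFlasque n _ V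

theorem isIso_delta {S : ShortComplex X.Modules} (hS : S.ShortExact) [Injective S.X₂] (j : ℕ) :
    IsIso (Δ.δ S hS (j + 1) (j + 2) rfl) := by
  have := epi_delta (Δ := Δ) hS (j + 1)
  have : Mono (Δ.δ S hS (j + 1) (j + 2) rfl) :=
    (ShortComplex.exact_iff_mono _ ((Functor.isZero_rightDerived_obj_injective_succ _ j S.X₂).eq_of_src _ _)).mp
      (Δ.exact₃ S hS (j + 1) (j + 2) rfl)
  exact isIso_of_mono_of_epi _

/-- The image part of the beginning of the long exact sequence. -/
noncomputable abbrev imSeq {S : ShortComplex X.Modules} (hS : S.ShortExact) : ShortComplex Y.Modules :=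
  ShortComplex.mk ((Coh.Rpush f 0).map S.f)
    (kernel.lift (Δ.δ S hS 0 1 rfl) ((Coh.Rpush f 0).map S.g) (Δ.comp_δ S hS 0 1 rfl)) (by
      rw [← cancel_mono (kernel.ι (Δ.δ S hS 0 1 rfl)), Category.assoc, kernel.lift_ι, zero_comp,
        ← Functor.map_comp, S.zero, Functor.map_zero])

theorem imSeq_shortExact {S : ShortComplex X.Modules} (hS : S.ShortExact) :
    (imSeq (Δ := Δ) hS).ShortExact := by
  refine { exact := ?_, mono_f := ?_, epi_g := epi_kernel_lift (Δ.exact₃ _ hS 0 1 rfl) }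
  · let ψ : imSeq (Δ := Δ) hS ⟶ ShortComplex.mk ((Coh.Rpush f 0).map S.f) ((Coh.Rpush f 0).map S.g)
        (by rw [← Functor.map_comp, S.zero, Functor.map_zero]) :=
      { τ₁ := 𝟙 _, τ₂ := 𝟙 _, τ₃ := kernel.ι (Δ.δ S hS 0 1 rfl),
        comm₁₂ := (Category.id_comp _).trans (Category.comp_id _).symm,
        comm₂₃ := ((kernel.lift_ι _ _ _).trans (Category.id_comp _).symm).symm }
    exact (ShortComplex.exact_iff_of_epi_of_isIso_of_mono ψ).mpr (Δ.exact₂ _ hS 0)
  · have := hS.mono_f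
    have e : (Scheme.Modules.pushforward f).toRightDerivedZero.app _ ≫ (Coh.Rpush f 0).map S.f =
        (Scheme.Modules.pushforward f).map S.f ≫ (Scheme.Modules.pushforward f).toRightDerivedZero.app _ :=
      ((Scheme.Modules.pushforward f).toRightDerivedZero.naturality _).symm
    exact (MorphismProperty.cancel_left_of_respectsIso (MorphismProperty.monomorphisms _) _ _).mp
      (show Mono _ by rw [e]; infer_instance)

/-- The end of the four-term sequence. -/
noncomputable abbrev deltaSeq {S : ShortComplex X.Modules} (hS : S.ShortExact) : ShortComplex Y.Modules :=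
  ShortComplex.mk (kernel.ι (Δ.δ S hS 0 1 rfl)) (Δ.δ S hS 0 1 rfl) (kernel.condition _)

theorem deltaSeq_shortExact {S : ShortComplex X.Modules} (hS : S.ShortExact) [Injective S.X₂] :
    (deltaSeq (Δ := Δ) hS).ShortExact :=
  have := epi_delta (Δ := Δ) hS 0
  { exact := ShortComplex.exact_of_f_is_kernel _ (kernelIsKernel _), mono_f := inferInstance,
    epi_g := inferInstance }

section Shift

variable {S : ShortComplex X.Modules} (hS : S.ShortExact) [Injective S.X₂] {V : Y.Opens}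
  (h : ∀ j, AcyOn V ((Coh.Rpush f j).obj S.X₁))

include hS h in
theorem acyOn_image : AcyOn V (kernel (Δ.δ S hS 0 1 rfl)) :=
  AcyOn.third (S := imSeq (Δ := Δ) hS) (imSeq_shortExact hS) (h 0) (acyOn_rpush_zero_injective S.X₂ V)

include Δ hS h in
theorem acyOn_rpush_quotient (j : ℕ) : AcyOn V ((Coh.Rpush f j).obj S.X₃) := by
  rcases j with _ | j
  · exact AcyOn.middle (S := deltaSeq (Δ := Δ) hS) (deltaSeq_shortExact hS) (acyOn_image hS h) (h 1)
  · have := isIso_delta (Δ := Δ) hS j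
    exact (h (j + 2)).of_iso (asIso (Δ.δ S hS (j + 1) (j + 2) rfl)).symm

include hS h in
theorem surjective_delta_app (p : ℕ) : Function.Surjective ((Δ.δ S hS p (p + 1) rfl).app V) := by
  rcases p with _ | j
  · exact AcyOn.surjective_app (S := deltaSeq (Δ := Δ) hS) (deltaSeq_shortExact hS) (acyOn_image hS h)
  · have := isIso_delta (Δ := Δ) hS j
    exact (ConcreteCategory.bijective_of_isIso ((Δ.δ S hS (j + 1) (j + 2) rfl).app V)).2

include hS h in
theorem exists_of_delta_app_eq_zero (p : ℕ) (s : Γ((Coh.Rpush f p).obj S.X₃, V))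
    (hs : (Δ.δ S hS p (p + 1) rfl).app V s = 0) :
    ∃ t, ((Coh.Rpush f p).map S.g).app V t = s := by
  rcases p with _ | j
  · obtain ⟨k, rfl⟩ := exists_lift_kernel (Δ.δ S hS 0 1 rfl) s hs
    obtain ⟨t, rfl⟩ := AcyOn.surjective_app (S := imSeq (Δ := Δ) hS) (imSeq_shortExact hS) (h 0) k
    exact ⟨t, congr(Scheme.Modules.Hom.app
      $((kernel.lift_ι (Δ.δ S hS 0 1 rfl) ((Coh.Rpush f 0).map S.g) (Δ.comp_δ _ hS 0 1 rfl)).symm) V t)⟩
  · have := isIso_delta (Δ := Δ) hS j
    refine ⟨0, ?_⟩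
    rw [map_zero]
    exact ((ConcreteCategory.bijective_of_isIso ((Δ.δ S hS (j + 1) (j + 2) rfl).app V)).1
      (hs.trans (map_zero _).symm)).symm

end Shift

end Eps

end CohCmpLib
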