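import Groth.Prelude.Def_CohCmp
import Groth.Agent.AtlasCohLib.FiniteCoh

/-! Cohomology groups bundled as objects (this keeps kernel checking of the instances cheap). -/

set_option autoImplicit false
set_option maxHeartbeats 1000000

universe u

open CategoryTheory CategoryTheory.Limits AlgebraicGeometry TopologicalSpace Opposite
open QCohLib (toAbF)

namespace CohCmpLib

variable {X Y : Scheme.{u}}

/-- `H^p(X, M)`. -/
noncomputable def HC (X : Scheme.{u}) (M : X.Modules) (p : ℕ) : AddCommGrpCat.{u} :=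
  AddCommGrpCat.of (Coh.HH X M p)

/-- `H^p(U, M|_U)`. -/
noncomputable abbrev HCo (M : X.Modules) (U : X.Opens) (p : ℕ) : AddCommGrpCat.{u} :=
  HC (U : Scheme.{u}) (M.restrict U.ι) p

/-- Functoriality. -/
noncomputable def hm {M N : X.Modules} (φ : M ⟶ N) (p : ℕ) : HC X M p →+ HC X N p := CohPull.mapH φ p

/-- The connecting map. -/
noncomputable def hd {S : ShortComplex X.Modules} (hS : S.ShortExact) (p : ℕ) :
    HC X S.X₃ p →+ HC X S.X₁ (p + 1) := AtlasCoh.hδ (QCohLib.toAbF_shortExact hS) p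

/-- Global functions act. -/
noncomputable def hs (r : Coh.Γtop X) (M : X.Modules) (p : ℕ) : HC X M p →+ HC X M p :=
  Sheaf.H.map (Coh.smulAb M r) p

theorem hs_apply (r : Coh.Γtop X) (M : X.Modules) (p : ℕ) (x : Coh.HH X M p) :
    hs r M p x = (r • x : Coh.HH X M p) := rfl

/-- Degree zero. -/
noncomputable def h0E (M : X.Modules) : HC X M 0 ≃+ Γ(M, ⊤) :=
  Sheaf.H.equiv₀ (Coh.toAb M) (isTerminalTop : IsTerminal (⊤ : Opens X))

/-- Pullback of classes. -/
noncomputable def hp (g : X ⟶ Y) (M : Y.Modules) (p : ℕ) :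
    HC Y M p →+ HC X ((Scheme.Modules.pullback g).obj M) p := CohPull.pullMod g M p

/-- Pullback of classes over opens. -/
noncomputable def hpo (g : X ⟶ Y) {U : Y.Opens} {U' : X.Opens} (h : U' ≤ g ⁻¹ᵁ U) (M : Y.Modules)
    (p : ℕ) : HCo M U p →+ HCo ((Scheme.Modules.pullback g).obj M) U' p :=
  CohPull.pullOn g U U' h M p

/-- Restriction between opens. -/
noncomputable def hres (M : X.Modules) {U U' : X.Opens} (h : U' ≤ U) (p : ℕ) :
    HCo M U p →+ HCo M U' p := CohPull.resLE M h p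

/-- The class of a section. -/
noncomputable def sec0 (M : X.Modules) (U : X.Opens) : Γ(M, U) ≃+ HCo M U 0 := CohPull.sectH0 M U

theorem hm_id (M : X.Modules) (p : ℕ) (x : HC X M p) : hm (𝟙 M) p x = x := by
  change Sheaf.H.map ((toAbF X).map (𝟙 M)) p x = x
  exact (congrArg (fun t => Sheaf.H.map t p (show Coh.HH X M p from x)) ((toAbF X).map_id M)).trans
    (Sheaf.H.map_id_apply (F := (toAbF X).obj M) (show Coh.HH X M p from x))

theorem hm_comp {M N P : X.Modules} (φ : M ⟶ N) (ψ : N ⟶ P) (p : ℕ) (x : HC X M p) :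
    hm (φ ≫ ψ) p x = hm ψ p (hm φ p x) := by
  change Sheaf.H.map ((toAbF X).map (φ ≫ ψ)) p x = _
  exact (congrArg (fun t => Sheaf.H.map t p (show Coh.HH X M p from x)) ((toAbF X).map_comp φ ψ)).trans
    (Sheaf.H.map_comp_apply _ _ _)

theorem hm_hs {M N : X.Modules} (φ : M ⟶ N) (r : Coh.Γtop X) (p : ℕ) (x : HC X M p) :
    hm φ p (hs r M p x) = hs r N p (hm φ p x) :=
  (Sheaf.H.map_comp_apply _ _ _).symm.trans
    ((congrArg (fun t => Sheaf.H.map t p x) (AtlasCoh.smulAb_natural φ r)).trans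
      (Sheaf.H.map_comp_apply _ _ _))

open CategoryTheory.Abelian in
theorem hδ_map {S T : ShortComplex (QCohLib.AbSh X.toTopCat)} (hS : S.ShortExact) (hT : T.ShortExact)
    (φ : S ⟶ T) (p : ℕ) (x : Sheaf.H S.X₃ p) :
    AtlasCoh.hδ hT p (Sheaf.H.map φ.τ₃ p x) = Sheaf.H.map φ.τ₁ (p + 1) (AtlasCoh.hδ hS p x) := by
  change (Ext.comp x (Ext.mk₀ φ.τ₃) (add_zero p)).comp hT.extClass rfl =
    (Ext.comp x hS.extClass rfl).comp (Ext.mk₀ φ.τ₁) (add_zero (p + 1))
  rw [Ext.comp_assoc_of_second_deg_zero, ← ShortComplex.ShortExact.extClass_naturality hS hT φ,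
    Ext.comp_assoc_of_third_deg_zero]

theorem hd_natural {S T : ShortComplex X.Modules} (hS : S.ShortExact) (hT : T.ShortExact) (φ : S ⟶ T)
    (p : ℕ) (x : HC X S.X₃ p) : hd hT p (hm φ.τ₃ p x) = hm φ.τ₁ (p + 1) (hd hS p x) :=
  hδ_map (QCohLib.toAbF_shortExact hS) (QCohLib.toAbF_shortExact hT)
    ((toAbF X).mapShortComplex.map φ) p x

theorem hd_hs {S : ShortComplex X.Modules} (hS : S.ShortExact) (r : Coh.Γtop X) (p : ℕ)
    (x : HC X S.X₃ p) : hd hS p (hs r S.X₃ p x) = hs r S.X₁ (p + 1) (hd hS p x) :=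
  AtlasCoh.hδ_natural (QCohLib.toAbF_shortExact hS) (AtlasCoh.smulSeq S r) p x

theorem h0E_hm {M N : X.Modules} (φ : M ⟶ N) (s : HC X M 0) : h0E N (hm φ 0 s) = φ.app ⊤ (h0E M s) :=
  (Sheaf.H.equiv₀_naturality isTerminalTop ((toAbF X).map φ) s).symm

theorem hd_exact₁ {S : ShortComplex X.Modules} (hS : S.ShortExact) (p : ℕ) (y : HC X S.X₁ (p + 1))
    (hy : hm S.f (p + 1) y = 0) : ∃ x, hd hS p x = y :=
  AtlasCoh.hExact₁ (QCohLib.toAbF_shortExact hS) p y hy

theorem hd_exact₂ {S : ShortComplex X.Modules} (hS : S.ShortExact) (p : ℕ) (y : HC X S.X₂ p)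
    (hy : hm S.g p y = 0) : ∃ x, hm S.f p x = y :=
  AtlasCoh.hExact₂ (QCohLib.toAbF_shortExact hS) p y hy

theorem hd_exact₃ {S : ShortComplex X.Modules} (hS : S.ShortExact) (p : ℕ) (y : HC X S.X₃ p)
    (hy : hd hS p y = 0) : ∃ x, hm S.g p x = y :=
  AtlasCoh.hExact₃ (QCohLib.toAbF_shortExact hS) p y hy

open CategoryTheory.Abelian in
theorem hm_g_hd {S : ShortComplex X.Modules} (hS : S.ShortExact) (p : ℕ) (x : HC X S.X₂ p) :
    hd hS p (hm S.g p x) = 0 := by
  change (Ext.comp x (Ext.mk₀ ((toAbF X).map S.g)) (add_zero p)).comp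
    (QCohLib.toAbF_shortExact hS).extClass rfl = 0
  rw [Ext.comp_assoc_of_second_deg_zero]
  exact (congrArg (fun t => Ext.comp x t (rfl : p + 1 = p + 1))
    (QCohLib.toAbF_shortExact hS).comp_extClass).trans (Ext.comp_zero ..)

theorem hm_f_injective {S : ShortComplex X.Modules} (hS : S.ShortExact) :
    Function.Injective (hm S.f 0) :=
  AtlasCoh.hMap_injective (QCohLib.toAbF_shortExact hS)

end CohCmpLib
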