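import Groth.Agent.ProjFormLib.Frame
import Groth.Agent.GrTildeLib.TensLift

/-!
The sheaf of homomorphisms of two modules on a scheme, as families of linear maps of stalks.
-/

set_option autoImplicit false
set_option maxRecDepth 8000

noncomputable section

universe u

open CategoryTheory CategoryTheory.Limits AlgebraicGeometry TopologicalSpace Opposite
open scoped TensorProduct
open ProjFormLib (ger res ger_res ger_smul ger_add ger_map exists_ger section_ext IsFrame)
open KFlatLib (tens shTm stalkTensorLin)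

namespace CohCmpLib

variable {X : Scheme.{u}}

/-- The stalk of a module as a module over the local ring. -/
abbrev stk (M : X.Modules) (y : X) : ModuleCat.{u} (X.presheaf.stalk y) := (DerSch.stalkFunctor X y).obj M

theorem ger_zero (M : X.Modules) (y : X) {U : X.Opens} (hy : y ∈ U) : ger M y hy (0 : Γ(M, U)) = 0 :=
  map_zero (M.presheaf.germ U y hy).hom

theorem ger_neg (M : X.Modules) (y : X) {U : X.Opens} (hy : y ∈ U) (s : Γ(M, U)) :
    ger M y hy (-s) = -ger M y hy s :=
  map_neg (M.presheaf.germ U y hy).hom s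

theorem ger_sum (M : X.Modules) (y : X) {U : X.Opens} (hy : y ∈ U) {ι : Type*} (t : Finset ι) (s : ι → Γ(M, U)) :
    ger M y hy (∑ i ∈ t, s i) = ∑ i ∈ t, ger M y hy (s i) :=
  map_sum (M.presheaf.germ U y hy).hom s t

/-- Families of germs which are locally germs of sections come from a section. -/
theorem exists_section_of_germs (M : X.Modules) {V : X.Opens} (a : ∀ y : V, stk M y.1)
    (h : ∀ y : V, ∃ (W : X.Opens) (hW : W ≤ V), y.1 ∈ W ∧ ∃ t : Γ(M, W),
      ∀ z (hz : z ∈ W), ger M z hz t = a ⟨z, hW hz⟩) :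
    ∃ t : Γ(M, V), ∀ z (hz : z ∈ V), ger M z hz t = a ⟨z, hz⟩ := by
  choose W hW hyW t ht using h
  let S : TopCat.Sheaf AddCommGrpCat.{u} X.toTopCat := (QCohLib.toAbF X).obj M
  have hc : ∀ y z, res M (inf_le_left : W y ⊓ W z ≤ W y) (t y) = res M (inf_le_right : W y ⊓ W z ≤ W z) (t z) :=
    fun y z => section_ext _ _ fun w hw => by rw [ger_res, ger_res, ht, ht]
  obtain ⟨g, hg, -⟩ := TopCat.Sheaf.existsUnique_gluing' S W V (fun y => homOfLE (hW y))
    (fun y hy => Opens.mem_iSup.2 ⟨⟨y, hy⟩, hyW _⟩) t hc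
  refine ⟨g, fun z hz => ?_⟩
  rw [← ger_res M (hW ⟨z, hz⟩) z (hyW _) g, show res M (hW ⟨z, hz⟩) g = t ⟨z, hz⟩ from hg ⟨z, hz⟩, ht]

variable (M P : X.Modules)

/-- Families of linear maps of stalks sending sections to sections. -/
def homSec (W : X.Opens) : AddSubgroup (∀ y : W, stk M y.1 →ₗ[X.presheaf.stalk y.1] stk P y.1) where
  carrier := {s | ∀ (V : X.Opens) (h : V ≤ W) (m : Γ(M, V)), ∃ p : Γ(P, V),
    ∀ y (hy : y ∈ V), ger P y hy p = s ⟨y, h hy⟩ (ger M y hy m)}
  zero_mem' := fun V _ m => ⟨0, fun y hy => ger_zero P y hy⟩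
  add_mem' := fun {s t} hs ht V h m => by
    obtain ⟨p, hp⟩ := hs V h m
    obtain ⟨q, hq⟩ := ht V h m
    exact ⟨p + q, fun y hy => by rw [ger_add, hp y hy, hq y hy]; rfl⟩
  neg_mem' := fun {s} hs V h m => by
    obtain ⟨p, hp⟩ := hs V h m
    exact ⟨-p, fun y hy => by rw [ger_neg, hp y hy]; rfl⟩

instance homSecSMul (U : (Opens X)ᵒᵖ) : SMul (X.ringCatSheaf.obj.obj U) (homSec M P U.unop) :=
  ⟨fun r s => ⟨fun y => X.presheaf.germ U.unop y.1 y.2 (show Γ(X, U.unop) from r) • s.1 y, fun V h m => by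
    obtain ⟨p, hp⟩ := s.2 V h m
    refine ⟨(show Γ(X, V) from X.presheaf.map (homOfLE h).op (show Γ(X, U.unop) from r)) • p, fun y hy => ?_⟩
    rw [ger_smul, hp y hy, TopCat.Presheaf.germ_res_apply]
    rfl⟩⟩

theorem homSec_smul_val (U : (Opens X)ᵒᵖ) (r : X.ringCatSheaf.obj.obj U) (s : homSec M P U.unop) (y : U.unop) :
    (r • s).1 y = X.presheaf.germ U.unop y.1 y.2 (show Γ(X, U.unop) from r) • s.1 y := rfl

instance homSecModule (U : (Opens X)ᵒᵖ) : Module (X.ringCatSheaf.obj.obj U) (homSec M P U.unop) where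
  one_smul s := Subtype.ext (funext fun y => by
    rw [homSec_smul_val]
    exact (congrArg (· • s.1 y) (map_one (X.presheaf.germ U.unop y.1 y.2).hom)).trans (one_smul _ _))
  mul_smul a b s := Subtype.ext (funext fun y => by
    rw [homSec_smul_val, homSec_smul_val, homSec_smul_val]
    exact (congrArg (· • s.1 y) (map_mul (X.presheaf.germ U.unop y.1 y.2).hom _ _)).trans (mul_smul _ _ _))
  smul_zero r := Subtype.ext (funext fun y => by rw [homSec_smul_val]; exact smul_zero _)
  smul_add r s t := Subtype.ext (funext fun y => by rw [homSec_smul_val]; exact smul_add _ _ _)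
  add_smul a b s := Subtype.ext (funext fun y => by
    rw [homSec_smul_val]
    exact (congrArg (· • s.1 y) (map_add (X.presheaf.germ U.unop y.1 y.2).hom _ _)).trans (add_smul _ _ _))
  zero_smul s := Subtype.ext (funext fun y => by
    rw [homSec_smul_val]
    exact (congrArg (· • s.1 y) (map_zero (X.presheaf.germ U.unop y.1 y.2).hom)).trans (zero_smul _ _))

/-- The underlying presheaf. -/
def homAb : TopCat.Presheaf AddCommGrpCat.{u} X.toTopCat where
  obj U := AddCommGrpCat.of (homSec M P U.unop)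
  map {U V} i := AddCommGrpCat.ofHom
    { toFun := fun s => ⟨fun y => s.1 ⟨y.1, i.unop.le y.2⟩, fun T h m => s.2 T (h.trans i.unop.le) m⟩
      map_zero' := rfl
      map_add' := fun _ _ => rfl }
  map_id U := rfl
  map_comp i j := rfl

instance homAbModule (U : (Opens X)ᵒᵖ) : Module (X.ringCatSheaf.obj.obj U) ((homAb M P).obj U) :=
  homSecModule M P U

theorem homAb_map_smul {U V : (Opens X)ᵒᵖ} (i : U ⟶ V) (r : X.ringCatSheaf.obj.obj U) (s : (homAb M P).obj U) :
    (homAb M P).map i (r • s) = X.ringCatSheaf.obj.map i r • (homAb M P).map i s := by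
  refine Subtype.ext (funext fun y => ?_)
  exact (congrArg (· • (show homSec M P U.unop from s).1 ⟨y.1, i.unop.le y.2⟩)
    (TopCat.Presheaf.germ_res_apply X.presheaf i.unop y.1 y.2 (show Γ(X, U.unop) from r))).symm

theorem homAb_isSheaf : TopCat.Presheaf.IsSheaf (homAb M P) := by
  classical
  rw [TopCat.Presheaf.isSheaf_iff_isSheafUniqueGluing]
  intro ι U sf hsf
  let f : ∀ i, homSec M P (U i) := fun i => sf i
  have hf : ∀ i j y (hi : y ∈ U i) (hj : y ∈ U j), (f i).1 ⟨y, hi⟩ = (f j).1 ⟨y, hj⟩ := fun i j y hi hj =>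
    congr_fun (congrArg Subtype.val (hsf i j)) ⟨y, hi, hj⟩
  choose idx hidx using fun y : (iSup U : X.Opens) => Opens.mem_iSup.1 y.2
  let g : ∀ y : (iSup U : X.Opens), stk M y.1 →ₗ[X.presheaf.stalk y.1] stk P y.1 := fun y =>
    (f (idx y)).1 ⟨y.1, hidx y⟩
  have hg : g ∈ homSec M P (iSup U) := fun V h m => by
    refine exists_section_of_germs P (fun y : V => g ⟨y.1, h y.2⟩ (ger M y.1 y.2 m)) fun y => ?_
    let i := idx ⟨y.1, h y.2⟩
    obtain ⟨p, hp⟩ := (f i).2 (V ⊓ U i) inf_le_right (res M inf_le_left m)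
    refine ⟨V ⊓ U i, inf_le_left, ⟨y.2, hidx ⟨y.1, h y.2⟩⟩, p, fun z hz => ?_⟩
    rw [hp z hz, ger_res]
    exact congrArg (fun L => L (ger M z hz.1 m)) (hf _ _ z hz.2 (hidx ⟨z, h hz.1⟩))
  refine ⟨⟨g, hg⟩, fun i => Subtype.ext (funext fun y => hf _ i y.1 _ y.2), fun s hs => Subtype.ext (funext fun y => ?_)⟩
  exact congr_fun (congrArg Subtype.val (hs (idx y))) ⟨y.1, hidx y⟩

/-- The sheaf of homomorphisms. -/
def homMod : X.Modules :=
  { val := PresheafOfModules.ofPresheaf (R := X.ringCatSheaf.obj) (homAb M P)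
      (fun _ _ i r s => homAb_map_smul M P i r s)
    isSheaf := homAb_isSheaf M P }

variable {M P}

/-- The linear map of stalks given by a section of the sheaf of homomorphisms. -/
def hVal {W : X.Opens} (h : Γ(homMod M P, W)) (y : X) (hy : y ∈ W) :
    stk M y →ₗ[X.presheaf.stalk y] stk P y :=
  (show homSec M P W from h).1 ⟨y, hy⟩

theorem hVal_res {V W : X.Opens} (hVW : V ≤ W) (h : Γ(homMod M P, W)) (y : X) (hy : y ∈ V) :
    hVal (res (homMod M P) hVW h) y hy = hVal h y (hVW hy) := rfl

theorem hVal_smul {W : X.Opens} (r : Γ(X, W)) (h : Γ(homMod M P, W)) (y : X) (hy : y ∈ W) :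
    hVal (r • h) y hy = X.presheaf.germ W y hy r • hVal h y hy := rfl

theorem hVal_add {W : X.Opens} (h h' : Γ(homMod M P, W)) (y : X) (hy : y ∈ W) :
    hVal (h + h') y hy = hVal h y hy + hVal h' y hy := rfl

theorem homMod_ext {W : X.Opens} {h h' : Γ(homMod M P, W)} (H : ∀ y hy, hVal h y hy = hVal h' y hy) : h = h' :=
  Subtype.ext (funext fun y => H y.1 y.2)

/-- The value of a local homomorphism at a section. -/
theorem exists_happ {W : X.Opens} (h : Γ(homMod M P, W)) (m : Γ(M, W)) :
    ∃ p : Γ(P, W), ∀ y (hy : y ∈ W), ger P y hy p = hVal h y hy (ger M y hy m) :=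
  (show homSec M P W from h).2 W le_rfl m

/-- The value of a local homomorphism at a section. -/
def happ {W : X.Opens} (h : Γ(homMod M P, W)) (m : Γ(M, W)) : Γ(P, W) := (exists_happ h m).choose

theorem ger_happ {W : X.Opens} (h : Γ(homMod M P, W)) (m : Γ(M, W)) (y : X) (hy : y ∈ W) :
    ger P y hy (happ h m) = hVal h y hy (ger M y hy m) :=
  (exists_happ h m).choose_spec y hy

theorem exists_evMod (M P : X.Modules) : ∃ e : tens M (homMod M P) ⟶ P,
    ∀ (V : X.Opens) (m : Γ(M, V)) (h : Γ(homMod M P, V)), e.app V (shTm m h) = happ h m := by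
  refine GrTildeLib.exists_tens_hom (N := homMod M P) (fun V m h => happ h m) ?_ ?_ ?_ ?_ ?_
  · intro V m m' h
    refine section_ext _ _ fun y hy => ?_
    rw [ger_add, ger_happ, ger_happ, ger_happ, ger_add, map_add]
  · intro V m h h'
    refine section_ext _ _ fun y hy => ?_
    rw [ger_add, ger_happ, ger_happ, ger_happ, hVal_add, LinearMap.add_apply]
  · intro V r m h
    refine section_ext _ _ fun y hy => ?_
    rw [ger_smul, ger_happ, ger_happ, ger_smul, map_smul]
  · intro V r m h
    refine section_ext _ _ fun y hy => ?_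
    rw [ger_smul, ger_happ, ger_happ, hVal_smul, LinearMap.smul_apply]
  · intro V W hVW m h
    refine section_ext _ _ fun y hy => ?_
    change ger P y hy (res P hVW (happ h m)) = ger P y hy (happ (res (homMod M P) hVW h) (res M hVW m))
    rw [ger_res, ger_happ, ger_happ, ger_res]
    rfl

/-- Evaluation. -/
def evMod (M P : X.Modules) : tens M (homMod M P) ⟶ P := (exists_evMod M P).choose

theorem evMod_app {V : X.Opens} (m : Γ(M, V)) (h : Γ(homMod M P, V)) :
    (evMod M P).app V (shTm m h) = happ h m :=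
  (exists_evMod M P).choose_spec V m h

/-- The map on stalks induced by a pairing. -/
def evS {N : X.Modules} (φ : tens M N ⟶ P) (y : X) :
    stk N y →ₗ[X.presheaf.stalk y] (stk M y →ₗ[X.presheaf.stalk y] stk P y) :=
  (TensorProduct.curry (((DerSch.stalkFunctor X y).map φ).hom.comp (stalkTensorLin M N y))).flip

theorem evS_ger {N : X.Modules} (φ : tens M N ⟶ P) {V : X.Opens} (y : X) (hy : y ∈ V) (m : Γ(M, V))
    (n : Γ(N, V)) : evS φ y (ger N y hy n) (ger M y hy m) = ger P y hy (φ.app V (shTm m n)) := by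
  change ((DerSch.stalkFunctor X y).map φ).hom (stalkTensorLin M N y (ger M y hy m ⊗ₜ ger N y hy n)) = _
  exact (congrArg ((DerSch.stalkFunctor X y).map φ).hom (KFlatLib.stalkTensorLin_germ M N y hy m n)).trans
    (ger_map φ y hy _)

theorem evS_map {N N' : X.Modules} (g : N ⟶ N') (φ : tens M N' ⟶ P) (y : X) (n : stk N y) :
    evS (((DCoh.tensorBi (X := X)).obj M).map g ≫ φ) y n =
      evS φ y (((DerSch.stalkFunctor X y).map g).hom n) := by
  obtain ⟨V, hy, n, rfl⟩ := exists_ger N y n
  refine LinearMap.ext fun m => ?_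
  obtain ⟨V', hy', m, rfl⟩ := exists_ger M y m
  rw [← ger_res N (inf_le_left : V ⊓ V' ≤ V) y ⟨hy, hy'⟩ n, ← ger_res M (inf_le_right : V ⊓ V' ≤ V') y ⟨hy, hy'⟩ m,
    ger_map, evS_ger, evS_ger]
  exact congrArg (fun s => ger P y _ (φ.app _ s)) (KFlatLib.tensorBi_map₂_shTm M g _ _)

theorem evS_ext {N : X.Modules} {φ φ' : tens M N ⟶ P} (h : ∀ y n, evS φ y n = evS φ' y n) : φ = φ' :=
  KFlatLib.tens_hom_ext fun V m n => section_ext _ _ fun y hy => by
    refine (evS_ger φ y hy m n).symm.trans (Eq.trans ?_ (evS_ger φ' y hy m n))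
    rw [h]

theorem evS_evMod {V : X.Opens} (h : Γ(homMod M P, V)) (y : X) (hy : y ∈ V) :
    evS (evMod M P) y (ger (homMod M P) y hy h) = hVal h y hy := by
  refine LinearMap.ext fun m => ?_
  obtain ⟨V', hy', m, rfl⟩ := exists_ger M y m
  rw [← ger_res (homMod M P) (inf_le_left : V ⊓ V' ≤ V) y ⟨hy, hy'⟩ h,
    ← ger_res M (inf_le_right : V ⊓ V' ≤ V') y ⟨hy, hy'⟩ m, evS_ger, evMod_app, ger_happ]
  rfl

/-- Currying a pairing. -/
def curryMod {N : X.Modules} (φ : tens M N ⟶ P) : N ⟶ homMod M P where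
  val := PresheafOfModules.homMk
        { app := fun V => AddCommGrpCat.ofHom
            { toFun := fun n : Γ(N, V.unop) => (show homSec M P V.unop from
                ⟨fun y => evS φ y.1 (ger N y.1 y.2 n), fun T h m =>
                  ⟨φ.app T (shTm m (res N h n)), fun y hy => by
                    rw [← evS_ger, ger_res]⟩⟩)
              map_zero' := Subtype.ext (funext fun y =>
                (congrArg (evS φ y.1) (ger_zero N y.1 y.2)).trans (map_zero (evS φ y.1)))
              map_add' := fun a b => Subtype.ext (funext fun y =>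
                (congrArg (evS φ y.1) (ger_add N y.1 y.2 a b)).trans (map_add (evS φ y.1) _ _)) }
          naturality := fun V W i => by
            ext n
            exact Subtype.ext (funext fun y => congrArg (evS φ y.1) (ger_res N i.unop.le y.1 y.2 n)) }
        (fun V r n => Subtype.ext (funext fun y => by
          change evS φ y.1 (ger N y.1 y.2 ((show Γ(X, V.unop) from r) • (show Γ(N, V.unop) from n))) = _
          rw [ger_smul, map_smul]
          rfl))

theorem hVal_curryMod {N : X.Modules} (φ : tens M N ⟶ P) {V : X.Opens} (n : Γ(N, V)) (y : X) (hy : y ∈ V) :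
    hVal ((curryMod φ).app V n) y hy = evS φ y (ger N y hy n) := rfl

theorem evS_evMod_curry {N : X.Modules} (φ : tens M N ⟶ P) (y : X) (n : stk N y) :
    evS (evMod M P) y (((DerSch.stalkFunctor X y).map (curryMod φ)).hom n) = evS φ y n := by
  obtain ⟨V, hy, n, rfl⟩ := exists_ger N y n
  rw [ger_map, evS_evMod, hVal_curryMod]

theorem curryMod_comp {N : X.Modules} (φ : tens M N ⟶ P) :
    ((DCoh.tensorBi (X := X)).obj M).map (curryMod φ) ≫ evMod M P = φ :=
  evS_ext fun y n => by rw [evS_map, evS_evMod_curry]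

theorem hom_homMod_ext {N : X.Modules} {g g' : N ⟶ homMod M P}
    (h : ((DCoh.tensorBi (X := X)).obj M).map g ≫ evMod M P = ((DCoh.tensorBi (X := X)).obj M).map g' ≫ evMod M P) :
    g = g' := by
  refine Scheme.Modules.hom_ext _ _ fun V => ?_
  ext n
  refine homMod_ext fun y hy => ?_
  rw [← evS_evMod, ← evS_evMod, ← ger_map g y hy n, ← ger_map g' y hy n, ← evS_map, ← evS_map, h]

/-- `M ⊗ -` is left adjoint to the sheaf of homomorphisms out of `M`. -/
theorem hasSheafHom (M : X.Modules) : DCoh.HasSheafHom M := by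
  let e : ∀ (N P : X.Modules), (((DCoh.tensorBi (X := X)).obj M).obj N ⟶ P) ≃ (N ⟶ homMod M P) := fun N P =>
    { toFun := curryMod
      invFun := fun g => ((DCoh.tensorBi (X := X)).obj M).map g ≫ evMod M P
      left_inv := curryMod_comp
      right_inv := fun g => hom_homMod_ext (curryMod_comp _) }
  exact (Adjunction.adjunctionOfEquivRight e fun N' N P f g => hom_homMod_ext (by
    change ((DCoh.tensorBi (X := X)).obj M).map (curryMod (((DCoh.tensorBi (X := X)).obj M).map f ≫ g)) ≫ evMod M P =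
      ((DCoh.tensorBi (X := X)).obj M).map (f ≫ curryMod g) ≫ evMod M P
    rw [curryMod_comp, Functor.map_comp, Category.assoc, curryMod_comp])).isLeftAdjoint

end CohCmpLib
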