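import Groth.Agent.RichLib.FlatNoethDescent
import Groth.Agent.ConsLib.PairProper

/-! A flat module on a proper scheme of finite presentation descends to a Noetherian base. -/

set_option autoImplicit false
set_option linter.style.haveILetI false
universe u

open CategoryTheory CategoryTheory.Limits AlgebraicGeometry TopologicalSpace RichLib.LimBC ConsLib

noncomputable section

namespace CohCmpLib

open RichLib.FlatNoeth (toZ fg_toZ)

attribute [local instance] ConsLib.zAlgebra

/-- Proper Noetherian models of flat modules. -/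
theorem exists_proper_descent {A : Type u} [CommRing A] {X : Scheme.{u}}
    (f : X ⟶ Spec (CommRingCat.of A)) [IsProper f] [LocallyOfFinitePresentation f]
    (F : X.Modules) [Coh.IsQCoh F] (hF : CohB1.IsFP F) (hfl : FlatMod.IsFlatOver f F) :
    ∃ (A₀ : Subalgebra ℤ A) (_ : A₀.FG) (X₀ : Scheme.{u}) (f₀ : X₀ ⟶ Spec (CommRingCat.of ↥A₀))
      (_ : IsProper f₀) (F₀ : X₀.Modules) (_ : Coh.IsCoh F₀) (q : X ⟶ X₀)
      (_ : IsPullback q f f₀ (Spec.map (CommRingCat.ofHom A₀.val.toRingHom)))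
      (_ : (Scheme.Modules.pullback q).obj F₀ ≅ F),
      FlatMod.IsFlatOver f₀ F₀ := by
  let A' := zSys A
  haveI : ∀ i j (a : i ⟶ j), IsAffineHom (A'.D.map a) := fun _ _ a => A'.affine_map a
  haveI : ∀ i, IsNoetherian (A'.D.obj i) := fun i => zSys_obj _ i
  let e : Spec (CommRingCat.of A) ≅ A'.c.pt := (zSysIso _).symm
  obtain ⟨i, ⟨N⟩⟩ := DescFP.exists_model A'.hc (f ≫ e.hom)
  haveI := N.lfp
  haveI := N.qc
  haveI := N.compactSpace
  haveI := N.quasiSeparatedSpace
  let B := pb (ofStage A'.D A'.c A'.hc i) N.p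
  haveI : ∀ k l (b : k ⟶ l), IsAffineHom (B.D.map b) := fun _ _ b => B.affine_map b
  haveI hlft : LocallyOfFiniteType N.p := inferInstance
  haveI : ∀ φ : Over i, IsNoetherian (B.D.obj φ) := fun φ =>
    @ConsLib.isNoetherian_of_ft _ _ (pullback.snd N.p (A'.D.map φ.hom)) (zSys_obj _ φ.left)
      (MorphismProperty.pullback_snd _ _ hlft) (MorphismProperty.pullback_snd _ _ N.qc)
  let eY := N.sq.isoPullback
  let c' : Cone B.D := B.c.extend eY.hom
  have hc' : IsLimit c' := B.hc.ofIsoLimit (Cone.ext eY.symm (fun φ => by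
    simp [c', Cone.extend]))
  obtain ⟨φ, G, hG, ⟨eG⟩⟩ := ModDescLib.exists_coh_pullback (c := c') hc' F
    fun y => FlatLib.exists_presentation_nhd hF y
  haveI : Coh.IsQCoh G := hG.1
  have hGfp : CohB1.IsFP G := QCohLib.isFP_of_isCoh G hG
  let fj : B.D.obj φ ⟶ A'.D.obj φ.left := pullback.snd N.p (A'.D.map φ.hom)
  haveI : LocallyOfFinitePresentation fj := MorphismProperty.pullback_snd _ _ N.lfp
  let q₀ : X ⟶ B.D.obj φ := eY.hom ≫ B.c.π.app φ
  have sq₀ : IsPullback q₀ f fj (A'.c.π.app φ.left) := by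
    refine (isPullback_cone (ofStage A'.D A'.c A'.hc i) N.p φ).of_iso eY.symm (Iso.refl _) e.symm (Iso.refl _)
      ?_ ?_ ?_ ?_
    · exact (Category.comp_id _).trans (Iso.inv_hom_id_assoc _ _).symm
    · have h1 : eY.hom ≫ pullback.snd N.p (A'.c.π.app i) = f ≫ e.hom := N.sq.isoPullback_hom_snd
      exact (Iso.eq_inv_comp eY).mpr ((Category.assoc _ _ _).symm.trans ((Iso.comp_inv_eq e).mpr h1))
    · simp [fj]; rfl
    · exact (Category.comp_id _).trans (Iso.inv_hom_id_assoc _ _).symm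
  let Z := ofStage A'.D A'.c A'.hc φ.left
  let eX : X ≅ pullback fj Z.s := sq₀.isoPullback
  have hX₁ : eX.hom ≫ pullback.fst fj Z.s = q₀ := sq₀.isoPullback_hom_fst
  have hX₂ : eX.hom ≫ pullback.snd fj Z.s = f := sq₀.isoPullback_hom_snd
  have eM : F ≅ (Scheme.Modules.pullback eX.hom).obj ((Scheme.Modules.pullback (pullback.fst fj Z.s)).obj G) :=
    eG.symm ≪≫ (Scheme.Modules.pullbackCongr hX₁.symm).app G ≪≫ ((Scheme.Modules.pullbackComp _ _).app G).symm
  have htrans : ∀ y : X, FlatMod.IsFlatOverAt f F y ↔ FlatMod.IsFlatOverAt (pullback.snd fj Z.s)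
      ((Scheme.Modules.pullback (pullback.fst fj Z.s)).obj G) (eX.hom y) := fun y =>
    RichLib.ModFlat.isFlatOverAt_congr eX.hom (𝟙 _) ((Category.comp_id _).trans hX₂.symm) eM y
  -- the model at a further stage
  have model : ∀ ψ : Over φ.left, ∃ (_ : (toZ ψ.left.unop.1).FG)
      (_ : LocallyOfFiniteType (pullback.snd fj (Z.t ψ))) (_ : QuasiCompact (pullback.snd fj (Z.t ψ)))
      (_ : Coh.IsCoh ((Scheme.Modules.pullback (pullback.fst fj (Z.t ψ))).obj G))
      (_ : IsPullback (eX.hom ≫ pbπ Z fj ψ) f (pullback.snd fj (Z.t ψ))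
        (Spec.map (CommRingCat.ofHom (toZ ψ.left.unop.1).val.toRingHom))),
      Nonempty ((Scheme.Modules.pullback (eX.hom ≫ pbπ Z fj ψ)).obj
        ((Scheme.Modules.pullback (pullback.fst fj (Z.t ψ))).obj G) ≅ F) := fun ψ =>
    ⟨fg_toZ _ ψ.left.unop.2, MorphismProperty.pullback_snd _ _ inferInstance,
      MorphismProperty.pullback_snd _ _ (MorphismProperty.pullback_snd _ _ N.qc), isCoh_pullback _ hG,
      (isPullback_cone Z fj ψ).of_iso eX.symm (Iso.refl _) (Iso.refl _) (Iso.refl _)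
        ((Category.comp_id _).trans (Iso.inv_hom_id_assoc _ _).symm)
        ((Category.comp_id _).trans ((Iso.eq_inv_comp eX).mpr hX₂))
        ((Category.comp_id _).trans (Category.id_comp _).symm)
        ((Category.comp_id _).trans (Category.id_comp _).symm),
      ⟨(Scheme.Modules.pullbackComp _ _).app G ≪≫ (Scheme.Modules.pullbackCongr
        (show (eX.hom ≫ pbπ Z fj ψ) ≫ pullback.fst fj (Z.t ψ) = q₀ by
          rw [Category.assoc, pbπ_fst]; exact hX₁)).app G ≪≫ eG⟩⟩
  haveI : CompactSpace ↥(B.D.obj φ) := inferInstance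
  haveI : QuasiCompact fj := MorphismProperty.pullback_snd _ _ N.qc
  haveI : QuasiSeparated fj := MorphismProperty.pullback_snd _ _ N.qs
  obtain ⟨ψ, hψ⟩ := RichLib.ModFlat.exists_isFlatOver_stage Z fj G hGfp fun y => by
    obtain ⟨z, rfl⟩ := eX.hom.surjective y
    exact (htrans z).mp (hfl z)
  haveI : LocallyOfFiniteType fj := inferInstance
  obtain ⟨χ, hχ⟩ := ConsLib.exists_at_isProper Z fj (by
    show IsProper (pullback.snd fj Z.s)
    exact (MorphismProperty.cancel_left_of_respectsIso @IsProper eX.hom _).1 (hX₂.symm ▸ ‹IsProper f›))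
  let m := IsCofiltered.min ψ χ
  haveI := Z.affine m
  haveI := Z.affine ψ
  haveI := Z.affine χ
  have hm₁ : FlatMod.IsFlatOver (pullback.snd fj (Z.t m))
      ((Scheme.Modules.pullback (pullback.fst fj (Z.t m))).obj G) := fun y =>
    RichLib.ModFlat.isFlatOverAt_baseChange fj G hGfp (Z.t ψ) (Z.D.map (IsCofiltered.minToLeft ψ χ)) (Z.t m)
      (Z.w _) (pbMap Z fj (IsCofiltered.minToLeft ψ χ)) (pbMap_fst Z fj _) (pbMap_snd Z fj _) y (hψ _)
  have hm₂ : IsProper (pullback.snd fj (Z.t m)) :=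
    MorphismProperty.of_isPullback (isPullback_map Z fj (IsCofiltered.minToRight ψ χ)) hχ
  obtain ⟨h1, -, -, h4, h5, ⟨e6⟩⟩ := model m
  exact ⟨_, h1, _, _, hm₂, _, h4, _, h5, e6, hm₁⟩

end CohCmpLib
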