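import Groth.Agent.CohCmpLib.Omega
import Mathlib.RingTheory.IsTensorProduct

/-! Complexes that are flat with flat homology over a base ring commute with its base changes. -/

set_option autoImplicit false
set_option maxHeartbeats 1000000

universe u

open CategoryTheory TensorProduct
open FlatCxLib (Hm)

namespace CohCmpLib

section Exact

variable {C : Type u} [CommRing C] {U V W : Type u} [AddCommGroup U] [Module C U] [AddCommGroup V] [Module C V]
  [AddCommGroup W] [Module C W] (a : U →ₗ[C] V) (b : V →ₗ[C] W)

/-- Exactness after all base changes gives exactness after tensoring with all modules. -/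
theorem exact_rTensor_of_forall_algebra
    (h : ∀ (T : Type u) [CommRing T] [Algebra C T] (y : T ⊗[C] V), b.baseChange T y = 0 →
      y ∈ LinearMap.range (a.baseChange T))
    (M : Type u) [AddCommGroup M] [Module C M] (y : V ⊗[C] M) (hy : b.rTensor M y = 0) :
    y ∈ LinearMap.range (a.rTensor M) := by
  let : Module Cᵐᵒᵖ M := Module.compHom M ((RingHom.id C).fromOpposite mul_comm)
  have : IsCentralScalar C M := ⟨fun _ _ => rfl⟩
  let T := TrivSqZeroExt C M
  let i : M →ₗ[C] T := TrivSqZeroExt.inrHom C M
  let r : T →ₗ[C] M := TrivSqZeroExt.sndHom C M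
  have hri : r ∘ₗ i = LinearMap.id := LinearMap.ext fun m => TrivSqZeroExt.snd_inr C m
  have hc : ∀ {N N' : Type u} [AddCommGroup N] [Module C N] [AddCommGroup N'] [Module C N'] (φ : N →ₗ[C] N')
      (w : T ⊗[C] N), TensorProduct.comm C T N' (φ.baseChange T w) = φ.rTensor T (TensorProduct.comm C T N w) :=
    fun φ w => by
      induction w using TensorProduct.induction_on with
      | zero => simp
      | tmul t x => simp
      | add x y hx hy => simp [hx, hy]
  let y' : T ⊗[C] V := (TensorProduct.comm C T V).symm (i.lTensor V y)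
  have hy' : b.baseChange T y' = 0 := by
    apply (TensorProduct.comm C T W).injective
    rw [hc, LinearEquiv.apply_symm_apply, FlatCxLib.rTensor_lTensor, hy, map_zero, map_zero]
  obtain ⟨u, hu⟩ := h T y' hy'
  refine ⟨r.lTensor U (TensorProduct.comm C T U u), ?_⟩
  rw [FlatCxLib.rTensor_lTensor, ← hc, hu, LinearEquiv.apply_symm_apply, ← LinearMap.comp_apply,
    ← LinearMap.lTensor_comp, hri, LinearMap.lTensor_id, LinearMap.id_apply]

end Exact

section Tower

variable (R : Type u) {C : Type u} [CommRing R] [CommRing C] [Algebra R C] {U V W : Type u}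
  [AddCommGroup U] [Module C U] [Module R U] [IsScalarTower R C U]
  [AddCommGroup V] [Module C V] [Module R V] [IsScalarTower R C V]
  [AddCommGroup W] [Module C W] [Module R W] [IsScalarTower R C W]
  (a : U →ₗ[C] V) (b : V →ₗ[C] W) (hab : b ∘ₗ a = 0)

theorem exact_rTensor_restrict
    (h : ∀ (T : Type u) [CommRing T] [Algebra C T] (y : T ⊗[C] V), b.baseChange T y = 0 →
      y ∈ LinearMap.range (a.baseChange T))
    (M : Type u) [AddCommGroup M] [Module R M] (y : V ⊗[R] M) (hy : (b.restrictScalars R).rTensor M y = 0) :
    y ∈ LinearMap.range ((a.restrictScalars R).rTensor M) := by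
  let eV := TensorProduct.AlgebraTensorModule.cancelBaseChange R C C V M
  have hnat : ∀ {N N' : Type u} [AddCommGroup N] [Module C N] [Module R N] [IsScalarTower R C N]
      [AddCommGroup N'] [Module C N'] [Module R N'] [IsScalarTower R C N'] (φ : N →ₗ[C] N')
      (w : N ⊗[C] (C ⊗[R] M)), TensorProduct.AlgebraTensorModule.cancelBaseChange R C C N' M
        (φ.rTensor (C ⊗[R] M) w) =
      (φ.restrictScalars R).rTensor M (TensorProduct.AlgebraTensorModule.cancelBaseChange R C C N M w) :=
    fun {N N'} => fun φ w => by
      induction w using TensorProduct.induction_on with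
      | zero => simp
      | tmul n t =>
        induction t using TensorProduct.induction_on with
        | zero => simp
        | tmul c m => simp
        | add x y hx hy => simp only [TensorProduct.tmul_add, map_add, hx, hy]
      | add x y hx hy => simp only [map_add, hx, hy]
  have hy' : b.rTensor (C ⊗[R] M) (eV.symm y) = 0 := by
    apply (TensorProduct.AlgebraTensorModule.cancelBaseChange R C C W M).injective
    rw [hnat, LinearEquiv.apply_symm_apply, hy, map_zero]
  obtain ⟨u, hu⟩ := exact_rTensor_of_forall_algebra a b h (C ⊗[R] M) (eV.symm y) hy'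
  refine ⟨TensorProduct.AlgebraTensorModule.cancelBaseChange R C C U M u, ?_⟩
  rw [← hnat, hu, LinearEquiv.apply_symm_apply]

/-- The class map for restricted scalars. -/
noncomputable def restrictCls :
    LinearMap.ker (b.restrictScalars R) →ₗ[R] Hm a b where
  toFun y := Submodule.Quotient.mk ⟨y.1, y.2⟩
  map_add' y z := rfl
  map_smul' r y := rfl

/-- Homology commutes with restriction of scalars. -/
noncomputable def restrictHmEquiv :
    Hm (a.restrictScalars R) (b.restrictScalars R) ≃ₗ[R] Hm a b :=
  (Submodule.quotEquivOfEq _ (LinearMap.ker (restrictCls R a b)) (by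
      ext y
      refine Iff.trans ?_ (LinearMap.mem_ker (f := restrictCls R a b)).symm
      exact (Submodule.Quotient.mk_eq_zero ((LinearMap.range a).comap (LinearMap.ker b).subtype)
        (x := (⟨y.1, y.2⟩ : LinearMap.ker b))).symm)).trans
    ((restrictCls R a b).quotKerEquivOfSurjective fun x => by
      obtain ⟨y, rfl⟩ := Submodule.Quotient.mk_surjective _ x
      exact ⟨⟨y.1, y.2⟩, rfl⟩)

end Tower

section Inj

variable (R R' : Type u) {C : Type u} (C' : Type u) {T : Type u} [CommRing R] [CommRing R'] [CommRing C] [CommRing C'] [CommRing T]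
  [Algebra R R'] [Algebra R C] [Algebra R C'] [Algebra C C'] [Algebra R' C'] [IsScalarTower R C C']
  [IsScalarTower R R' C'] [Algebra.IsPushout R R' C C'] [Algebra C T] [Algebra C' T] [IsScalarTower C C' T]
  [Module.Flat C' T] {N V : Type u} [AddCommGroup N] [Module C N] [Module R N] [IsScalarTower R C N]
  [AddCommGroup V] [Module C V] [Module R V] [IsScalarTower R C V]

include C'

/-- Injectivity over the base passes to algebras flat over the pushout. -/
theorem injective_lTensor_of_pushout (ι : N →ₗ[C] V)
    (h : Function.Injective ((ι.restrictScalars R).lTensor R')) : Function.Injective (ι.lTensor T) := by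
  let eN := Algebra.IsPushout.cancelBaseChange R R' C C' N
  let eV := Algebra.IsPushout.cancelBaseChange R R' C C' V
  have h1 : Function.Injective (ι.lTensor C') := by
    have e : ∀ z, ι.lTensor C' (eN.symm z) = eV.symm ((ι.restrictScalars R).lTensor R' z) := fun z => by
      induction z using TensorProduct.induction_on with
      | zero => simp
      | tmul r n =>
        simp only [eN, eV, Algebra.IsPushout.cancelBaseChange_symm_tmul, LinearMap.lTensor_tmul,
          LinearMap.restrictScalars_apply]
      | add x y hx hy => simp only [map_add, hx, hy]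
    intro x y hxy
    obtain ⟨x, rfl⟩ := eN.symm.surjective x
    obtain ⟨y, rfl⟩ := eN.symm.surjective y
    rw [e, e] at hxy
    rw [h (eV.symm.injective hxy)]
  have h2 : Function.Injective ((ι.baseChange C').lTensor T) :=
    Module.Flat.lTensor_preserves_injective_linearMap _ h1
  have e : ∀ z, ι.lTensor T (TensorProduct.AlgebraTensorModule.cancelBaseChange C C' T T N z) =
      TensorProduct.AlgebraTensorModule.cancelBaseChange C C' T T V ((ι.baseChange C').lTensor T z) := fun z => by
    induction z using TensorProduct.induction_on with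
    | zero => simp
    | tmul t w =>
      induction w using TensorProduct.induction_on with
      | zero => simp
      | tmul c n => simp
      | add x y hx hy => simp only [TensorProduct.tmul_add, map_add, hx, hy]
    | add x y hx hy => simp only [map_add, hx, hy]
  intro x y hxy
  obtain ⟨x, rfl⟩ := (TensorProduct.AlgebraTensorModule.cancelBaseChange C C' T T N).surjective x
  obtain ⟨y, rfl⟩ := (TensorProduct.AlgebraTensorModule.cancelBaseChange C C' T T N).surjective y
  rw [e, e] at hxy
  rw [h2 ((TensorProduct.AlgebraTensorModule.cancelBaseChange C C' T T V).injective hxy)]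

end Inj

section Cx

variable (R : Type u) {C : Type u} [CommRing R] [CommRing C] [Algebra R C]
  (K : CochainComplex (ModuleCat.{u} C) ℕ) [∀ q, Module R (K.X q)] [∀ q, IsScalarTower R C (K.X q)]
  (hflat : ∀ q, Module.Flat R (K.X q)) (N : ℕ)
  (hex : ∀ (T : Type u) [CommRing T] [Algebra C T] (q : ℕ), N ≤ q → ∀ y : T ⊗[C] (K.X q : Type u),
    (K.d q (q + 1)).hom.baseChange T y = 0 → y ∈ LinearMap.range ((K.d (q - 1) q).hom.baseChange T))
  (hH : ∀ p, Module.Flat R (HmK K p))

theorem d_comp_hom (i j l : ℕ) : (K.d j l).hom ∘ₗ (K.d i j).hom = 0 := by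
  rw [← ModuleCat.hom_comp, K.d_comp_d]
  rfl

include hflat hex hH in
theorem flat_coker_restrict (p : ℕ) :
    Module.Flat R ((K.X p : Type u) ⧸ LinearMap.range ((K.d (p - 1) p).hom.restrictScalars R)) := by
  have hd : ∀ p : ℕ, (K.d p (p + 1)).hom.restrictScalars R ∘ₗ (K.d (p - 1) p).hom.restrictScalars R = 0 :=
    fun p => LinearMap.ext fun x => LinearMap.congr_fun (d_comp_hom K (p - 1) p (p + 1)) x
  have hbase : ∀ q, N ≤ q →
      Module.Flat R ((K.X q : Type u) ⧸ LinearMap.range ((K.d (q - 1) q).hom.restrictScalars R)) := fun q hq => by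
    have := hflat (q + 1)
    exact flat_coker_of_exact _ ((K.d q (q + 1)).hom.restrictScalars R) (hd q)
      fun M _ _ y hy => exact_rTensor_restrict R _ _ (fun T _ _ y hy => hex T q hq y hy) M y hy
  suffices ∀ (k q : ℕ), N ≤ q + k →
      Module.Flat R ((K.X q : Type u) ⧸ LinearMap.range ((K.d (q - 1) q).hom.restrictScalars R)) from
    this N p (by omega)
  intro k
  induction k with
  | zero => exact fun q hq => hbase q (by omega)
  | succ k ih =>
    intro q hq
    have := hflat (q + 1)
    have hnext := ih (q + 1) (by omega)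
    rw [Nat.add_sub_cancel] at hnext
    have := hH q
    have : Module.Flat R (Hm ((K.d (q - 1) q).hom.restrictScalars R) ((K.d q (q + 1)).hom.restrictScalars R)) :=
      Module.Flat.of_linearEquiv (restrictHmEquiv R _ _)
    exact flat_coker_of_hm _ _ (hd q)

variable (R' : Type u) (C' : Type u) (T : Type u) [CommRing R'] [CommRing C'] [CommRing T]
  [Algebra R R'] [Algebra R C'] [Algebra C C'] [Algebra R' C'] [IsScalarTower R C C']
  [IsScalarTower R R' C'] [Algebra.IsPushout R R' C C'] [Algebra C T] [Algebra C' T] [IsScalarTower C C' T]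
  [Module.Flat C' T]

include hflat hex hH R' C' in
/-- Formation of the homology commutes with algebras flat over a base change. -/
theorem canHm_bijective_of_flat_base (p : ℕ) :
    Function.Bijective (canHm (K.d (p - 1) p).hom (K.d p (p + 1)).hom T) := by
  let b := (K.d p (p + 1)).hom
  have := hflat p
  have := hflat (p + 1)
  have hnext := flat_coker_restrict R K hflat N hex hH (p + 1)
  rw [Nat.add_sub_cancel] at hnext
  have hI : Module.Flat R (LinearMap.range (b.restrictScalars R)) :=
    flat_range_of_flat_quotient (b.restrictScalars R)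
  refine canHm_bijective_of_injective _ b (d_comp_hom K _ _ _) T ?_ ?_
  · refine injective_lTensor_of_pushout R R' C' (LinearMap.range b).subtype ?_
    refine (LinearMap.lTensor_inj_iff_rTensor_inj (M := R') _).2 ?_
    exact KFlatLib.rTensor_injective_of_flat_quotient ((LinearMap.range b).subtype.restrictScalars R)
      (LinearMap.range (b.restrictScalars R)).mkQ Subtype.val_injective
      (fun x => by
        rw [Submodule.mkQ_apply, Submodule.Quotient.mk_eq_zero]
        exact ⟨fun h => ⟨⟨x, h⟩, rfl⟩, fun ⟨y, hy⟩ => hy ▸ y.2⟩)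
      (Submodule.mkQ_surjective _) R'
  · refine injective_lTensor_of_pushout R R' C' (LinearMap.ker b).subtype ?_
    refine (LinearMap.lTensor_inj_iff_rTensor_inj (M := R') _).2 ?_
    exact KFlatLib.rTensor_injective_of_flat_quotient ((LinearMap.ker b).subtype.restrictScalars R)
      (b.restrictScalars R).rangeRestrict Subtype.val_injective
      (fun x => ⟨fun h => ⟨⟨x, congrArg Subtype.val h⟩, rfl⟩, fun ⟨y, hy⟩ => hy ▸ Subtype.ext y.2⟩)
      (LinearMap.surjective_rangeRestrict _) R'

end Cx

section Congr

variable {C : Type u} [CommRing C] {U V W U' V' W' : Type u} [AddCommGroup U] [Module C U] [AddCommGroup V]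
  [Module C V] [AddCommGroup W] [Module C W] [AddCommGroup U'] [Module C U'] [AddCommGroup V'] [Module C V']
  [AddCommGroup W'] [Module C W'] {a : U →ₗ[C] V} {b : V →ₗ[C] W} {a' : U' →ₗ[C] V'} {b' : V' →ₗ[C] W'}
  (eU : U ≃ₗ[C] U') (eV : V ≃ₗ[C] V') (eW : W ≃ₗ[C] W') (T : Type u) [CommRing T] [Algebra C T]
  (ha : ∀ x, eV (a x) = a' (eU x)) (hb : ∀ y, eW (b y) = b' (eV y))

include eU eV eW ha hb in
theorem canHm_bijective_congr (h : Function.Bijective (canHm a b T)) : Function.Bijective (canHm a' b' T) := by
  have hbc : ∀ {P P' Q Q' : Type u} [AddCommGroup P] [Module C P] [AddCommGroup P'] [Module C P']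
      [AddCommGroup Q] [Module C Q] [AddCommGroup Q'] [Module C Q'] (φ : P →ₗ[C] Q) (φ' : P' →ₗ[C] Q')
      (eP : P ≃ₗ[C] P') (eQ : Q ≃ₗ[C] Q'), (∀ x, eQ (φ x) = φ' (eP x)) → ∀ x : T ⊗[C] P,
      LinearEquiv.baseChange C T Q Q' eQ (φ.baseChange T x) =
        φ'.baseChange T (LinearEquiv.baseChange C T P P' eP x) :=
    fun φ φ' eP eQ hφ x => by
      induction x using TensorProduct.induction_on with
      | zero => simp
      | tmul t x => simp [hφ]
      | add x y hx hy => simp only [map_add, hx, hy]
  let e1 := FlatCxLib.hmCongr (f := a) (g := b) (f' := a') (g' := b') eU eV eW ha hb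
  let e2 := FlatCxLib.hmCongr (f := a.baseChange T) (g := b.baseChange T) (f' := a'.baseChange T)
    (g' := b'.baseChange T) (LinearEquiv.baseChange C T U U' eU) (LinearEquiv.baseChange C T V V' eV)
    (LinearEquiv.baseChange C T W W' eW) (hbc a a' eU eV ha) (hbc b b' eV eW hb)
  have key : ⇑(canHm a' b' T) ∘ ⇑(LinearEquiv.baseChange C T _ _ e1) = ⇑e2 ∘ ⇑(canHm a b T) := by
    funext z
    induction z using TensorProduct.induction_on with
    | zero => simp
    | tmul t x =>
      obtain ⟨y, rfl⟩ := Submodule.Quotient.mk_surjective _ x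
      simp only [Function.comp_apply, canHm, LinearEquiv.baseChange_tmul, LinearMap.liftBaseChange_tmul,
        map_smul]
      exact congrArg (t • ·) rfl
    | add x y hx hy =>
      simp only [Function.comp_apply, map_add] at hx hy ⊢
      rw [hx, hy]
  rw [← Function.Bijective.of_comp_iff (canHm a' b' T) (LinearEquiv.baseChange C T _ _ e1).bijective, key]
  exact e2.bijective.comp h

end Congr

end CohCmpLib
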