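import Groth.Agent.CohCmpLib.IsoCrit
import Groth.Agent.CohCmpLib.FlatBase

/-! Base change when the module and its higher direct images are flat over a further base. -/

set_option autoImplicit false
set_option maxHeartbeats 2000000
set_option maxRecDepth 8000

universe u

open CategoryTheory CategoryTheory.Limits AlgebraicGeometry TopologicalSpace Opposite TensorProduct
open RpushLib (overW secFun secMap₀ extSL)
open CohBCLib (HA secA)

namespace CohCmpLib

theorem secA_comp_spec {R A : Type u} [CommRing R] [CommRing A] {X : Scheme.{u}}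
    (f : X ⟶ Spec (CommRingCat.of A)) (φ : R →+* A) (r : R) :
    secA (f ≫ Spec.map (CommRingCat.ofHom φ)) ⊤ r = secA f ⊤ (φ r) := by
  rw [← CohBCLib.resTop_toGlobal, ← CohBCLib.resTop_toGlobal]
  exact congrArg _ (CohBCLib.toGlobal_comp_specMap f (CommRingCat.ofHom φ) r)

variable {X Y S X' Y' S' : Scheme.{u}} (a : X ⟶ S) (b : Y ⟶ S) (f : X ⟶ Y) (hf : f ≫ b = a)
  [IsSeparated f] [QuasiCompact f]
  (g : S' ⟶ S) (gY : Y' ⟶ Y) (b' : Y' ⟶ S') (hY : IsPullback gY b' b g)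

omit [IsSeparated f] [QuasiCompact f] in
include hf in
theorem isFlatOver_piece (F : X.Modules) (hF : FlatMod.IsFlatOver a F) {W : S.Opens} (hW : IsAffineOpen W)
    {U : Y.Opens} (hU : IsAffineOpen U) (hle : U ≤ b ⁻¹ᵁ W) :
    FlatMod.IsFlatOver (overW f hU ≫ Spec.map (CommRingCat.ofHom (b.appLE W U hle).hom))
      (F.restrict (f ⁻¹ᵁ U).ι) := fun x => by
  refine (RichLib.ModFlat.isFlatOverAt_congr (f := a) (f ⁻¹ᵁ U).ι hW.fromSpec ?_
    ((Scheme.Modules.restrictFunctorIsoPullback (f ⁻¹ᵁ U).ι).app F) x).2 (hF _)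
  have e := IsAffineOpen.SpecMap_appLE_fromSpec b hW hU hle
  rw [Category.assoc]
  refine (congrArg (overW f hU ≫ ·) e).trans ?_
  rw [← Category.assoc, ← (CohBCLib.isPullback_overW f hU).w, Category.assoc, hf]

variable (gX : X' ⟶ X) (f' : X' ⟶ Y') (hX : IsPullback gX f' f gY)
  [HasInjectiveResolutions X.Modules] [HasInjectiveResolutions X'.Modules]
  (F : X.Modules) [Coh.IsQCoh F] (hF : FlatMod.IsFlatOver a F)
  (hR : ∀ n : ℕ, FlatMod.IsFlatOver b ((Coh.Rpush f n).obj F))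
  {Δ : RDer.DerivedLES (Scheme.Modules.pushforward f)} (E : CohCmp.SectCmp f Δ)

include hY hf hF hR E in
/-- Pullback of classes is bijective over an adapted pair of affine opens. -/
theorem bijective_pieceClass_flat (p : ℕ) {W : S.Opens} (hW : IsAffineOpen W) {W' : S'.Opens}
    (hW' : IsAffineOpen W') (hg : W' ≤ g ⁻¹ᵁ W) {U : Y.Opens} (hU : IsAffineOpen U) (hUW : U ≤ b ⁻¹ᵁ W)
    {U' : Y'.Opens} (hU' : IsAffineOpen U') (hle : U' ≤ gY ⁻¹ᵁ U) (hU'W : U' ≤ b' ⁻¹ᵁ W') :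
    letI := (gY.appLE U U' hle).hom.toAlgebra
    Function.Bijective (extSL (pieceClass hX F p hU hU' hle)) := by
  let V0 := gY ⁻¹ᵁ U ⊓ b' ⁻¹ᵁ W'
  have hV0 : IsAffineOpen V0 := RpushLib.isAffineOpen_fibre hY hW hW' hg hU hUW
  have hUV : U' ≤ V0 := le_inf hle hU'W
  let A : Type u := Γ(Y, U)
  let T : Type u := Γ(Y', U')
  let := (gY.appLE U U' hle).hom.toAlgebra
  let := (g.appLE W W' hg).hom.toAlgebra
  let := (b.appLE W U hUW).hom.toAlgebra
  let : Algebra Γ(S', W') Γ(Y', V0) := (b'.appLE W' V0 inf_le_right).hom.toAlgebra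
  let : Algebra Γ(Y, U) Γ(Y', V0) := (gY.appLE U V0 inf_le_left).hom.toAlgebra
  let : Algebra Γ(S, W) Γ(Y', V0) :=
    ((gY.appLE U V0 inf_le_left).hom.comp (b.appLE W U hUW).hom).toAlgebra
  have hsq := RpushLib.isPushout_sections hY hW hW' hg hU hUW
  have : IsScalarTower Γ(S, W) Γ(Y, U) Γ(Y', V0) := IsScalarTower.of_algebraMap_eq fun _ => rfl
  have : IsScalarTower Γ(S, W) Γ(S', W') Γ(Y', V0) := IsScalarTower.of_algebraMap_eq fun r => congr($(hsq.w) r)
  have : Algebra.IsPushout Γ(S, W) Γ(S', W') Γ(Y, U) Γ(Y', V0) :=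
    (CommRingCat.isPushout_iff_isPushout (R := Γ(S, W)) (S := Γ(Y, U)) (R' := Γ(S', W'))
      (S' := Γ(Y', V0))).mp hsq.flip
  have hid : U' ≤ (𝟙 Y' : Y' ⟶ Y') ⁻¹ᵁ V0 := hUV
  let : Algebra Γ(Y', V0) Γ(Y', U') := ((𝟙 Y' : Y' ⟶ Y').appLE V0 U' hid).hom.toAlgebra
  have : Module.Flat Γ(Y', V0) Γ(Y', U') :=
    RingHom.flat_algebraMap_iff.mp ((𝟙 Y' : Y' ⟶ Y').flat_appLE hV0 hU' hid)
  have : IsScalarTower Γ(Y, U) Γ(Y', V0) Γ(Y', U') := IsScalarTower.of_algebraMap_eq fun r => by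
    have e := Scheme.Hom.appLE_comp_appLE (𝟙 Y') gY U V0 U' inf_le_left hid
    simp only [Category.id_comp] at e
    exact congr($(e.symm) r)
  have := isSeparated_piece (f := f) hU
  have := quasiCompact_overW (f := f) hU
  obtain ⟨n, 𝒰, hcov, haff⟩ := exists_affine_cover (overW f hU)
  let G := F.restrict (f ⁻¹ᵁ U).ι
  have hu := univ_rsCh (overW f hU) hcov haff G
  have H0 : IsPullback (𝟙 _) (overW f hU) (overW f hU)
      (Spec.map (CommRingCat.ofHom (algebraMap Γ(Y, U) Γ(Y, U)))) := by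
    have e : CommRingCat.ofHom (algebraMap Γ(Y, U) Γ(Y, U)) = 𝟙 (CommRingCat.of Γ(Y, U)) := rfl
    rw [e, Spec.map_id]
    exact IsPullback.of_id_fst
  let H' := isPullback_piece hX hU hU' hle
  have H'' : IsPullback (kPiece hX.w U hle ≫ 𝟙 _) (overW f' hU') (overW f hU)
      (Spec.map (CommRingCat.ofHom (algebraMap Γ(Y, U) Γ(Y', U')))) := by
    rw [Category.comp_id]
    exact H'
  refine (bijective_pullClass_iff H0 H' hu H'' ((Scheme.Modules.pullbackId _).app G)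
    (psiPiece hX.w U hle F) p).2 ?_
  let K := Kc (overW f hU) (rsCh 𝒰 G)
  let : ∀ q, Module Γ(S, W) (K.X q) := fun q => Module.compHom (K.X q) (b.appLE W U hUW).hom
  have : ∀ q, IsScalarTower Γ(S, W) Γ(Y, U) (K.X q) := fun q => IsScalarTower.of_algebraMap_smul fun _ _ => rfl
  have hflat : ∀ q, Module.Flat Γ(S, W) (K.X q) := fun q => by
    have := flat_rsCh 𝒰 haff (overW f hU ≫ Spec.map (CommRingCat.ofHom (b.appLE W U hUW).hom)) hcov G
      (isFlatOver_piece a b f hf F hF hW hU hUW) q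
    let e : (K.X q : Type u) ≃ₗ[Γ(S, W)]
        ((secFun ⊤ (secA (overW f hU ≫ Spec.map (CommRingCat.ofHom (b.appLE W U hUW).hom)) ⊤)).obj
          ((rsCh 𝒰 G).C q) : Type u) :=
      { toFun := fun m => (show Γ((rsCh 𝒰 G).C q, ⊤) from m)
        invFun := fun m => (show Γ((rsCh 𝒰 G).C q, ⊤) from m)
        map_add' := fun _ _ => rfl
        map_smul' := fun r m => congrArg
          (fun c : Γ((f ⁻¹ᵁ U : Scheme.{u}), ⊤) => c • (show Γ((rsCh 𝒰 G).C q, ⊤) from m))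
          (secA_comp_spec (overW f hU) (b.appLE W U hUW).hom r).symm
        left_inv := fun _ => rfl
        right_inv := fun _ => rfl }
    exact Module.Flat.of_linearEquiv e
  have hH : ∀ q, Module.Flat Γ(S, W) (HmK K q) := fun q => by
    have := RpushLib.isQCoh_Rpush f F q
    let : Module Γ(S, W) Γ((Coh.Rpush f q).obj F, U) := Module.compHom _ (b.appLE W U hUW).hom
    have := flat_sections_over b ((Coh.Rpush f q).obj F) (hR q) hW hU hUW
    let e : HmK K q ≃ₗ[Γ(Y, U)] ((secFun U (RingHom.id Γ(Y, U))).obj ((Coh.Rpush f q).obj F) : Type u) :=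
      (thdK (overW f hU) (rsCh 𝒰 G) q (rsCh_exact 𝒰 hcov G) hu.acyclic).trans
        (LinearEquiv.ofBijective (epsLin E hU F q) (eps_bijective_affine E F hU q))
    exact Module.Flat.of_linearEquiv (R := Γ(S, W)) (N := HmK K q) (M := Γ((Coh.Rpush f q).obj F, U))
      { e.toAddEquiv with
        map_smul' := fun r x => by
          refine (congrArg e (algebraMap_smul Γ(Y, U) r x).symm).trans ((map_smul e _ x).trans ?_)
          rfl }
  have key := canHm_bijective_of_flat_base Γ(S, W) K hflat n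
    (fun T _ _ q hq y hy => exact_baseChange_high hcov haff G T q hq y hy) hH Γ(S', W') Γ(Y', V0) Γ(Y', U') p
  exact canHm_bijective_congr (TensorProduct.lid Γ(Y, U) _).symm (TensorProduct.lid Γ(Y, U) _).symm
    (TensorProduct.lid Γ(Y, U) _).symm Γ(Y', U')
    (fun x => ((LinearMap.baseChange_tmul (f := (K.d (p - 1) p).hom) (A := Γ(Y, U)) 1 x)).symm)
    (fun x => ((LinearMap.baseChange_tmul (f := (K.d p (p + 1)).hom) (A := Γ(Y, U)) 1 x)).symm) key

variable {Δ' : RDer.DerivedLES (Scheme.Modules.pushforward f')} (E' : CohCmp.SectCmp f' Δ')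
  (B : CohCmp.GenBC f gY f' gX hX.w E E')

include hY hf hF hR in
/-- Formation of flat higher direct images of a flat module commutes with base change. -/
theorem isIso_bc_of_flat (n : ℕ) : IsIso (B.bc n F) := by
  have : IsSeparated f' := MorphismProperty.of_isPullback hX ‹_›
  have : QuasiCompact f' := MorphismProperty.of_isPullback hX ‹_›
  have := RpushLib.isQCoh_Rpush f F n
  refine isIso_homEquiv_symm_of gY (B.φ n F) (fun U U' => ∃ (W : S.Opens) (W' : S'.Opens),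
    IsAffineOpen W ∧ IsAffineOpen W' ∧ W' ≤ g ⁻¹ᵁ W ∧ U ≤ b ⁻¹ᵁ W ∧ U' ≤ b' ⁻¹ᵁ W') ?_ ?_
  · refine Opens.isBasis_iff_nbhd.mpr fun {O y} hy => ?_
    obtain ⟨W, hW, hyW, -⟩ := Opens.isBasis_iff_nbhd.mp S.isBasis_affineOpens (Opens.mem_top (g (b' y)))
    obtain ⟨W', hW', hyW', hWW⟩ := Opens.isBasis_iff_nbhd.mp S'.isBasis_affineOpens
      (show b' y ∈ g ⁻¹ᵁ W from hyW)
    have hyb : gY y ∈ b ⁻¹ᵁ W := by
      change b (gY y) ∈ W
      rw [← Scheme.Hom.comp_apply, hY.w, Scheme.Hom.comp_apply]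
      exact hyW
    obtain ⟨U, hU, hyU, hUW⟩ := Opens.isBasis_iff_nbhd.mp Y.isBasis_affineOpens hyb
    obtain ⟨U', hU', hyU', hle⟩ := Opens.isBasis_iff_nbhd.mp Y'.isBasis_affineOpens
      (show y ∈ O ⊓ (gY ⁻¹ᵁ U ⊓ b' ⁻¹ᵁ W') from ⟨hy, hyU, hyW'⟩)
    exact ⟨U', ⟨hU', U, hU, hle.trans (inf_le_right.trans inf_le_left), W, W', hW, hW', hWW, hUW,
      hle.trans (inf_le_right.trans inf_le_right)⟩, hyU', hle.trans inf_le_left⟩
  · rintro U U' hU hU' ⟨W, W', hW, hW', hWW, hUW, hU'W⟩ hle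
    exact (bijective_secMap_iff E hX E' B F n hU hU' hle).1.2
      (bijective_pieceClass_flat a b f hf g gY b' hY gX f' hX F hF hR E n hW hW' hWW hU hUW hU' hle hU'W)

end CohCmpLib
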