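import Groth.Agent.CohCmpLib.ChartFibre
import Groth.Agent.CohBCLib.FreeNhd
import Groth.Agent.KFlatLib.PerfectPull

/-! Criteria for base change of higher direct images. -/

set_option autoImplicit false
set_option maxRecDepth 8000

universe u

open CategoryTheory CategoryTheory.Limits AlgebraicGeometry TopologicalSpace Opposite TensorProduct
open RpushLib (overW)
open FlatCxLib (Hm fibreRank)

namespace CohCmpLib

/-- A module that vanishes locally on an open vanishes on it. -/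
theorem isZero_restrict_of_nhds {S : Scheme.{u}} (G : S.Modules) (U : S.Opens)
    (h : ∀ x ∈ U, ∃ O : S.Opens, x ∈ O ∧ IsZero (G.restrict O.ι)) : IsZero (G.restrict U.ι) := by
  rw [IsZero.iff_id_eq_zero]
  apply Scheme.Modules.hom_ext
  intro t
  refine ConcreteCategory.hom_ext _ _ fun z => ?_
  change z = 0
  choose O hxO hO using h
  let T := U.ι ''ᵁ t
  refine TopCat.Sheaf.eq_of_locally_eq' ((QCohLib.toAbF S).obj G : TopCat.Sheaf AddCommGrpCat _)
    (fun x : T => ((O x.1 (U.ι_image_le t x.2)).ι ''ᵁ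
      ((O x.1 (U.ι_image_le t x.2)).ι ⁻¹ᵁ T) : S.Opens)) T
    (fun x => homOfLE (Scheme.Hom.image_preimage_le _ T)) (fun p hp => ?_) z 0 (fun x => ?_)
  · refine Opens.mem_iSup.mpr ⟨⟨p, hp⟩, ?_⟩
    exact ⟨⟨p, hxO p (U.ι_image_le t hp)⟩, hp, rfl⟩
  · let Ox := O x.1 (U.ι_image_le t x.2)
    have hz : Subsingleton Γ(G.restrict Ox.ι, Ox.ι ⁻¹ᵁ T) := by
      refine subsingleton_of_forall_eq 0 fun w => ?_
      exact congr(Scheme.Modules.Hom.app $((IsZero.iff_id_eq_zero _).1 (hO x.1 (U.ι_image_le t x.2))) (Ox.ι ⁻¹ᵁ T) w)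
    exact hz.elim _ _

/-- Local freeness of a restriction. -/
theorem isFinLocFree_restrict_of_nhds {S : Scheme.{u}} (G : S.Modules) (U : S.Opens)
    (h : ∀ x ∈ U, ∃ (O : S.Opens) (n : ℕ), x ∈ O ∧ Nonempty (G.restrict O.ι ≅ FlatMod.freeMod (↑O) n)) :
    FlatMod.IsFinLocFree (G.restrict U.ι) := fun x => by
  obtain ⟨O, n, hx, ⟨e⟩⟩ := h x.1 x.2
  exact ⟨U.ι ⁻¹ᵁ O, n, hx, ⟨(Scheme.Modules.restrictFunctor (U.ι ⁻¹ᵁ O).ι).mapIso
    ((Scheme.Modules.restrictFunctorIsoPullback U.ι).app G) ≪≫ (KFlatLib.restrictPullIso U.ι O).app G ≪≫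
    (Scheme.Modules.pullback (U.ι ∣_ O)).mapIso e ≪≫ KFlatLib.pullFreeIso (U.ι ∣_ O) n⟩⟩

variable {X S : Scheme.{u}} {f : X ⟶ S} {F : X.Modules} {W : S.Opens} (K : Chart f F W)

/-- Flatness of the cokernel over an affine open. -/
def Chart.FlAt (p : ℕ) {V : S.Opens} (hle : V ≤ W) : Prop :=
  letI := K.alg hle
  K.Fl p Γ(S, V)

theorem Chart.flAt_mono {p : ℕ} {V V' : S.Opens} {hle : V ≤ W} (h : K.FlAt p hle) (h' : V' ≤ V) :
    K.FlAt p (h'.trans hle) := by
  let := K.alg hle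
  let := K.alg (h'.trans hle)
  let : Algebra Γ(S, V) Γ(S, V') := (S.presheaf.map (homOfLE h').op).hom.toAlgebra
  have : IsScalarTower K.A₀ Γ(S, V) Γ(S, V') := IsScalarTower.of_algebraMap_eq fun a => by
    change S.presheaf.map (homOfLE (h'.trans hle)).op (K.φ a) =
      S.presheaf.map (homOfLE h').op (S.presheaf.map (homOfLE hle).op (K.φ a))
    rw [← CategoryTheory.comp_apply, ← Functor.map_comp]
    rfl
  exact K.fl_mono Γ(S, V) Γ(S, V') p h

/-- Conditions holding after localisation hold on a neighbourhood. -/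
theorem Chart.exists_basic {V : S.Opens} (hV : IsAffineOpen V) (hle : V ≤ W) (q : PrimeSpectrum Γ(S, V))
    (P : ∀ (D : Type u) [CommRing D] [Algebra K.A₀ D], Prop)
    (h : letI := K.alg hle
      ∃ r : Γ(S, V), r ∉ q.asIdeal ∧ ∀ (D : Type u) [CommRing D] [Algebra K.A₀ D] [Algebra Γ(S, V) D]
        [IsScalarTower K.A₀ Γ(S, V) D] [IsLocalization.Away r D], P D) :
    ∃ (V' : S.Opens) (hle' : V' ≤ W), V' ≤ V ∧ IsAffineOpen V' ∧ hV.fromSpec q ∈ V' ∧
      letI := K.alg hle'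
      P Γ(S, V') := by
  let := K.alg hle
  obtain ⟨r, hr, hP⟩ := h
  let V' := S.basicOpen r
  have h' : V' ≤ V := S.basicOpen_le r
  let := K.alg (h'.trans hle)
  let : Algebra Γ(S, V) Γ(S, V') := (S.presheaf.map (homOfLE h').op).hom.toAlgebra
  have : IsScalarTower K.A₀ Γ(S, V) Γ(S, V') := IsScalarTower.of_algebraMap_eq fun a => by
    change S.presheaf.map (homOfLE (h'.trans hle)).op (K.φ a) =
      S.presheaf.map (homOfLE h').op (S.presheaf.map (homOfLE hle).op (K.φ a))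
    rw [← CategoryTheory.comp_apply, ← Functor.map_comp]
    rfl
  have : IsLocalization.Away r Γ(S, V') := hV.isLocalization_basicOpen r
  refine ⟨V', h'.trans hle, h', hV.basicOpen r, ?_, hP Γ(S, V')⟩
  change q ∈ hV.fromSpec ⁻¹ᵁ S.basicOpen r
  rw [hV.fromSpec_preimage_basicOpen]
  exact hr

variable [IsSeparated f] [QuasiCompact f] [Coh.IsQCoh F] [HasInjectiveResolutions X.Modules]
  {Δ : RDer.DerivedLES (Scheme.Modules.pushforward f)} (E : CohCmp.SectCmp f Δ)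

variable (f F) in
/-- Base change holds in degree `p` near `y`. -/
def CompatAt (p : ℕ) (y : S) : Prop :=
  ∃ (W : S.Opens) (K : Chart f F W) (V : S.Opens) (hle : V ≤ W),
    IsAffineOpen V ∧ y ∈ V ∧ K.FlAt (p + 1) hle

/-- Base change holds over a locus of compatibility. -/
theorem isIso_bc_of_compatAt {X' S' : Scheme.{u}} {g : S' ⟶ S} {f' : X' ⟶ S'} {g' : X' ⟶ X}
    (H : IsPullback g' f' f g) [HasInjectiveResolutions X'.Modules]
    {Δ' : RDer.DerivedLES (Scheme.Modules.pushforward f')} (E' : CohCmp.SectCmp f' Δ')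
    (B : CohCmp.GenBC f g f' g' H.w E E') (p : ℕ) (h : ∀ z : S', CompatAt f F p (g z)) :
    IsIso (B.bc p F) := by
  have := RpushLib.isQCoh_Rpush f F p
  refine isIso_homEquiv_symm_of g (B.φ p F) (fun U _ => ∃ (W : S.Opens) (K : Chart f F W) (hle : U ≤ W),
    K.FlAt (p + 1) hle) ?_ ?_
  · refine Opens.isBasis_iff_nbhd.mpr fun {O z} hz => ?_
    obtain ⟨W, K, V, hle, hV, hzV, hfl⟩ := h z
    obtain ⟨U', hU', hzU', hle'⟩ := Opens.isBasis_iff_nbhd.mp S'.isBasis_affineOpens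
      (show z ∈ O ⊓ g ⁻¹ᵁ V from ⟨hz, hzV⟩)
    exact ⟨U', ⟨hU', V, hV, hle'.trans inf_le_right, W, K, hle, hfl⟩, hzU', hle'.trans inf_le_left⟩
  · rintro U U' hU hU' ⟨W, K, hW, hfl⟩ hle
    let := (g.appLE U U' hle).hom.toAlgebra
    let := K.alg hW
    let : Algebra K.A₀ Γ(S', U') :=
      ((algebraMap Γ(S, U) Γ(S', U')).comp (algebraMap K.A₀ Γ(S, U))).toAlgebra
    have : IsScalarTower K.A₀ Γ(S, U) Γ(S', U') := IsScalarTower.of_algebraMap_eq fun _ => rfl
    exact (K.secMap_iff E H E' B hU hW hU' hle p).1.2 (K.bijective_canHm Γ(S, U) p hfl Γ(S', U'))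

variable {V : S.Opens} (hV : IsAffineOpen V) (hle : V ≤ W)

include E hle in
/-- An epimorphism at a point gives flatness near it. -/
theorem Chart.exists_fl_of_epi (p : ℕ) (q : PrimeSpectrum Γ(S, V))
    [HasInjectiveResolutions (f.fiber (hV.fromSpec q)).Modules]
    {Δs : RDer.DerivedLES (Scheme.Modules.pushforward (f.fiberToSpecResidueField (hV.fromSpec q)))}
    (Es : CohCmp.SectCmp (f.fiberToSpecResidueField (hV.fromSpec q)) Δs)
    (Bs : CohCmp.GenBC f (S.fromSpecResidueField (hV.fromSpec q)) (f.fiberToSpecResidueField (hV.fromSpec q))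
      (f.fiberι (hV.fromSpec q)) (f.fiber_fac (hV.fromSpec q)) E Es)
    (h : Epi (Bs.bc p F)) :
    ∃ (V' : S.Opens) (hle' : V' ≤ W), V' ≤ V ∧ IsAffineOpen V' ∧ hV.fromSpec q ∈ V' ∧ K.FlAt (p + 1) hle' := by
  let := K.alg hle
  obtain ⟨r, hr, hD⟩ := exists_flat_of_surjective (K.a p) (K.b p) (K.hab p) q
    ((K.epi_fibre_iff hV hle E p q Es Bs).1 h)
  exact K.exists_basic hV hle q (fun D _ _ => K.Fl (p + 1) D)
    ⟨r, hr, fun D _ _ _ _ _ => (K.fl_succ_iff D p).1 (hD D)⟩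

include hV hle in
omit [IsSeparated f] [QuasiCompact f] [Coh.IsQCoh F] [HasInjectiveResolutions X.Modules] in
/-- Vanishing at a point spreads to a neighbourhood. -/
theorem Chart.exists_zero_nhd (p : ℕ) {y : S} (hy : y ∈ V) (h : Subsingleton (CohIII.fiberH f F y p)) :
    ∃ (V' : S.Opens) (hle' : V' ≤ W), V' ≤ V ∧ IsAffineOpen V' ∧ y ∈ V' ∧ K.FlAt p hle' ∧ K.FlAt (p + 1) hle' ∧
      (letI := K.alg hle'
       Subsingleton (HmB (K.a p) (K.b p) Γ(S, V'))) := by
  obtain ⟨q, rfl⟩ := exists_fromSpec hV hy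
  have hq : letI := K.alg hle
      ∃ r : Γ(S, V), r ∉ q.asIdeal ∧ ∀ (D : Type u) [CommRing D] [Algebra K.A₀ D] [Algebra Γ(S, V) D]
        [IsScalarTower K.A₀ Γ(S, V) D] [IsLocalization.Away r D], K.Fl (p + 1) D := by
    let := K.alg hle
    let k := q.asIdeal.ResidueField
    have := (K.fibre_spec hV hle p q).2.1 h
    have hs : Function.Surjective (canHm ((K.a p).baseChange Γ(S, V)) ((K.b p).baseChange Γ(S, V)) k) := by
      have := (towEquiv (B := Γ(S, V)) (B' := k) (K.a p) (K.b p)).toEquiv.subsingleton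
      exact fun z => ⟨0, Subsingleton.elim _ _⟩
    obtain ⟨r, hr, hD⟩ := exists_flat_of_surjective (K.a p) (K.b p) (K.hab p) q hs
    exact ⟨r, hr, fun D _ _ _ _ _ => (K.fl_succ_iff D p).1 (hD D)⟩
  obtain ⟨V₁, h₁, h₁V, hV₁, hy₁, hf₁⟩ := K.exists_basic hV hle q (fun D _ _ => K.Fl (p + 1) D) hq
  obtain ⟨q₁, hq₁⟩ := exists_fromSpec hV₁ hy₁
  have hq' : letI := K.alg h₁
      ∃ r : Γ(S, V₁), r ∉ q₁.asIdeal ∧ ∀ (D : Type u) [CommRing D] [Algebra K.A₀ D] [Algebra Γ(S, V₁) D]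
        [IsScalarTower K.A₀ Γ(S, V₁) D] [IsLocalization.Away r D],
        K.Fl p D ∧ K.Fl (p + 1) D ∧ Subsingleton (HmB (K.a p) (K.b p) D) := by
    let := K.alg h₁
    let k := q₁.asIdeal.ResidueField
    have hflb := (K.fl_succ_iff Γ(S, V₁) p).2 hf₁
    have hsub := (K.fibre_spec hV₁ h₁ p q₁).2.1 (by rw [hq₁]; exact h)
    obtain ⟨r, hr, hD⟩ := exists_subsingleton_of_flat (K.a p) (K.b p) (K.hab p) q₁ hsub
    exact ⟨r, hr, fun D _ _ _ _ _ => ⟨(hD D).2.1, (K.fl_succ_iff D p).1 (hD D).2.2, (hD D).1⟩⟩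
  obtain ⟨V₂, h₂, h₂V, hV₂, hy₂, hfa, hfb, hz⟩ := K.exists_basic hV₁ h₁ q₁
    (fun D _ _ => K.Fl p D ∧ K.Fl (p + 1) D ∧ Subsingleton (HmB (K.a p) (K.b p) D)) hq'
  exact ⟨V₂, h₂, h₂V.trans h₁V, hV₂, hq₁ ▸ hy₂, hfa, hfb, hz⟩

include E hV in
/-- The sections vanish where the homology does. -/
theorem Chart.isZero_nhd (p : ℕ) (hz : letI := K.alg hle
      Subsingleton (HmB (K.a p) (K.b p) Γ(S, V))) :
    IsZero (((Coh.Rpush f p).obj F).restrict V.ι) := by
  let := K.alg hle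
  have := RpushLib.isQCoh_Rpush f F p
  obtain ⟨e⟩ := K.nonempty_secEquiv E hV hle p
  have : Subsingleton Γ((Coh.Rpush f p).obj F, V) := e.symm.toEquiv.subsingleton
  refine isZero_restrict_of_nhds _ V fun x hx => ?_
  obtain ⟨q, rfl⟩ := exists_fromSpec hV hx
  exact CohBCLib.exists_zero_nhd hV _ q fun h => by
    obtain ⟨m, hm⟩ := Module.mem_support_iff_exists_annihilator.1 h
    have hm0 : m = 0 := Subsingleton.elim _ _
    rw [hm0, Submodule.span_zero_singleton, Submodule.annihilator_bot] at hm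
    exact q.2.ne_top (top_le_iff.1 hm)

include E hV in
/-- Two flat cokernels give free neighbourhoods of the expected rank. -/
theorem Chart.exists_free_nhd (p : ℕ) (h0 : K.FlAt p hle) (h1 : K.FlAt (p + 1) hle) {y : S} (hy : y ∈ V) :
    ∃ U : S.Opens, y ∈ U ∧ Nonempty (((Coh.Rpush f p).obj F).restrict U.ι ≅
      FlatMod.freeMod (↑U) (CohIII.fiberRank f F p y)) := by
  obtain ⟨q, rfl⟩ := exists_fromSpec hV hy
  let := K.alg hle
  let k := q.asIdeal.ResidueField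
  have := RpushLib.isQCoh_Rpush f F p
  obtain ⟨e⟩ := K.nonempty_secEquiv E hV hle p
  have hfb : Module.Flat Γ(S, V) (cokB (K.b p) Γ(S, V)) := (K.fl_succ_iff _ p).2 h1
  have : Module.Flat Γ(S, V) (cokB (K.a p) Γ(S, V)) := h0
  have : Module.Projective Γ(S, V) (Γ(S, V) ⊗[K.A₀] (K.mdl.P.X (p : ℤ) : Type u) ⧸
      LinearMap.range ((K.a p).baseChange Γ(S, V))) := projective_cokB (K.a p)
  have : Module.Projective Γ(S, V) (Γ(S, V) ⊗[K.A₀] (K.mdl.P.X ((p + 1 : ℕ) : ℤ) : Type u) ⧸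
      LinearMap.range ((K.b p).baseChange Γ(S, V))) := projective_cokB (K.b p)
  obtain ⟨hfin, hproj⟩ := projective_hm ((K.a p).baseChange Γ(S, V)) ((K.b p).baseChange Γ(S, V))
    (baseChange_comp_eq_zero (K.a p) (K.b p) (K.hab p))
  have : Module.Finite Γ(S, V) Γ((Coh.Rpush f p).obj F, V) := Module.Finite.equiv e
  have : Module.Projective Γ(S, V) Γ((Coh.Rpush f p).obj F, V) := Module.Projective.of_equiv e
  refine CohBCLib.exists_free_nhd hV _ q ?_
  rw [(K.fibre_spec hV hle p q).1, ← (CohBCLib.fibreRank_congr e q)]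
  exact ((LinearEquiv.ofBijective _ (K.bijective_canHm Γ(S, V) p h1 k)).trans
    (towEquiv (K.a p) (K.b p))).finrank_eq

include hV in
omit [IsSeparated f] [QuasiCompact f] [Coh.IsQCoh F] [HasInjectiveResolutions X.Modules] in
/-- Rank of fibres is locally constant where both cokernels are flat. -/
theorem Chart.eventually_fiberRank (p : ℕ) (h0 : K.FlAt p hle) (h1 : K.FlAt (p + 1) hle) :
    IsLocallyConstant fun v : V => CohIII.fiberRank f F p v.1 := by
  let := K.alg hle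
  have hfb : Module.Flat Γ(S, V) (cokB (K.b p) Γ(S, V)) := (K.fl_succ_iff _ p).2 h1
  have : Module.Flat Γ(S, V) (cokB (K.a p) Γ(S, V)) := h0
  have := projective_cokB (K.a p) (C := Γ(S, V))
  have := projective_cokB (K.b p) (C := Γ(S, V))
  have hl : IsLocallyConstant fun q : PrimeSpectrum Γ(S, V) => CohIII.fiberRank f F p (hV.fromSpec q) := by
    have := finitePresentation_cokB (K.a p) (C := Γ(S, V))
    have := finitePresentation_cokB (K.b p) (C := Γ(S, V))
    have : Module.FinitePresentation Γ(S, V) (Γ(S, V) ⊗[K.A₀] (K.mdl.P.X ((p + 1 : ℕ) : ℤ) : Type u)) :=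
      Module.finitePresentation_of_projective _ _
    have e : (fun q : PrimeSpectrum Γ(S, V) => CohIII.fiberRank f F p (hV.fromSpec q)) = fun q =>
        Module.rankAtStalk (cokB (K.a p) Γ(S, V)) q + Module.rankAtStalk (cokB (K.b p) Γ(S, V)) q -
          Module.rankAtStalk (Γ(S, V) ⊗[K.A₀] (K.mdl.P.X ((p + 1 : ℕ) : ℤ) : Type u)) q := by
      funext q
      let k := q.asIdeal.ResidueField
      rw [(K.fibre_spec hV hle p q).1, ← FlatCxLib.fibreRank_eq_rankAtStalk,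
        ← FlatCxLib.fibreRank_eq_rankAtStalk, ← FlatCxLib.fibreRank_eq_rankAtStalk,
        ← finrank_HmB_residue (K.a p) (K.b p) (K.hab p) q, Nat.add_sub_cancel]
    rw [e]
    exact ((Module.isLocallyConstant_rankAtStalk.prodMk Module.isLocallyConstant_rankAtStalk).prodMk
      Module.isLocallyConstant_rankAtStalk).comp fun n : (ℕ × ℕ) × ℕ => n.1.1 + n.1.2 - n.2
  have hi : Topology.IsOpenEmbedding hV.fromSpec := hV.fromSpec.isOpenEmbedding
  rw [IsLocallyConstant.iff_exists_open]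
  intro v
  obtain ⟨q, hq⟩ := exists_fromSpec hV v.2
  obtain ⟨O, hO, hqO, hc⟩ := hl.exists_open q
  refine ⟨Subtype.val ⁻¹' (hV.fromSpec '' O), (hi.isOpenMap O hO).preimage continuous_subtype_val,
    ⟨q, hqO, hq⟩, ?_⟩
  rintro w ⟨q', hq', hw⟩
  rw [← hw, ← hq]
  exact hc q' hq'

end CohCmpLib
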