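import Groth.Agent.CohCmpLib.Alg
import Groth.Agent.RankLocusLib.Alg
import Groth.Agent.CohBCLib.Rows
import Mathlib.RingTheory.Localization.Free

/-!
The two cokernels of a three-term sequence as a single module: its rank controls the middle homology.
-/

set_option autoImplicit false

universe u

open scoped TensorProduct
open FlatCxLib (Hm fibreRank)

namespace CohCmpLib

variable {A : Type u} [CommRing A] {U V W : Type u} [AddCommGroup U] [Module A U]
  [AddCommGroup V] [Module A V] [AddCommGroup W] [Module A W] (a : U →ₗ[A] V) (b : V →ₗ[A] W)

/-- The two cokernels as one module. -/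
abbrev stratMod : Type u := (V ⧸ LinearMap.range a) × (W ⧸ LinearMap.range b)

variable (C : Type u) [CommRing C] [Algebra A C]

/-- Cokernels commute with base change. -/
noncomputable def cokEquiv : C ⊗[A] (V ⧸ LinearMap.range a) ≃ₗ[C] cokB a C :=
  let g := (LinearMap.range a).mkQ.baseChange C
  have hsurj : Function.Surjective g := LinearMap.lTensor_surjective C (Submodule.mkQ_surjective _)
  have hker : LinearMap.ker g = LinearMap.range (a.baseChange C) := by
    ext x
    exact lTensor_exact C (LinearMap.exact_map_mkQ_range a) (Submodule.mkQ_surjective _) x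
  (g.quotKerEquivOfSurjective hsurj).symm ≪≫ₗ Submodule.quotEquivOfEq _ _ hker

/-- The base change of the module of the two cokernels. -/
noncomputable def stratEquiv : C ⊗[A] stratMod a b ≃ₗ[C] cokB a C × cokB b C :=
  TensorProduct.prodRight A C C _ _ ≪≫ₗ (cokEquiv a C).prodCongr (cokEquiv b C)

theorem flat_of_stratMod_flat [Module.Flat C (C ⊗[A] stratMod a b)] :
    Module.Flat C (cokB a C) ∧ Module.Flat C (cokB b C) :=
  ⟨Module.Flat.of_retract ((stratEquiv a b C).symm.toLinearMap ∘ₗ LinearMap.inl C (cokB a C) (cokB b C))
      (LinearMap.fst C (cokB a C) (cokB b C) ∘ₗ (stratEquiv a b C).toLinearMap) (LinearMap.ext fun x => by simp),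
    Module.Flat.of_retract ((stratEquiv a b C).symm.toLinearMap ∘ₗ LinearMap.inr C (cokB a C) (cokB b C))
      (LinearMap.snd C (cokB a C) (cokB b C) ∘ₗ (stratEquiv a b C).toLinearMap) (LinearMap.ext fun x => by simp)⟩

theorem fibreRank_baseChange (M : Type u) [AddCommGroup M] [Module A M] (q : PrimeSpectrum C) :
    fibreRank (C ⊗[A] M) q = fibreRank M (PrimeSpectrum.comap (algebraMap A C) q) := by
  let K := q.asIdeal.ResidueField
  set p := PrimeSpectrum.comap (algebraMap A C) q with hp
  let k := p.asIdeal.ResidueField
  letI : Algebra k K := (Ideal.ResidueField.map p.asIdeal q.asIdeal (algebraMap A C) rfl).toAlgebra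
  haveI : IsScalarTower A k K := IsScalarTower.of_algebraMap_eq fun x => by
    rw [RingHom.algebraMap_toAlgebra, Ideal.ResidueField.map_algebraMap,
      IsScalarTower.algebraMap_apply A C K]
  rw [fibreRank, fibreRank, ← Module.finrank_baseChange (R := K) (M' := k ⊗[A] M),
    (TensorProduct.AlgebraTensorModule.cancelBaseChange A k K K M).finrank_eq,
    (TensorProduct.AlgebraTensorModule.cancelBaseChange A C K K M).finrank_eq]

theorem fibreRank_prod {M N : Type u} [AddCommGroup M] [Module C M] [AddCommGroup N] [Module C N]
    [Module.Finite C M] [Module.Finite C N] (q : PrimeSpectrum C) :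
    fibreRank (M × N) q = fibreRank M q + fibreRank N q := by
  let K := q.asIdeal.ResidueField
  rw [fibreRank, (TensorProduct.prodRight C K K M N).finrank_eq]
  exact Module.finrank_prod

variable {a b} (hab : b ∘ₗ a = 0) [Module.Finite A V] [Module.Finite A W] [Module.Free A W]

include hab in
/-- The rank of the two cokernels is the dimension of the homology, shifted by that of the last module. -/
theorem finrank_HmB_add (q : PrimeSpectrum C) :
    Module.finrank q.asIdeal.ResidueField (HmB a b q.asIdeal.ResidueField) + Module.finrank A W =
      fibreRank (C ⊗[A] stratMod a b) q := by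
  have : Nontrivial A := (algebraMap A q.asIdeal.ResidueField).domain_nontrivial
  have hW : fibreRank (C ⊗[A] W) q = Module.finrank A W := by
    rw [fibreRank, (TensorProduct.AlgebraTensorModule.cancelBaseChange A C _ _ W).finrank_eq,
      Module.finrank_baseChange]
  rw [← hW, finrank_HmB_residue a b hab q, ← fibreRank_prod,
    CohBCLib.fibreRank_congr (stratEquiv a b C) q]

omit [Module.Free A W] in
/-- The module of the two cokernels is finite. -/
theorem finite_stratMod : Module.Finite A (stratMod a b) := inferInstance

/-- Flat cokernels with the expected rank at a point give a basis near the point. -/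
theorem exists_basis_away [Module.Free A V] [Module.Finite A U] (ha : Module.Flat C (cokB a C))
    (hb : Module.Flat C (cokB b C)) (q : PrimeSpectrum C) {N : ℕ}
    (hN : fibreRank (C ⊗[A] stratMod a b) q = N) :
    ∃ r : C, r ∉ q.asIdeal ∧ ∀ (D : Type u) [CommRing D] [Algebra A D] [Algebra C D] [IsScalarTower A C D]
      [IsLocalization.Away r D], Nonempty (Module.Basis (Fin N) D (D ⊗[A] stratMod a b)) := by
  let P := C ⊗[A] stratMod a b
  have := projective_cokB a (C := C)
  have := projective_cokB b (C := C)
  have : Module.Projective C P := Module.Projective.of_equiv (stratEquiv a b C).symm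
  have : Module.FinitePresentation C P := Module.finitePresentation_of_projective _ _
  have : Module.Finite C P := inferInstance
  have : Module.Flat C P := inferInstance
  have : Module.Free (Localization.AtPrime q.asIdeal) (Localization.AtPrime q.asIdeal ⊗[C] P) :=
    Module.free_of_flat_of_isLocalRing
  obtain ⟨r, hr, hfree, hrank⟩ := Module.FinitePresentation.exists_free_localizedModule_powers
    q.asIdeal.primeCompl (TensorProduct.mk C (Localization.AtPrime q.asIdeal) P 1)
    (Localization.AtPrime q.asIdeal)
  let L := Localization.Away r
  have hrank' : Module.finrank L (LocalizedModule.Away r P) = N := by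
    rw [← hN, FlatCxLib.fibreRank_eq_rankAtStalk, Module.rankAtStalk_eq_finrank_tensorProduct]
    exact hrank
  have : Nontrivial L := (IsLocalization.lift (M := Submonoid.powers r)
    (g := algebraMap C (Localization.AtPrime q.asIdeal)) fun y =>
      IsLocalization.map_units (Localization.AtPrime q.asIdeal)
        (⟨y.1, (Submonoid.powers_le (P := q.asIdeal.primeCompl)).2 hr y.2⟩ :
          q.asIdeal.primeCompl)).domain_nontrivial
  let β : Module.Basis (Fin N) L (L ⊗[C] P) := (Module.finBasisOfFinrankEq _ _ hrank').map
    ((IsLocalizedModule.isBaseChange (Submonoid.powers r) L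
      (LocalizedModule.mkLinearMap (Submonoid.powers r) P)).equiv).symm
  refine ⟨r, hr, fun D _ _ _ _ _ => ?_⟩
  let eD : L ≃ₐ[C] D := IsLocalization.algEquiv (Submonoid.powers r) L D
  let : Algebra L D := eD.toRingEquiv.toRingHom.toAlgebra
  have : IsScalarTower C L D := IsScalarTower.of_algebraMap_eq fun x => (eD.commutes x).symm
  exact ⟨(β.baseChange D).map ((TensorProduct.AlgebraTensorModule.cancelBaseChange C L D D P) ≪≫ₗ
    TensorProduct.AlgebraTensorModule.cancelBaseChange A C D D (stratMod a b))⟩

end CohCmpLib
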