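import Groth.Agent.CohCmpLib.StratChart
import Groth.Agent.CohCmpLib.StratAlg
import Groth.Agent.RankLocusLib.Locus
import Groth.Agent.RankLocusLib.Tilde

/-!
The condition on a model cutting out the stratum of fixed degree-zero rank.
-/

set_option autoImplicit false
set_option maxRecDepth 8000

noncomputable section

universe u

open CategoryTheory CategoryTheory.Limits AlgebraicGeometry TopologicalSpace Opposite
open scoped TensorProduct
open RankLocusLib (FreeAlong LocFreeAlong)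
open FlatCxLib (fibreRank)

namespace CohCmpLib

/-- Bases transport along isomorphisms of the coefficient ring. -/
theorem nonempty_basis_algEquiv {A B B' M : Type u} [CommRing A] [CommRing B] [CommRing B'] [Algebra A B]
    [Algebra A B'] [AddCommGroup M] [Module A M] (e : B ≃ₐ[A] B') {n : ℕ}
    (b : Module.Basis (Fin n) B (B ⊗[A] M)) : Nonempty (Module.Basis (Fin n) B' (B' ⊗[A] M)) := by
  let : Algebra B B' := e.toRingEquiv.toRingHom.toAlgebra
  have : IsScalarTower A B B' := IsScalarTower.of_algebraMap_eq fun x => (e.commutes x).symm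
  exact ⟨(b.baseChange B').map (TensorProduct.AlgebraTensorModule.cancelBaseChange A B B' B' M)⟩

/-- The fibre rank of a free module. -/
theorem fibreRank_of_basis {B M : Type u} [CommRing B] [AddCommGroup M] [Module B M] {n : ℕ}
    (b : Module.Basis (Fin n) B M) (q : PrimeSpectrum B) : fibreRank M q = n := by
  rw [fibreRank, Module.finrank_eq_card_basis (b.baseChange q.asIdeal.ResidueField), Fintype.card_fin]

/-- Global sections of a morphism to a spectrum, as scalars. -/
theorem secA_toSpecΓ {A : Type u} [CommRing A] {T : Scheme.{u}} {U : T.Opens}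
    (ψ : CommRingCat.of A ⟶ Γ(T, U)) :
    CohBCLib.secA (U.toSpecΓ ≫ Spec.map ψ) ⊤ = (ψ ≫ U.topIso.inv).hom := by
  have h : U.toSpecΓ ≫ Spec.map ψ = (U : Scheme.{u}).toSpecΓ ≫ Spec.map (ψ ≫ U.topIso.inv) := by
    rw [Scheme.Opens.toSpecΓ, Category.assoc, Spec.map_comp]
  rw [h]
  refine congrArg CommRingCat.Hom.hom ?_
  refine Eq.trans ?_ (RankLocusLib.appTop_toSpecΓ_SpecMap (ψ ≫ U.topIso.inv))
  refine congrArg ((Scheme.ΓSpecIso (CommRingCat.of A)).inv ≫ ·) ?_
  exact Scheme.Hom.appLE_eq_app _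

variable {X S : Scheme.{u}} {f : X ⟶ S} {F : X.Modules} {W : S.Opens} (K : Chart f F W)

/-- The module of the model cutting out the strata. -/
abbrev Chart.stratM : ModuleCat.{u} K.A₀ := ModuleCat.of K.A₀ (stratMod (K.a 0) (K.b 0))

/-- The rank of that module on the stratum of rank `r`. -/
def Chart.stratN (r : ℕ) : ℕ := r + Module.finrank K.A₀ (K.mdl.P.X ((0 + 1 : ℕ) : ℤ))

/-- The map to the base of the model. -/
def Chart.base : (W : Scheme.{u}) ⟶ Spec (CommRingCat.of K.A₀) :=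
  W.toSpecΓ ≫ Spec.map (CommRingCat.ofHom ((S.presheaf.map (homOfLE (le_refl W)).op).hom.comp K.φ))

/-- The condition over an open mapping into the base of the model. -/
def Chart.Free (r : ℕ) {T : Scheme.{u}} (u : T ⟶ S) {U : T.Opens} (hle : U ≤ u ⁻¹ᵁ W) : Prop :=
  FreeAlong (K.stratN r) (tilde (R := CommRingCat.of K.A₀) K.stratM) (u.resLE W U hle ≫ K.base)

theorem Chart.free_mono {r : ℕ} {T : Scheme.{u}} {u : T ⟶ S} {U U' : T.Opens} {hle : U ≤ u ⁻¹ᵁ W}
    (h : K.Free r u hle) (h' : U' ≤ U) : K.Free r u (h'.trans hle) := by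
  have := RankLocusLib.freeAlong_comp h (T.homOfLE h')
  rwa [← Category.assoc, Scheme.Hom.map_resLE] at this

theorem Chart.free_comp {r : ℕ} {T T' : Scheme.{u}} {u : T ⟶ S} (g : T' ⟶ T) {U : T.Opens}
    {hle : U ≤ u ⁻¹ᵁ W} (h : K.Free r u hle) {U' : T'.Opens} (h' : U' ≤ g ⁻¹ᵁ U) :
    K.Free r (g ≫ u) (show U' ≤ (g ≫ u) ⁻¹ᵁ W from fun _ hx => hle (h' hx)) := by
  have := RankLocusLib.freeAlong_comp h (g.resLE U U' h')
  rwa [← Category.assoc, Scheme.Hom.resLE_comp_resLE] at this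

/-- The condition over an affine open, as a basis. -/
theorem Chart.free_iff_basis (r : ℕ) {T : Scheme.{u}} (u : T ⟶ S) {U : T.Opens} (hU : IsAffineOpen U)
    (hle : U ≤ u ⁻¹ᵁ W) :
    letI := K.algMap u hle
    K.Free r u hle ↔ Nonempty (Module.Basis (Fin (K.stratN r)) Γ(T, U) (Γ(T, U) ⊗[K.A₀] K.stratM)) := by
  let := K.algMap u hle
  let h := u.resLE W U hle ≫ K.base
  let ψ : CommRingCat.of K.A₀ ⟶ Γ(T, U) :=
    CommRingCat.ofHom ((S.presheaf.map (homOfLE (le_refl W)).op).hom.comp K.φ) ≫ u.appLE W U hle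
  have hh : h = U.toSpecΓ ≫ Spec.map ψ := by
    rw [Spec.map_comp, ← Category.assoc, Scheme.Opens.toSpecΓ_SpecMap_appLE, Category.assoc]
    rfl
  have : IsAffine (U : Scheme.{u}) := hU
  let : Algebra K.A₀ Γ((U : Scheme.{u}), ⊤) := (CohBCLib.secA h ⊤).toAlgebra
  let e : Γ((U : Scheme.{u}), ⊤) ≃ₐ[K.A₀] Γ(T, U) :=
    AlgEquiv.ofRingEquiv (f := U.topIso.commRingCatIsoToRingEquiv) fun x => by
      change U.topIso.hom (CohBCLib.secA h ⊤ x) = ψ x
      rw [hh, secA_toSpecΓ]
      exact U.topIso.inv_hom_id_apply _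
  have key := RankLocusLib.freeAlong_tilde_iff h K.stratM (isAffineOpen_top (U : Scheme.{u})) (K.stratN r)
  constructor
  · intro hf
    obtain ⟨b⟩ := key.1 (RankLocusLib.freeAlong_comp hf _)
    exact nonempty_basis_algEquiv e b
  · rintro ⟨b⟩
    obtain ⟨b'⟩ := nonempty_basis_algEquiv e.symm b
    have hf := key.2 ⟨b'⟩
    haveI : IsIso (⊤ : (U : Scheme.{u}).Opens).ι := (U : Scheme.{u}).topIso.isIso_hom
    have h2 := RankLocusLib.freeAlong_comp hf (inv (⊤ : (U : Scheme.{u}).Opens).ι)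
    rwa [IsIso.inv_hom_id_assoc] at h2

/-- The point of the base ring of the model under a point of the base. -/
def Chart.pt (hW : IsAffineOpen W) {s : S} (hs : s ∈ W) : PrimeSpectrum K.A₀ :=
  letI := K.alg (le_refl W)
  PrimeSpectrum.comap (algebraMap K.A₀ Γ(S, W)) (hW.primeIdealOf ⟨s, hs⟩)

/-- Fibre dimensions through the module of the model. -/
theorem Chart.fiberRank_add (hW : IsAffineOpen W) {s : S} (hs : s ∈ W) :
    CohIII.fiberRank f F 0 s + Module.finrank K.A₀ (K.mdl.P.X ((0 + 1 : ℕ) : ℤ)) =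
      fibreRank K.stratM (K.pt hW hs) := by
  let := K.alg (le_refl W)
  have h := (K.fibre_spec hW le_rfl 0 (hW.primeIdealOf ⟨s, hs⟩)).1
  rw [hW.fromSpec_primeIdealOf] at h
  rw [h, finrank_HmB_add Γ(S, W) (K.hab 0), fibreRank_baseChange]
  rfl

/-- The points of a base change, in the base ring of the model. -/
theorem Chart.comap_algMap (hW : IsAffineOpen W) {T : Scheme.{u}} (u : T ⟶ S) {U : T.Opens}
    (hU : IsAffineOpen U) (hle : U ≤ u ⁻¹ᵁ W) {t : T} (ht : t ∈ U) :
    letI := K.algMap u hle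
    PrimeSpectrum.comap (algebraMap K.A₀ Γ(T, U)) (hU.primeIdealOf ⟨t, ht⟩) = K.pt hW (hle ht) := by
  let := K.algMap u hle
  rw [Chart.pt, ← IsAffineOpen.comap_primeIdealOf_appLE W hW U hU hle ht]
  rfl

/-- On the stratum the fibre dimension is `r`. -/
theorem Chart.fiberRank_of_free (hW : IsAffineOpen W) {r : ℕ} {T : Scheme.{u}} {u : T ⟶ S} {U : T.Opens}
    {hle : U ≤ u ⁻¹ᵁ W} (h : K.Free r u hle) {t : T} (ht : t ∈ U) : CohIII.fiberRank f F 0 (u t) = r := by
  obtain ⟨U', hU', htU', hle'⟩ := exists_isAffineOpen_mem_and_subset (X := T) (x := t) (U := U) ht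
  let := K.algMap u ((show U' ≤ U from hle').trans hle)
  obtain ⟨b⟩ := (K.free_iff_basis r u hU' _).1 (K.free_mono h hle')
  have h1 := fibreRank_of_basis b (hU'.primeIdealOf ⟨t, htU'⟩)
  rw [fibreRank_baseChange, K.comap_algMap hW u hU' _ htU', ← K.fiberRank_add hW] at h1
  exact Nat.add_right_cancel h1

end CohCmpLib
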