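import Groth.Agent.CohCmpLib.FibreRowsBC
import Groth.Prelude.Def_PerfAux
import Groth.Agent.CohCmpLib.ChartCrit
import Groth.Agent.CohCmpLib.StratLoc

/-! Semicontinuity of the cohomology of the fibres of a flat proper family. -/

set_option autoImplicit false
set_option maxRecDepth 8000
set_option backward.isDefEq.respectTransparency false

universe u

open CategoryTheory CategoryTheory.Limits AlgebraicGeometry TopologicalSpace Opposite TensorProduct
open FlatCxLib (fibreRank)

namespace CohCmpLib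

variable {X S : Scheme.{u}} {f : X ⟶ S} {F : X.Modules} {W : S.Opens}

theorem Chart.betti_add (K : Chart f F W) (hW : IsAffineOpen W) (q : PrimeSpectrum Γ(S, W)) (p : ℕ) :
    letI := K.alg (le_refl W)
    PerfAux.betti f F (hW.fromSpec q) p + Module.finrank K.A₀ (K.mdl.P.X ((p + 1 : ℕ) : ℤ)) =
      fibreRank (cokB (K.a p) Γ(S, W)) q + fibreRank (cokB (K.a (p + 1)) Γ(S, W)) q := by
  let := K.alg (le_refl W)
  have : Nontrivial K.A₀ := (algebraMap K.A₀ q.asIdeal.ResidueField).domain_nontrivial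
  have h1 : PerfAux.betti f F (hW.fromSpec q) p =
      Module.finrank q.asIdeal.ResidueField (HmB (K.a p) (K.b p) q.asIdeal.ResidueField) :=
    (K.fibre_spec hW le_rfl p q).1
  have h2 : fibreRank (Γ(S, W) ⊗[K.A₀] (K.mdl.P.X ((p + 1 : ℕ) : ℤ) : Type u)) q =
      Module.finrank K.A₀ (K.mdl.P.X ((p + 1 : ℕ) : ℤ)) := by
    rw [fibreRank, (TensorProduct.AlgebraTensorModule.cancelBaseChange K.A₀ Γ(S, W) _ _ _).finrank_eq,
      Module.finrank_baseChange]
  have h3 : fibreRank (cokB (K.b p) Γ(S, W)) q = fibreRank (cokB (K.a (p + 1)) Γ(S, W)) q :=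
    CohBCLib.fibreRank_congr (Submodule.quotEquivOfEq _ _ (range_d_congr K.mdl.P
      (show (p : ℤ) = ((p + 1 : ℕ) : ℤ) - 1 by omega) ((p + 1 : ℕ) : ℤ) Γ(S, W))) q
  have h4 := finrank_HmB_residue (C := Γ(S, W)) (K.a p) (K.b p) (K.hab p) q
  rw [← h1, h2, h3] at h4
  exact h4

/-- Upper semicontinuity of the dimensions of the cohomology of the fibres. -/
theorem isOpen_betti_lt [IsProper f] [LocallyOfFinitePresentation f] (hfp : CohB1.IsFP F)
    (hfl : FlatMod.IsFlatOver f F) (p n : ℕ) : IsOpen {s : S | PerfAux.betti f F s p < n} := by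
  have : Coh.IsQCoh F := have : SheafOfModules.IsFinitePresentation (R := X.ringCatSheaf) F := hfp; inferInstance
  refine isOpen_iff_mem_nhds.2 fun s hs => ?_
  obtain ⟨W, K, hW, hsW⟩ := exists_chart_at hfp hfl s
  let := K.alg (le_refl W)
  obtain ⟨q, hq⟩ := exists_fromSpec hW hsW
  have := finitePresentation_cokB (K.a p) (C := Γ(S, W))
  have := finitePresentation_cokB (K.a (p + 1)) (C := Γ(S, W))
  have h1 := FlatCxLib.eventually_fibreRank_le (cokB (K.a p) Γ(S, W)) q
  have h2 := FlatCxLib.eventually_fibreRank_le (cokB (K.a (p + 1)) Γ(S, W)) q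
  obtain ⟨O, hO, hopen, hqO⟩ := mem_nhds_iff.1 (h1.and h2)
  refine mem_nhds_iff.2 ⟨hW.fromSpec '' O, ?_, hW.fromSpec.isOpenEmbedding.isOpenMap O hopen, ⟨q, hqO, hq⟩⟩
  rintro _ ⟨q', hq', rfl⟩
  obtain ⟨e1, e2⟩ := hO hq'
  have := K.betti_add hW q' p
  have := K.betti_add hW q p
  rw [← hq] at hs
  simp only [Set.mem_setOf_eq] at hs ⊢
  omega

end CohCmpLib
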