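import Groth.Agent.CohCmpLib.FibreRowsBC
import Groth.Prelude.Def_PerfAux
import Groth.Agent.CohCmpLib.ChartCrit
import Groth.Agent.CohCmpLib.StratLoc

/-! The Euler characteristic of the fibres of a flat proper family is locally constant. -/

set_option autoImplicit false
set_option maxRecDepth 8000
set_option backward.isDefEq.respectTransparency false

universe u

open CategoryTheory CategoryTheory.Limits AlgebraicGeometry TopologicalSpace Opposite TensorProduct
open FlatCxLib (fibreRank)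

namespace CohCmpLib

variable {X S : Scheme.{u}} {f : X ⟶ S} {F : X.Modules} {W : S.Opens}

theorem Chart.eulerChar_eq (K : Chart f F W) (hW : IsAffineOpen W) (q : PrimeSpectrum Γ(S, W)) :
    letI := K.alg (le_refl W)
    PerfAux.eulerChar f F (hW.fromSpec q) = (fibreRank (cokB (K.a 0) Γ(S, W)) q : ℤ) -
      ∑ i ∈ Finset.range (K.mdl.N + 1), (-1) ^ i * (Module.finrank K.A₀ (K.mdl.P.X ((i + 1 : ℕ) : ℤ)) : ℤ) := by
  let := K.alg (le_refl W)
  have : Nontrivial K.A₀ := (algebraMap K.A₀ q.asIdeal.ResidueField).domain_nontrivial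
  set c : ℕ → ℤ := fun p => (fibreRank (cokB (K.a p) Γ(S, W)) q : ℤ) with hc
  set n : ℕ → ℤ := fun p => (Module.finrank K.A₀ (K.mdl.P.X (p : ℤ)) : ℤ) with hn
  set h : ℕ → ℤ := fun p => (PerfAux.betti f F (hW.fromSpec q) p : ℤ) with hh
  have key : ∀ p, h p + n (p + 1) = c p + c (p + 1) := fun p => by
    have h1 : PerfAux.betti f F (hW.fromSpec q) p =
        Module.finrank q.asIdeal.ResidueField (HmB (K.a p) (K.b p) q.asIdeal.ResidueField) :=
      (K.fibre_spec hW le_rfl p q).1
    have h2 : fibreRank (Γ(S, W) ⊗[K.A₀] (K.mdl.P.X ((p + 1 : ℕ) : ℤ) : Type u)) q =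
        Module.finrank K.A₀ (K.mdl.P.X ((p + 1 : ℕ) : ℤ)) := by
      rw [fibreRank, (TensorProduct.AlgebraTensorModule.cancelBaseChange K.A₀ Γ(S, W) _ _ _).finrank_eq,
        Module.finrank_baseChange]
    have h3 : fibreRank (cokB (K.b p) Γ(S, W)) q = fibreRank (cokB (K.a (p + 1)) Γ(S, W)) q :=
      CohBCLib.fibreRank_congr (Submodule.quotEquivOfEq _ _ (range_d_congr K.mdl.P
        (show (p : ℤ) = ((p + 1 : ℕ) : ℤ) - 1 by omega) ((p + 1 : ℕ) : ℤ) Γ(S, W))) q
    have h4 := finrank_HmB_residue (C := Γ(S, W)) (K.a p) (K.b p) (K.hab p) q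
    rw [← h1, h2, h3] at h4
    simp only [hc, hn, hh]
    exact_mod_cast h4
  have hn0 : ∀ p, K.mdl.N < p → n p = 0 := fun p hp => by
    have := ModuleCat.subsingleton_of_isZero (K.mdl.above (p : ℤ) (by omega))
    simp [hn, Module.finrank_zero_of_subsingleton]
  have hc0 : ∀ p, K.mdl.N < p → c p = 0 := fun p hp => by
    have := ModuleCat.subsingleton_of_isZero (K.mdl.above (p : ℤ) (by omega))
    have : Subsingleton (q.asIdeal.ResidueField ⊗[Γ(S, W)] cokB (K.a p) Γ(S, W)) := by
      have : Subsingleton (Γ(S, W) ⊗[K.A₀] (K.mdl.P.X (p : ℤ) : Type u)) := inferInstance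
      have : Subsingleton (cokB (K.a p) Γ(S, W)) := (Submodule.mkQ_surjective _).subsingleton
      infer_instance
    simp [hc, fibreRank, Module.finrank_zero_of_subsingleton]
  have hsum : ∀ m, ∑ i ∈ Finset.range m, (-1 : ℤ) ^ i * h i =
      c 0 - (-1) ^ m * c m - ∑ i ∈ Finset.range m, (-1 : ℤ) ^ i * n (i + 1) := by
    intro m
    induction m with
    | zero => simp
    | succ m ih =>
      rw [Finset.sum_range_succ, Finset.sum_range_succ, ih, pow_succ]
      linear_combination (-1 : ℤ) ^ m * key m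
  have hfin : PerfAux.eulerChar f F (hW.fromSpec q) =
      ∑ i ∈ Finset.range (K.mdl.N + 1), (-1 : ℤ) ^ i * h i := by
    refine finsum_eq_sum_of_support_subset _ fun i hi => ?_
    by_contra hlt
    simp only [Finset.coe_range, Set.mem_Iio, not_lt] at hlt
    apply hi
    have := key i
    rw [hn0 (i + 1) (by omega), hc0 i (by omega), hc0 (i + 1) (by omega)] at this
    show (-1 : ℤ) ^ i * h i = 0
    rw [show h i = 0 by linarith, mul_zero]
  rw [hfin, hsum, hc0 (K.mdl.N + 1) (by omega)]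
  simp [hc, hn]

/-- The Euler characteristic of the fibres of a flat family on a proper morphism is locally constant. -/
theorem isLocallyConstant_eulerChar [IsProper f] [LocallyOfFinitePresentation f] (hfp : CohB1.IsFP F)
    (hfl : FlatMod.IsFlatOver f F) : IsLocallyConstant fun s : S => PerfAux.eulerChar f F s := by
  have : Coh.IsQCoh F := have : SheafOfModules.IsFinitePresentation (R := X.ringCatSheaf) F := hfp; inferInstance
  rw [IsLocallyConstant.iff_exists_open]
  intro s
  obtain ⟨W, K, hW, hs⟩ := exists_chart_at hfp hfl s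
  let := K.alg (le_refl W)
  have : Module.Flat Γ(S, W) (cokB (K.a 0) Γ(S, W)) := K.fl_zero _
  have := finitePresentation_cokB (K.a 0) (C := Γ(S, W))
  have hl : IsLocallyConstant fun q : PrimeSpectrum Γ(S, W) => PerfAux.eulerChar f F (hW.fromSpec q) := by
    have e : (fun q : PrimeSpectrum Γ(S, W) => PerfAux.eulerChar f F (hW.fromSpec q)) = fun q =>
        (Module.rankAtStalk (cokB (K.a 0) Γ(S, W)) q : ℤ) -
        ∑ i ∈ Finset.range (K.mdl.N + 1), (-1) ^ i * (Module.finrank K.A₀ (K.mdl.P.X ((i + 1 : ℕ) : ℤ)) : ℤ) := by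
      funext q
      rw [K.eulerChar_eq hW q, FlatCxLib.fibreRank_eq_rankAtStalk]
    rw [e]
    exact Module.isLocallyConstant_rankAtStalk.comp fun n : ℕ => (n : ℤ) -
      ∑ i ∈ Finset.range (K.mdl.N + 1), (-1) ^ i * (Module.finrank K.A₀ (K.mdl.P.X ((i + 1 : ℕ) : ℤ)) : ℤ)
  obtain ⟨q, hq⟩ := exists_fromSpec hW hs
  obtain ⟨O, hO, hqO, hcst⟩ := hl.exists_open q
  refine ⟨hW.fromSpec '' O, hW.fromSpec.isOpenEmbedding.isOpenMap O hO, ⟨q, hqO, hq⟩, ?_⟩
  rintro _ ⟨q', hq', rfl⟩
  rw [← hq]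
  exact hcst q' hq'

end CohCmpLib
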