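import Groth.Agent.CohCmpLib.FrameTools

/-!
The sheaf of homomorphisms out of a finite locally free module.
-/

set_option autoImplicit false
set_option maxRecDepth 8000

noncomputable section

universe u

open CategoryTheory CategoryTheory.Limits AlgebraicGeometry TopologicalSpace Opposite
open scoped TensorProduct
open ProjFormLib (ger res ger_res ger_smul ger_add ger_map exists_ger section_ext IsFrame exists_frame)
open KFlatLib (tens shTm pb puSec pullθ)

namespace CohCmpLib

variable {X : Scheme.{u}}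

theorem exists_nhd_le {n : ℕ} {y : X} (W : Fin n → X.Opens) (hW : ∀ i, y ∈ W i) :
    ∃ W₀ : X.Opens, y ∈ W₀ ∧ ∀ i, W₀ ≤ W i :=
  ⟨Finset.univ.inf W, Finset.inf_induction (p := fun W : X.Opens => y ∈ W) trivial
    (fun _ h₁ _ h₂ => ⟨h₁, h₂⟩) fun i _ => hW i, fun i => Finset.inf_le (Finset.mem_univ i)⟩

variable {M P : X.Modules}

/-- A local homomorphism with given values on a frame. -/
theorem exists_hom_of_frame {n : ℕ} {U : X.Opens} {e : Fin n → Γ(M, U)} (he : IsFrame M e) {V : X.Opens}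
    (hV : V ≤ U) (p : Fin n → Γ(P, V)) :
    ∃ h : Γ(homMod M P, V), ∀ y (hy : y ∈ V) i, hVal h y hy (ger M y (hV hy) (e i)) = ger P y hy (p i) := by
  let s : ∀ y : V, stk M y.1 →ₗ[X.presheaf.stalk y.1] stk P y.1 := fun y =>
    (he.basis y.1 (hV y.2)).constr (X.presheaf.stalk y.1) fun i => ger P y.1 y.2 (p i)
  have hsp : ∀ y (hy : y ∈ V) i, s ⟨y, hy⟩ (ger M y (hV hy) (e i)) = ger P y hy (p i) := fun y hy i => by
    rw [← he.basis_apply y (hV hy) i]
    exact Module.Basis.constr_basis _ _ _ i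
  have hs : s ∈ homSec M P V := fun T h m => by
    refine exists_section_of_germs P (fun y : T => s ⟨y.1, h y.2⟩ (ger M y.1 y.2 m)) fun y => ?_
    obtain ⟨c, hc⟩ := (he y.1 (hV (h y.2))).2 (ger M y.1 y.2 m)
    choose W hW r hr using fun i => X.presheaf.exists_germ_eq (x := y.1) (c i)
    obtain ⟨W₀, hyW₀, hle⟩ := exists_nhd_le W hW
    let W₁ : X.Opens := W₀ ⊓ T
    let r' : Fin n → Γ(X, W₁) := fun i => X.presheaf.map (homOfLE (inf_le_left.trans (hle i))).op (r i)
    let m₁ : Γ(M, W₁) := ∑ i, r' i • res M (((inf_le_right : W₁ ≤ T).trans h).trans hV) (e i)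
    have hy₁ : y.1 ∈ W₁ := ⟨hyW₀, y.2⟩
    have hm₁ : ger M y.1 hy₁ m₁ = ger M y.1 hy₁ (res M (inf_le_right : W₁ ≤ T) m) := by
      rw [ger_sum, ger_res, ← hc, Fintype.linearCombination_apply]
      refine Finset.sum_congr rfl fun i _ => ?_
      rw [ger_smul, ger_res, TopCat.Presheaf.germ_res_apply, hr]
    obtain ⟨W₂, hyW₂, i₁, i₂, hW₂⟩ := M.presheaf.germ_eq y.1 hy₁ hy₁ _ _ hm₁
    obtain rfl : i₁ = i₂ := Subsingleton.elim _ _
    refine ⟨W₂, i₁.le.trans inf_le_right, hyW₂,
      res P i₁.le (∑ i, r' i • res P ((inf_le_right : W₁ ≤ T).trans h) (p i)), fun z hz => ?_⟩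
    have hz₁ : z ∈ W₁ := i₁.le hz
    have h2 : ger M z hz₁ m₁ = ger M z hz₁ (res M (inf_le_right : W₁ ≤ T) m) := by
      rw [← ger_res M i₁.le z hz m₁, ← ger_res M i₁.le z hz (res M (inf_le_right : W₁ ≤ T) m)]
      exact congrArg (ger M z hz) hW₂
    rw [ger_res] at h2
    rw [ger_res, ger_sum, ← h2, ger_sum, map_sum]
    refine Finset.sum_congr rfl fun i _ => ?_
    rw [ger_smul, ger_smul, map_smul, ger_res, ger_res, hsp]
  exact ⟨(show homSec M P V from ⟨s, hs⟩), hsp⟩

/-- The evaluation is perfect on stalks. -/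
def HomEv {H : X.Modules} (φ : tens M H ⟶ P) : Prop := ∀ y : X, Function.Bijective (evS φ y)

theorem homEv_evMod (hM : FlatMod.IsFinLocFree M) : HomEv (evMod M P) := fun y => by
  obtain ⟨U, n, e, hy, he⟩ := exists_frame hM y
  constructor
  · intro a b hab
    obtain ⟨V, hV, h, rfl⟩ := exists_ger _ y a
    obtain ⟨V', hV', h', rfl⟩ := exists_ger _ y b
    rw [evS_evMod, evS_evMod] at hab
    let T : X.Opens := V ⊓ V' ⊓ U
    have h₁ : T ≤ V := inf_le_left.trans inf_le_left
    have h₂ : T ≤ V' := inf_le_left.trans inf_le_right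
    have hyT : y ∈ T := ⟨⟨hV, hV'⟩, hy⟩
    let e' : Fin n → Γ(M, T) := fun i => res M inf_le_right (e i)
    have hg : ∀ i, ger P y hyT (happ (res _ h₁ h) (e' i)) = ger P y hyT (happ (res _ h₂ h') (e' i)) := fun i => by
      rw [ger_happ, ger_happ, hVal_res, hVal_res, hab]
    choose W hW i₁ i₂ hWe using fun i => P.presheaf.germ_eq y hyT hyT _ _ (hg i)
    obtain ⟨W₀, hyW₀, hle⟩ := exists_nhd_le W hW
    have key : res (homMod M P) ((inf_le_right : W₀ ⊓ T ≤ T).trans h₁) h =
        res (homMod M P) ((inf_le_right : W₀ ⊓ T ≤ T).trans h₂) h' := homMod_ext fun z hz => by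
      refine ((he.res (inf_le_right : T ≤ U)).basis z hz.2).ext fun i => ?_
      rw [IsFrame.basis_apply, hVal_res, hVal_res]
      have e1 : ger P z hz.2 (happ (res _ h₁ h) (e' i)) = ger P z hz.2 (happ (res _ h₂ h') (e' i)) := by
        rw [← ger_res P (i₁ i).le z (hle i hz.1), ← ger_res P (i₂ i).le z (hle i hz.1)]
        exact congrArg (ger P z _) (hWe i)
      rw [ger_happ, ger_happ] at e1
      exact e1
    have hy₀ : y ∈ W₀ ⊓ T := ⟨hyW₀, hyT⟩
    rw [← ger_res (homMod M P) ((inf_le_right : W₀ ⊓ T ≤ T).trans h₁) y hy₀ h, key, ger_res]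
  · intro L
    choose W hW q hq using fun i => exists_ger P y (L (ger M y hy (e i)))
    obtain ⟨W₀, hyW₀, hle⟩ := exists_nhd_le W hW
    obtain ⟨h, hh⟩ := exists_hom_of_frame he (inf_le_right : W₀ ⊓ U ≤ U)
      fun i => res P ((inf_le_left : W₀ ⊓ U ≤ W₀).trans (hle i)) (q i)
    refine ⟨ger _ y (U := W₀ ⊓ U) ⟨hyW₀, hy⟩ h, ?_⟩
    rw [evS_evMod]
    refine (he.basis y hy).ext fun i => ?_
    rw [IsFrame.basis_apply, hh, ger_res, hq]

theorem isFinLocFree_homMod (hM : FlatMod.IsFinLocFree M) (hP : FlatMod.IsFinLocFree P) :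
    FlatMod.IsFinLocFree (homMod M P) := isFinLocFree_of_frames fun x => by
  classical
  obtain ⟨U, n, e, hxU, he⟩ := exists_frame hM x
  obtain ⟨U', k, p, hxU', hp⟩ := exists_frame hP x
  let T : X.Opens := U ⊓ U'
  choose h hh using fun t : Fin k × Fin n => exists_hom_of_frame (P := P) he (inf_le_left : T ≤ U)
    fun i => if t.2 = i then res P (inf_le_right : T ≤ U') (p t.1) else 0
  refine ⟨T, k * n, fun t => h (finProdFinEquiv.symm t), ⟨hxU, hxU'⟩, fun y hy => ?_⟩
  let bL := (he.basis y hy.1).linearMap (hp.basis y hy.2)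
  let E := LinearEquiv.ofBijective _ (homEv_evMod (P := P) hM y)
  let b := (bL.map E.symm).reindex finProdFinEquiv
  have hb : ∀ t, b t = ger (homMod M P) y hy (h (finProdFinEquiv.symm t)) := fun t => by
    rw [Module.Basis.reindex_apply, Module.Basis.map_apply, LinearEquiv.symm_apply_eq]
    refine Eq.trans ?_ (evS_evMod _ y hy).symm
    refine (he.basis y hy.1).ext fun i => ?_
    rw [Module.Basis.linearMap_apply_apply, IsFrame.basis_apply, IsFrame.basis_apply, hh]
    split_ifs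
    · rw [ger_res]
    · rw [ger_zero]
  refine (congrArg Function.Bijective (funext fun c => ?_)).mpr b.equivFun.symm.bijective
  rw [Fintype.linearCombination_apply, Module.Basis.equivFun_symm_apply]
  exact Finset.sum_congr rfl fun t _ => by rw [hb]

theorem isIso_of_homEv {H H' : X.Modules} {φ : tens M H ⟶ P} {φ' : tens M H' ⟶ P} (g : H ⟶ H')
    (h : ((DCoh.tensorBi (X := X)).obj M).map g ≫ φ' = φ) (hφ : HomEv φ) (hφ' : HomEv φ') : IsIso g :=
  KFlatLib.isIso_of_stalks g fun y => by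
    refine (ConcreteCategory.isIso_iff_bijective _).mpr ?_
    have e : ⇑(evS φ' y) ∘ ((DerSch.stalkFunctor X y).map g).hom = ⇑(evS φ y) := funext fun a => by
      rw [Function.comp_apply, ← evS_map, h]
    exact (Function.Bijective.of_comp_iff' (hφ' y) _).mp (e.symm ▸ hφ y)

theorem homEv_counit [DCoh.HasSheafHom M] (hM : FlatMod.IsFinLocFree M) :
    HomEv ((DCoh.sheafHomAdj M).counit.app P) := by
  let adj := DCoh.sheafHomAdj M
  let ε : tens M ((DCoh.sheafHom M).obj P) ⟶ P := adj.counit.app P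
  let g : (DCoh.sheafHom M).obj P ⟶ homMod M P := curryMod ε
  let g' : homMod M P ⟶ (DCoh.sheafHom M).obj P := adj.homEquiv _ _ (evMod M P)
  have h1 : ((DCoh.tensorBi (X := X)).obj M).map g' ≫ ε = evMod M P :=
    (adj.homEquiv_counit _ _ g').symm.trans ((adj.homEquiv _ _).symm_apply_apply (evMod M P))
  have h2 : ((DCoh.tensorBi (X := X)).obj M).map g ≫ evMod M P = ε := curryMod_comp ε
  have : IsIso g := by
    refine ⟨g', (adj.homEquiv _ _).symm.injective ?_, hom_homMod_ext ?_⟩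
    · rw [adj.homEquiv_counit, adj.homEquiv_counit, Functor.map_comp, Category.assoc, CategoryTheory.Functor.map_id,
        Category.id_comp]
      exact (congrArg (_ ≫ ·) h1).trans h2
    · rw [Functor.map_comp, Category.assoc, CategoryTheory.Functor.map_id, Category.id_comp]
      exact (congrArg (_ ≫ ·) h2).trans h1
  intro y
  have e : ⇑(evS ε y) = ⇑(evS (evMod M P) y) ∘ ((DerSch.stalkFunctor X y).map g).hom := funext fun a => by
    rw [Function.comp_apply, ← evS_map, h2]
  change Function.Bijective (evS ε y)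
  rw [e]
  exact (homEv_evMod hM y).comp (ConcreteCategory.bijective_of_isIso _)

variable {Z : Scheme.{u}} (g : Z ⟶ X)

/-- The pullback of a pairing. -/
def pullEv {H : X.Modules} (φ : tens M H ⟶ P) : tens (pb g M) (pb g H) ⟶ pb g P :=
  inv (pullθ g M H) ≫ (Scheme.Modules.pullback g).map φ

theorem pullEv_puSec {H : X.Modules} (φ : tens M H ⟶ P) {U : X.Opens} (m : Γ(M, U)) (h : Γ(H, U)) :
    (pullEv g φ).app (g ⁻¹ᵁ U) (shTm (puSec g m) (puSec g h)) = puSec g (φ.app U (shTm m h)) := by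
  rw [← KFlatLib.pullθ_puSec]
  refine Eq.trans ?_ (KFlatLib.puSec_natural g φ (shTm m h))
  change ((Scheme.Modules.pullback g).map φ).app _ ((inv (pullθ g M H)).app _ ((pullθ g M H).app _ _)) = _
  refine congrArg (((Scheme.Modules.pullback g).map φ).app (g ⁻¹ᵁ U)) ?_
  exact congr($(IsIso.hom_inv_id (pullθ g M H)).app (g ⁻¹ᵁ U) (puSec g (shTm m h)))

theorem homEv_pullback (hM : FlatMod.IsFinLocFree M) {H : X.Modules} {φ : tens M H ⟶ P} (hφ : HomEv φ) :
    HomEv (pullEv g φ) := fun z => by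
  let := (g.stalkMap z).hom.toAlgebra
  obtain ⟨U, n, e, hy, he⟩ := exists_frame hM (g z)
  obtain ⟨LM, hLM⟩ := exists_stalkPullEquiv g M z
  obtain ⟨LP, hLP⟩ := exists_stalkPullEquiv g P z
  obtain ⟨LH, hLH⟩ := exists_stalkPullEquiv g H z
  let S := Z.presheaf.stalk z
  let b := he.basis (g z) hy
  let b' := (b.baseChange S).map LM
  have key : ∀ (a : stk H (g z)) (m : stk M (g z)),
      evS (pullEv g φ) z (LH (1 ⊗ₜ a)) (LM (1 ⊗ₜ m)) = LP (1 ⊗ₜ evS φ (g z) a m) := fun a m => by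
    obtain ⟨V, hV, a, rfl⟩ := exists_ger H (g z) a
    obtain ⟨V', hV', m, rfl⟩ := exists_ger M (g z) m
    rw [← ger_res H (inf_le_left : V ⊓ V' ≤ V) (g z) ⟨hV, hV'⟩ a,
      ← ger_res M (inf_le_right : V ⊓ V' ≤ V') (g z) ⟨hV, hV'⟩ m, hLH, hLM, evS_ger, evS_ger, hLP, pullEv_puSec]
  let Ψ : S ⊗[X.presheaf.stalk (g z)] stk H (g z) ≃ₗ[S] (Fin n → stk (pb g P) z) :=
    (((LinearEquiv.ofBijective _ (hφ (g z))).trans (b.constr (X.presheaf.stalk (g z))).symm).baseChange
      (X.presheaf.stalk (g z)) S).trans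
      ((TensorProduct.piRight (X.presheaf.stalk (g z)) S S fun _ : Fin n => stk P (g z)).trans
        (LinearEquiv.piCongrRight fun _ => LP))
  let F : S ⊗[X.presheaf.stalk (g z)] stk H (g z) →ₗ[S] (Fin n → stk (pb g P) z) :=
    (b'.constr S).symm.toLinearMap ∘ₗ evS (pullEv g φ) z ∘ₗ LH.toLinearMap
  have h1 : ∀ a : stk H (g z), F (1 ⊗ₜ a) = Ψ (1 ⊗ₜ a) := fun a => funext fun i => by
    change evS (pullEv g φ) z (LH (1 ⊗ₜ a)) (b' i) = _
    rw [Module.Basis.map_apply, Module.Basis.baseChange_apply, key]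
    rfl
  have hF : F = Ψ.toLinearMap := LinearMap.ext fun t => by
    induction t using TensorProduct.induction_on with
    | zero => exact (map_zero F).trans (map_zero Ψ).symm
    | tmul c a =>
      rw [show c ⊗ₜ[X.presheaf.stalk (g z)] a = c • ((1 : S) ⊗ₜ[X.presheaf.stalk (g z)] a) by
        rw [TensorProduct.smul_tmul', smul_eq_mul, mul_one], map_smul, map_smul, h1]
      rfl
    | add a b ha hb => rw [map_add, map_add, ha, hb]
  have h2 : ⇑(evS (pullEv g φ) z) = ⇑(b'.constr S) ∘ ⇑Ψ ∘ ⇑LH.symm := funext fun a => by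
    have e := congr($hF (LH.symm a))
    change (b'.constr S).symm (evS (pullEv g φ) z (LH (LH.symm a))) = Ψ (LH.symm a) at e
    rw [LinearEquiv.apply_symm_apply] at e
    exact ((b'.constr S).apply_symm_apply _).symm.trans (congrArg (b'.constr S) e)
  rw [h2]
  exact (b'.constr S).bijective.comp (Ψ.bijective.comp LH.symm.bijective)

end CohCmpLib
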