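import Groth.Agent.CohCmpLib.Tower

/-! Pullback of classes between two base changes of a model. -/

set_option autoImplicit false
set_option maxHeartbeats 1000000

universe u

open CategoryTheory CategoryTheory.Limits AlgebraicGeometry TopologicalSpace Opposite TensorProduct
open RpushLib (extSL)
open CohBCLib (HA)

namespace CohCmpLib

/-- An acyclic resolution that survives every base change. -/
structure Ch.Univ {R : Type u} [CommRing R] {X : Scheme.{u}} (f : X ⟶ Spec (CommRingCat.of R)) (c : Ch X) :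
    Prop where
  exact : ∀ {Y : Scheme.{u}} (g : Y ⟶ X), (c.pull g).Exact
  good : ∀ q, Good f (c.C q)

variable {R B B' : Type u} [CommRing R] [CommRing B] [CommRing B'] [Algebra R B] [Algebra R B'] [Algebra B B']
  [IsScalarTower R B B'] {X X' X'' : Scheme.{u}}
  {f : X ⟶ Spec (CommRingCat.of R)} {f' : X' ⟶ Spec (CommRingCat.of B)}
  {f'' : X'' ⟶ Spec (CommRingCat.of B')} {h : X' ⟶ X} {k : X'' ⟶ X'}
  (H : IsPullback h f' f (Spec.map (CommRingCat.ofHom (algebraMap R B))))
  (H' : IsPullback k f'' f' (Spec.map (CommRingCat.ofHom (algebraMap B B'))))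
  {c : Ch X} (hu : c.Univ f) {G : X'.Modules} {G'' : X''.Modules}

theorem Ch.Univ.exact_pull_pull (hu : c.Univ f) (k : X'' ⟶ X') (h : X' ⟶ X) : ((c.pull h).pull k).Exact :=
  fun q => ShortComplex.shortExact_of_iso
    ((c.sc q).mapNatIso (Scheme.Modules.pullbackComp k h)).symm (hu.exact (k ≫ h) q)

/-- The model computes the cohomology of a module identified with the pullback. -/
noncomputable def omegaTo (e : (Scheme.Modules.pullback h).obj (c.Z 0) ≅ G) (p : ℕ) :
    HmKB (Kc f c) p B ≃ₗ[B] ((HA f' p).obj G : Type u) :=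
  (omega H c hu.good p (hu.exact h)).trans ((HA f' p).mapIso e).toLinearEquiv

theorem omegaTo_apply (e : (Scheme.Modules.pullback h).obj (c.Z 0) ≅ G) (p : ℕ) (x : HmKB (Kc f c) p B) :
    (show HC X' G p from omegaTo H hu e p x) =
      hm e.hom p (show HC X' ((Scheme.Modules.pullback h).obj (c.Z 0)) p from omega H c hu.good p (hu.exact h) x) :=
  rfl

/-- Pullback of classes, semilinearly. -/
noncomputable def pullClass (ψ : (Scheme.Modules.pullback k).obj G ⟶ G'') (p : ℕ) :
    ((HA f' p).obj G : Type u) →ₛₗ[algebraMap B B'] ((HA f'' p).obj G'' : Type u) where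
  toFun x := hm ψ p (hp k G p (show HC X' G p from x))
  map_add' x y := ((congrArg (hm ψ p) (map_add (hp k G p) (show HC X' G p from x) y)).trans (map_add _ _ _) :)
  map_smul' b x := by
    refine (congrArg (hm ψ p) (hp_hs k G p (Coh.toGlobal f' b) (show HC X' G p from x))).trans ?_
    refine (hm_hs ψ _ p _).trans ?_
    exact congrArg (fun r : Coh.Γtop X'' => hs r G'' p (hm ψ p (hp k G p (show HC X' G p from x))))
      (RpushLib.toGlobal_comm H' b)

theorem pullClass_apply (ψ : (Scheme.Modules.pullback k).obj G ⟶ G'') (p : ℕ) (x : HC X' G p) :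
    (show HC X'' G'' p from pullClass H' ψ p x) = hm ψ p (hp k G p x) := rfl

variable (H'' : IsPullback (k ≫ h) f'' f (Spec.map (CommRingCat.ofHom (algebraMap R B'))))

/-- The identification upstairs. -/
noncomputable abbrev upIso (e : (Scheme.Modules.pullback h).obj (c.Z 0) ≅ G)
    (ψ : (Scheme.Modules.pullback k).obj G ≅ G'') : (Scheme.Modules.pullback (k ≫ h)).obj (c.Z 0) ≅ G'' :=
  ((Scheme.Modules.pullbackComp k h).app (c.Z 0)).symm ≪≫ (Scheme.Modules.pullback k).mapIso e ≪≫ ψ

theorem pullClass_omega (e : (Scheme.Modules.pullback h).obj (c.Z 0) ≅ G)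
    (ψ : (Scheme.Modules.pullback k).obj G ≅ G'') (p : ℕ) (x : HmKB (Kc f c) p B) :
    pullClass H' ψ.hom p (omegaTo H hu e p x) =
      omegaTo H'' hu (upIso e ψ) p (towHm _ _ x) := by
  let y : HC X' ((Scheme.Modules.pullback h).obj (c.Z 0)) p := omega H c hu.good p (hu.exact h) x
  have h1 : hm ψ.hom p (hp k G p (hm e.hom p y)) =
      hm ((Scheme.Modules.pullback k).map e.hom ≫ ψ.hom) p (hp k _ p y) := by
    rw [← hp_natural, hm_comp]
  have h2 : (upIso e ψ).hom =
      (Scheme.Modules.pullbackComp k h).inv.app (c.Z 0) ≫ (Scheme.Modules.pullback k).map e.hom ≫ ψ.hom := rfl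
  refine Eq.trans ?_ (congrArg (hm (upIso e ψ).hom p)
    (hp_omega H H' H'' c hu.good p (hu.exact h) (hu.exact_pull_pull k h) (hu.exact _) x))
  refine h1.trans (Eq.trans ?_ (hm_comp _ _ p _))
  rw [h2, Iso.hom_inv_id_app_assoc]

include H'' H hu in
theorem extSL_pullClass_eq (e : (Scheme.Modules.pullback h).obj (c.Z 0) ≅ G)
    (ψ : (Scheme.Modules.pullback k).obj G ≅ G'') (p : ℕ) :
    ⇑(extSL (pullClass H' ψ.hom p)) ∘ ⇑(LinearEquiv.baseChange B B' _ _ (omegaTo H hu e p)) =
      ⇑(omegaTo H'' hu (upIso e ψ) p) ∘ ⇑(LinearMap.liftBaseChange B' (towHm (B := B) (B' := B')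
        ((Kc f c).d (p - 1) p).hom ((Kc f c).d p (p + 1)).hom)) := by
  funext z
  induction z using TensorProduct.induction_on with
  | zero => simp
  | tmul t x =>
    simp only [Function.comp_apply, LinearMap.liftBaseChange_tmul, map_smul]
    refine (RpushLib.extSL_tmul _ t _).trans ?_
    exact congrArg (t • ·) (pullClass_omega H H' hu H'' e ψ p x)
  | add x y hx hy =>
    simp only [Function.comp_apply, map_add] at hx hy ⊢
    rw [hx, hy]

include H'' H hu in
theorem bijective_pullClass_iff (e : (Scheme.Modules.pullback h).obj (c.Z 0) ≅ G)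
    (ψ : (Scheme.Modules.pullback k).obj G ≅ G'') (p : ℕ) :
    Function.Bijective (extSL (pullClass H' ψ.hom p)) ↔
      Function.Bijective (canHm (((Kc f c).d (p - 1) p).hom.baseChange B)
        (((Kc f c).d p (p + 1)).hom.baseChange B) B') := by
  rw [← bijective_tow_iff, ← Function.Bijective.of_comp_iff' (omegaTo H'' hu (upIso e ψ) p).bijective,
    ← extSL_pullClass_eq H H' hu H'' e ψ p, Function.Bijective.of_comp_iff _ (LinearEquiv.bijective _)]

include H'' H hu in
theorem surjective_pullClass_iff (e : (Scheme.Modules.pullback h).obj (c.Z 0) ≅ G)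
    (ψ : (Scheme.Modules.pullback k).obj G ≅ G'') (p : ℕ) :
    Function.Surjective (extSL (pullClass H' ψ.hom p)) ↔
      Function.Surjective (canHm (((Kc f c).d (p - 1) p).hom.baseChange B)
        (((Kc f c).d p (p + 1)).hom.baseChange B) B') := by
  rw [← surjective_tow_iff, ← EquivLike.comp_surjective _ (omegaTo H'' hu (upIso e ψ) p),
    ← extSL_pullClass_eq H H' hu H'' e ψ p, EquivLike.surjective_comp]

end CohCmpLib
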