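import Groth.Agent.CohCmpLib.Pull
import Groth.Agent.CohCmpLib.Eps

/-! Iterated connecting maps along a chain of short exact sequences. -/

set_option autoImplicit false
set_option maxHeartbeats 1000000

universe u

open CategoryTheory CategoryTheory.Limits AlgebraicGeometry TopologicalSpace Opposite
open KFlatLib (puSec puSecLE)

namespace CohCmpLib

variable {X Y : Scheme.{u}}

/-- A chain of three-term sequences, each starting where the previous one ends. -/
structure Ch (X : Scheme.{u}) where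
  /-- syzygies -/
  Z : ℕ → X.Modules
  /-- middle terms -/
  C : ℕ → X.Modules
  /-- inclusions -/
  s : ∀ q, Z q ⟶ C q
  /-- projections -/
  π : ∀ q, C q ⟶ Z (q + 1)
  w : ∀ q, s q ≫ π q = 0

namespace Ch

variable (c : Ch X)

/-- The `q`-th sequence. -/
noncomputable abbrev sc (q : ℕ) : ShortComplex X.Modules := ShortComplex.mk (c.s q) (c.π q) (c.w q)

/-- Shift by one. -/
noncomputable abbrev shift : Ch X where
  Z q := c.Z (q + 1)
  C q := c.C (q + 1)
  s q := c.s (q + 1)
  π q := c.π (q + 1)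
  w q := c.w (q + 1)

/-- All sequences are short exact. -/
def Exact : Prop := ∀ q, (c.sc q).ShortExact

theorem Exact.shift {c : Ch X} (h : c.Exact) : c.shift.Exact := fun q => h (q + 1)

/-- The middle terms have no higher cohomology. -/
def Acyclic : Prop := ∀ q n, Subsingleton (HC X (c.C q) (n + 1))

theorem Acyclic.shift {c : Ch X} (h : c.Acyclic) : c.shift.Acyclic := fun q => h (q + 1)

/-- Pullback of a chain. -/
noncomputable abbrev pull (g : Y ⟶ X) : Ch Y where
  Z q := (Scheme.Modules.pullback g).obj (c.Z q)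
  C q := (Scheme.Modules.pullback g).obj (c.C q)
  s q := (Scheme.Modules.pullback g).map (c.s q)
  π q := (Scheme.Modules.pullback g).map (c.π q)
  w q := ((c.sc q).map (Scheme.Modules.pullback g)).zero

/-- Morphisms of chains. -/
structure Hom (c c' : Ch X) where
  /-- on syzygies -/
  z : ∀ q, c.Z q ⟶ c'.Z q
  /-- on middle terms -/
  m : ∀ q, c.C q ⟶ c'.C q
  hs : ∀ q, z q ≫ c'.s q = c.s q ≫ m q
  hπ : ∀ q, m q ≫ c'.π q = c.π q ≫ z (q + 1)

/-- Shift of a morphism. -/
noncomputable abbrev Hom.shift {c c' : Ch X} (φ : Hom c c') : Hom c.shift c'.shift where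
  z q := φ.z (q + 1)
  m q := φ.m (q + 1)
  hs q := φ.hs (q + 1)
  hπ q := φ.hπ (q + 1)

end Ch

/-- The iterated connecting map. -/
noncomputable def thd : ∀ (p : ℕ) (c : Ch X), c.Exact → (Γ(c.Z p, ⊤) →+ HC X (c.Z 0) p)
  | 0, c, _ => (h0E (c.Z 0)).symm.toAddMonoidHom
  | p + 1, c, hc => (hd (S := c.sc 0) (hc 0) p).comp (thd p c.shift hc.shift)

theorem thd_zero (c : Ch X) (hc : c.Exact) (z : Γ(c.Z 0, ⊤)) : thd 0 c hc z = (h0E (c.Z 0)).symm z :=
  rfl

theorem thd_succ (p : ℕ) (c : Ch X) (hc : c.Exact) (z : Γ(c.Z (p + 1), ⊤)) :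
    thd (p + 1) c hc z = hd (S := c.sc 0) (hc 0) p (thd p c.shift hc.shift z) := rfl

theorem thd_surjective (p : ℕ) (c : Ch X) (hc : c.Exact) (ha : c.Acyclic) :
    Function.Surjective (thd p c hc) := by
  induction p generalizing c with
  | zero => exact (h0E (c.Z 0)).symm.surjective
  | succ p ih =>
    intro y
    obtain ⟨x, hx⟩ := hd_exact₁ (S := c.sc 0) (hc 0) p y (@Subsingleton.elim _ (ha 0 p) _ _)
    obtain ⟨z, hz⟩ := ih c.shift hc.shift ha.shift x
    exact ⟨z, (congrArg _ hz).trans hx⟩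

theorem thd_succ_eq_zero_iff (p : ℕ) (c : Ch X) (hc : c.Exact) (ha : c.Acyclic)
    (z : Γ(c.Z (p + 1), ⊤)) :
    thd (p + 1) c hc z = 0 ↔ ∃ m : Γ(c.C p, ⊤), (c.π p).app ⊤ m = z := by
  induction p generalizing c with
  | zero =>
    constructor
    · intro h
      obtain ⟨x, hx⟩ := hd_exact₃ (S := c.sc 0) (hc 0) 0 _ h
      exact ⟨h0E _ x, (h0E_hm (c.π 0) x).symm.trans
        ((congrArg (h0E (c.Z 1)) hx).trans ((h0E (c.Z 1)).apply_symm_apply z))⟩
    · rintro ⟨m, rfl⟩
      refine (congrArg (hd (S := c.sc 0) (hc 0) 0) ?_).trans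
        (hm_g_hd (S := c.sc 0) (hc 0) 0 ((h0E (c.C 0)).symm m))
      refine (h0E (c.Z 1)).injective ?_
      rw [thd_zero, h0E_hm, AddEquiv.apply_symm_apply, AddEquiv.apply_symm_apply]
  | succ p ih =>
    refine Iff.trans ?_ (ih c.shift hc.shift ha.shift z)
    constructor
    · intro h
      obtain ⟨x, hx⟩ := hd_exact₃ (S := c.sc 0) (hc 0) (p + 1) _ h
      refine hx.symm.trans ?_
      rw [@Subsingleton.elim _ (ha 0 p) x 0, map_zero]
    · intro h
      exact (congrArg (hd (S := c.sc 0) (hc 0) (p + 1)) h).trans (map_zero _)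

theorem thd_hp (g : Y ⟶ X) (p : ℕ) (c : Ch X) (hc : c.Exact) (hc' : (c.pull g).Exact) (z : Γ(c.Z p, ⊤)) :
    hp g (c.Z 0) p (thd p c hc z) =
      thd p (c.pull g) hc' (puSecLE g (c.Z p) (le_top : ⊤ ≤ g ⁻¹ᵁ (⊤ : X.Opens)) z) := by
  induction p generalizing c with
  | zero =>
    refine (h0E _).injective ?_
    rw [h0E_hp, thd_zero, thd_zero, AddEquiv.apply_symm_apply, AddEquiv.apply_symm_apply]
    exact (congr($(((Scheme.Modules.pullback g).obj (c.Z 0)).presheaf.map_id (op ⊤)) (puSec g z))).symm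
  | succ p ih =>
    refine (hp_hd g (S := c.sc 0) (hc 0) (hc' 0) p _).trans ?_
    exact congrArg (hd (S := (c.pull g).sc 0) (hc' 0) p) (ih c.shift hc.shift hc'.shift z)

theorem thd_natural (p : ℕ) {c c' : Ch X} (φ : Ch.Hom c c') (hc : c.Exact) (hc' : c'.Exact)
    (z : Γ(c.Z p, ⊤)) :
    hm (φ.z 0) p (thd p c hc z) = thd p c' hc' ((φ.z p).app ⊤ z) := by
  induction p generalizing c c' with
  | zero =>
    refine (h0E _).injective ?_
    rw [h0E_hm, thd_zero, thd_zero, AddEquiv.apply_symm_apply, AddEquiv.apply_symm_apply]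
  | succ p ih =>
    refine (hd_natural (S := c.sc 0) (T := c'.sc 0) (hc 0) (hc' 0)
      (ShortComplex.homMk (φ.z 0) (φ.m 0) (φ.z 1) (φ.hs 0) (φ.hπ 0)) p _).symm.trans ?_
    exact congrArg (hd (S := c'.sc 0) (hc' 0) p) (ih φ.shift hc.shift hc'.shift z)

theorem thd_hs (p : ℕ) (c : Ch X) (hc : c.Exact) (r : Γ(X, ⊤)) (z : Γ(c.Z p, ⊤)) :
    thd p c hc (r • z) = hs r _ p (thd p c hc z) := by
  induction p generalizing c with
  | zero =>
    refine (h0E _).injective ?_
    rw [h0E_hs, thd_zero, thd_zero, AddEquiv.apply_symm_apply, AddEquiv.apply_symm_apply]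
  | succ p ih =>
    exact (congrArg _ (ih c.shift hc.shift z)).trans (hd_hs (S := c.sc 0) (hc 0) r p _)

end CohCmpLib
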