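import Groth.Agent.CohCmpLib.Eps
import Groth.Agent.RpushLib.Push

/-! Bijectivity of the comparison maps on affine opens. -/

set_option autoImplicit false
set_option maxHeartbeats 1000000

universe u

open CategoryTheory CategoryTheory.Limits AlgebraicGeometry TopologicalSpace Opposite
open QCohLib (toAbF HU)

namespace CohCmpLib

variable {X Y : Scheme.{u}} {f : X ⟶ Y} [HasInjectiveResolutions X.Modules]
  {Δ : RDer.DerivedLES (Scheme.Modules.pushforward f)} (E : CohCmp.SectCmp f Δ)

theorem eps_bijective_step {S : ShortComplex X.Modules} (hS : S.ShortExact) [Injective S.X₂] (p : ℕ)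
    (V : Y.Opens) (h : ∀ j, AcyOn V ((Coh.Rpush f j).obj S.X₁))
    (h₂ : Function.Surjective (eps E V S.X₂ p)) (h₃ : Function.Bijective (eps E V S.X₃ p)) :
    Function.Bijective (eps E V S.X₁ (p + 1)) := by
  constructor
  · refine (injective_iff_map_eq_zero _).mpr fun x hx => ?_
    obtain ⟨z, hz⟩ := exists_hd_eq hS (f ⁻¹ᵁ V) p x
    have hz0 : (Δ.δ S hS p (p + 1) rfl).app V (eps E V S.X₃ p z) = 0 :=
      (eps_hd E V hS p z).symm.trans ((congrArg (eps E V S.X₁ (p + 1)) hz).trans hx)
    obtain ⟨t, ht⟩ := exists_of_delta_app_eq_zero hS h p _ hz0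
    obtain ⟨w, hw⟩ := h₂ t
    have hzw : hm ((Scheme.Modules.restrictFunctor (f ⁻¹ᵁ V).ι).map S.g) p w = z :=
      h₃.1 ((eps_natural E V S.g p w).trans ((congrArg _ hw).trans ht))
    exact hz.symm.trans ((congrArg _ hzw.symm).trans (hm_g_hd (hS.map_of_exact (Scheme.Modules.restrictFunctor (f ⁻¹ᵁ V).ι)) p w))
  · intro t
    obtain ⟨s, hs⟩ := surjective_delta_app (Δ := Δ) hS h p t
    obtain ⟨z, hz⟩ := h₃.2 s
    exact ⟨_, (eps_hd E V hS p z).trans ((congrArg _ hz).trans hs)⟩

theorem eps_bijective_of_acy (p : ℕ) (F : X.Modules) (V : Y.Opens)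
    (h : ∀ j, AcyOn V ((Coh.Rpush f j).obj F)) : Function.Bijective (eps E V F p) := by
  induction p generalizing F with
  | zero => exact eps_bijective_zero E V F
  | succ p ih =>
    refine eps_bijective_step E (injSeqM_shortExact F) p V h (ih _ fun j => ?_).2
      (ih _ (acyOn_rpush_quotient (Δ := Δ) (injSeqM_shortExact F) h))
    rcases j with _ | j
    · exact acyOn_rpush_zero_injective _ V
    · exact acyOn_of_isZero (Functor.isZero_rightDerived_obj_injective_succ _ j _)

theorem eps_bijective_affine [QuasiCompact f] [QuasiSeparated f] (F : X.Modules) [Coh.IsQCoh F]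
    {V : Y.Opens} (hV : IsAffineOpen V) (p : ℕ) : Function.Bijective (eps E V F p) :=
  eps_bijective_of_acy E p F V fun j n =>
    have := RpushLib.isQCoh_Rpush f F j
    QCohLib.subsingleton_HU_affine _ n hV

end CohCmpLib
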