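import Groth.Agent.CohCmpLib.Concrete
import Groth.Agent.CohCmpLib.EpsBij
import Groth.Agent.CohBCLib.Global
import Groth.Agent.RpushLib.AdjIso

/-! The base change maps on affine opens, through pullback of classes. -/

set_option autoImplicit false
set_option maxHeartbeats 1000000

universe u

open CategoryTheory CategoryTheory.Limits AlgebraicGeometry TopologicalSpace Opposite TensorProduct
open RpushLib (overW secFun secMap₀ extSL)
open CohBCLib (HA)

namespace CohCmpLib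

variable {X S X' S' : Scheme.{u}} {f : X ⟶ S} {g : S' ⟶ S} {f' : X' ⟶ S'} {g' : X' ⟶ X}

theorem id_pre_le (V : S.Opens) {V' : S'.Opens} (hle : V' ≤ g ⁻¹ᵁ V) :
    f' ⁻¹ᵁ V' ≤ (𝟙 X') ⁻¹ᵁ (f' ⁻¹ᵁ (g ⁻¹ᵁ V)) :=
  f'.preimage_mono hle

/-- The map between the pieces over affine opens. -/
noncomputable abbrev kPiece (w : g' ≫ f = f' ≫ g) (V : S.Opens) {V' : S'.Opens} (hle : V' ≤ g ⁻¹ᵁ V) :
    (f' ⁻¹ᵁ V' : Scheme.{u}) ⟶ (f ⁻¹ᵁ V : Scheme.{u}) :=
  (𝟙 X' : X' ⟶ X').resLE (f' ⁻¹ᵁ (g ⁻¹ᵁ V)) (f' ⁻¹ᵁ V') (id_pre_le V hle) ≫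
    g'.resLE (f ⁻¹ᵁ V) (f' ⁻¹ᵁ (g ⁻¹ᵁ V)) (CohCmp.sqLE f g f' g' w V)

theorem kPiece_ι (w : g' ≫ f = f' ≫ g) (V : S.Opens) {V' : S'.Opens} (hle : V' ≤ g ⁻¹ᵁ V) :
    kPiece w V hle ≫ (f ⁻¹ᵁ V).ι = (f' ⁻¹ᵁ V').ι ≫ g' := by
  rw [kPiece, Category.assoc, Scheme.Hom.resLE_comp_ι, Scheme.Hom.resLE_comp_ι_assoc, Category.id_comp]

/-- The identification of the pulled back module on a piece. -/
noncomputable def psiPiece (w : g' ≫ f = f' ≫ g) (V : S.Opens) {V' : S'.Opens} (hle : V' ≤ g ⁻¹ᵁ V)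
    (F : X.Modules) :
    (Scheme.Modules.pullback (kPiece w V hle)).obj (F.restrict (f ⁻¹ᵁ V).ι) ≅
      ((Scheme.Modules.pullback g').obj F).restrict (f' ⁻¹ᵁ V').ι :=
  ((Scheme.Modules.pullbackComp _ _).app _).symm ≪≫
    (Scheme.Modules.pullback ((𝟙 X' : X' ⟶ X').resLE (f' ⁻¹ᵁ (g ⁻¹ᵁ V)) (f' ⁻¹ᵁ V') (id_pre_le V hle))).mapIso
      (CohPull.pullOnIso g' (f ⁻¹ᵁ V) (f' ⁻¹ᵁ (g ⁻¹ᵁ V)) (CohCmp.sqLE f g f' g' w V) F) ≪≫
    CohPull.pullOnIso (𝟙 X') (f' ⁻¹ᵁ (g ⁻¹ᵁ V)) (f' ⁻¹ᵁ V') (id_pre_le V hle) ((Scheme.Modules.pullback g').obj F) ≪≫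
    (Scheme.Modules.restrictFunctor (f' ⁻¹ᵁ V').ι).mapIso ((Scheme.Modules.pullbackId X').app _)

section Comp

variable {R : Type u} [CommRing R] {U U₁ U₂ : Scheme.{u}}

/-- Pullback of classes composes, on separated quasi-compact schemes. -/
theorem hp_comp (φ : U ⟶ Spec (CommRingCat.of R)) [U.IsSeparated] [QuasiCompact φ] (k : U₂ ⟶ U₁) (h : U₁ ⟶ U)
    (G : U.Modules) [Coh.IsQCoh G] {n : ℕ} {𝒰 : Fin n → U.Opens} (hcov : (⨆ i, 𝒰 i) = ⊤)
    (hc : (rsCh 𝒰 G).Univ φ) (p : ℕ) (x : HC U G p) :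
    hm ((Scheme.Modules.pullbackComp k h).hom.app G) p (hp k _ p (hp h G p x)) = hp (k ≫ h) G p x := by
  have he : (rsCh 𝒰 G).Exact := rsCh_exact 𝒰 hcov G
  have ha : (rsCh 𝒰 G).Acyclic := fun q m => by
    let A := R
    have hid : IsPullback (𝟙 U) φ φ (Spec.map (CommRingCat.ofHom (algebraMap R R))) := by
      have e : CommRingCat.ofHom (algebraMap R R) = 𝟙 (CommRingCat.of R) := rfl
      rw [e, Spec.map_id]
      exact IsPullback.of_id_fst
    have := (hc.good q R hid).1 m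
    exact subsingleton_HC_of_iso ((Scheme.Modules.pullbackId U).app ((rsCh 𝒰 G).C q)) (m + 1)
  obtain ⟨z, rfl⟩ := thd_surjective p (rsCh 𝒰 G) he ha x
  refine (congrArg (fun t => hm ((Scheme.Modules.pullbackComp k h).hom.app G) p (hp k _ p t))
    (thd_hp h p (rsCh 𝒰 G) he (hc.exact h) z)).trans ?_
  refine (congrArg (hm ((Scheme.Modules.pullbackComp k h).hom.app G) p)
    (thd_hp k p ((rsCh 𝒰 G).pull h) (hc.exact h) (hc.exact_pull_pull k h) _)).trans ?_
  refine (thd_natural p (compHom k h (rsCh 𝒰 G)) (hc.exact_pull_pull k h) (hc.exact (k ≫ h)) _).trans ?_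
  refine Eq.trans ?_ (thd_hp (k ≫ h) p (rsCh 𝒰 G) he (hc.exact _) z).symm
  exact congrArg (thd p ((rsCh 𝒰 G).pull (k ≫ h)) (hc.exact _)) (pullbackComp_puSecLE k h _ z le_top le_top)

end Comp

theorem isSeparated_piece [IsSeparated f] {V : S.Opens} (hV : IsAffineOpen V) :
    (f ⁻¹ᵁ V : Scheme.{u}).IsSeparated := by
  have : IsSeparated (f ∣_ V) := MorphismProperty.of_isPullback (isPullback_morphismRestrict f V).flip ‹_›
  have : IsAffine (V : Scheme.{u}) := hV
  exact ⟨by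
    rw [← terminal.comp_from (f ∣_ V)]
    infer_instance⟩

theorem quasiCompact_overW [QuasiCompact f] {V : S.Opens} (hV : IsAffineOpen V) : QuasiCompact (overW f hV) :=
  MorphismProperty.of_isPullback (CohBCLib.isPullback_overW f hV) ‹_›

theorem isSeparated_overW [IsSeparated f] {V : S.Opens} (hV : IsAffineOpen V) : IsSeparated (overW f hV) :=
  MorphismProperty.of_isPullback (CohBCLib.isPullback_overW f hV) ‹_›

theorem isPullback_piece (H : IsPullback g' f' f g) {V : S.Opens} (hV : IsAffineOpen V) {V' : S'.Opens}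
    (hV' : IsAffineOpen V') (hle : V' ≤ g ⁻¹ᵁ V) :
    letI := (g.appLE V V' hle).hom.toAlgebra
    IsPullback (kPiece H.w V hle) (overW f' hV') (overW f hV)
      (Spec.map (CommRingCat.ofHom (algebraMap Γ(S, V) Γ(S', V')))) := by
  let := (g.appLE V V' hle).hom.toAlgebra
  let σ := Spec.map (CommRingCat.ofHom (algebraMap Γ(S, V) Γ(S', V')))
  have t := CohBCLib.isPullback_overW f hV
  have t' := CohBCLib.isPullback_overW f' hV'
  have hσ : σ ≫ hV.fromSpec = hV'.fromSpec ≫ g := IsAffineOpen.SpecMap_appLE_fromSpec g hV hV' hle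
  have big : IsPullback ((f' ⁻¹ᵁ V').ι ≫ g') (overW f' hV') f (σ ≫ hV.fromSpec) := by
    rw [hσ]
    exact t'.paste_horiz H
  have hsq : kPiece H.w V hle ≫ overW f hV = overW f' hV' ≫ σ := by
    rw [← cancel_mono hV.fromSpec]
    refine (Category.assoc _ _ _).trans ((congrArg (kPiece H.w V hle ≫ ·) t.w.symm).trans
      ((Category.assoc _ _ _).symm.trans ((congrArg (· ≫ f) (kPiece_ι H.w V hle)).trans (big.w.trans ?_))))
    exact (Category.assoc _ _ _).symm
  exact IsPullback.of_right ((kPiece_ι H.w V hle).symm ▸ big) hsq t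

variable [HasInjectiveResolutions X.Modules] [HasInjectiveResolutions X'.Modules]
  {Δ : RDer.DerivedLES (Scheme.Modules.pushforward f)} {Δ' : RDer.DerivedLES (Scheme.Modules.pushforward f')}
  (E : CohCmp.SectCmp f Δ)

/-- The comparison on an affine open, linearly. -/
noncomputable def epsLin {V : S.Opens} (hV : IsAffineOpen V) (F : X.Modules) (p : ℕ) :
    ((HA (overW f hV) p).obj (F.restrict (f ⁻¹ᵁ V).ι) : Type u) →ₗ[Γ(S, V)]
      ((secFun V (RingHom.id Γ(S, V))).obj ((Coh.Rpush f p).obj F) : Type u) where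
  toFun x := eps E V F p (show HCo F (f ⁻¹ᵁ V) p from x)
  map_add' x y := map_add (eps E V F p) (show HCo F (f ⁻¹ᵁ V) p from x) y
  map_smul' r x := by
    refine (congrArg (fun c : Coh.Γtop (f ⁻¹ᵁ V : Scheme.{u}) => eps E V F p
      (hs c _ p (show HCo F (f ⁻¹ᵁ V) p from x))) (RpushLib.toGlobal_overW f hV r)).trans ?_
    exact eps_hs E V F p r _

variable (H : IsPullback g' f' f g) [QuasiCompact f] [IsSeparated f] (E' : CohCmp.SectCmp f' Δ')
  (B : CohCmp.GenBC f g f' g' H.w E E') (F : X.Modules) [Coh.IsQCoh F] (p : ℕ)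

/-- Pullback of classes on pieces. -/
noncomputable abbrev pieceClass {V : S.Opens} (hV : IsAffineOpen V) {V' : S'.Opens} (hV' : IsAffineOpen V')
    (hle : V' ≤ g ⁻¹ᵁ V) :
    letI := (g.appLE V V' hle).hom.toAlgebra
    ((HA (overW f hV) p).obj (F.restrict (f ⁻¹ᵁ V).ι) : Type u) →ₛₗ[algebraMap Γ(S, V) Γ(S', V')]
      ((HA (overW f' hV') p).obj (((Scheme.Modules.pullback g').obj F).restrict (f' ⁻¹ᵁ V').ι) : Type u) :=
  letI := (g.appLE V V' hle).hom.toAlgebra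
  pullClass (isPullback_piece H hV hV' hle) (psiPiece H.w V hle F).hom p

set_option maxRecDepth 8000 in
theorem pieceClass_eq {V : S.Opens} (hV : IsAffineOpen V) {V' : S'.Opens} (hV' : IsAffineOpen V')
    (hle : V' ≤ g ⁻¹ᵁ V) (x : HCo F (f ⁻¹ᵁ V) p) :
    letI := (g.appLE V V' hle).hom.toAlgebra
    hres ((Scheme.Modules.pullback g').obj F) (f'.preimage_mono hle) p
        (hpo g' (CohCmp.sqLE f g f' g' H.w V) F p x) =
      (show HCo ((Scheme.Modules.pullback g').obj F) (f' ⁻¹ᵁ V') p from pieceClass H F p hV hV' hle x) := by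
  let := (g.appLE V V' hle).hom.toAlgebra
  have := isSeparated_piece (f := f) hV
  have := quasiCompact_overW (f := f) hV
  obtain ⟨n, 𝒰, hcov, haff⟩ := exists_affine_cover (overW f hV)
  have hc := univ_rsCh (overW f hV) hcov haff (F.restrict (f ⁻¹ᵁ V).ι)
  let a := (𝟙 X' : X' ⟶ X').resLE (f' ⁻¹ᵁ (g ⁻¹ᵁ V)) (f' ⁻¹ᵁ V') (id_pre_le V hle)
  let k0 := g'.resLE (f ⁻¹ᵁ V) (f' ⁻¹ᵁ (g ⁻¹ᵁ V)) (CohCmp.sqLE f g f' g' H.w V)
  let I := CohPull.pullOnIso g' (f ⁻¹ᵁ V) (f' ⁻¹ᵁ (g ⁻¹ᵁ V)) (CohCmp.sqLE f g f' g' H.w V) F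
  let J := CohPull.pullOnIso (𝟙 X') (f' ⁻¹ᵁ (g ⁻¹ᵁ V)) (f' ⁻¹ᵁ V') (id_pre_le V hle)
    ((Scheme.Modules.pullback g').obj F)
  let L := (Scheme.Modules.restrictFunctor (f' ⁻¹ᵁ V').ι).map
    ((Scheme.Modules.pullbackId X').hom.app ((Scheme.Modules.pullback g').obj F))
  let z := hp a _ p (hp k0 (F.restrict (f ⁻¹ᵁ V).ι) p x)
  have h1 : hres ((Scheme.Modules.pullback g').obj F) (f'.preimage_mono hle) p
      (hpo g' (CohCmp.sqLE f g f' g' H.w V) F p x) =
      hm (((Scheme.Modules.pullback a).map I.hom ≫ J.hom) ≫ L) p z := by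
    refine (hres_apply (f'.preimage_mono hle) _ p _).trans ?_
    refine Eq.trans ?_ (hm_comp _ L p z).symm
    refine congrArg (hm L p) ?_
    refine (hpo_apply (𝟙 X') (id_pre_le V hle) _ p _).trans ?_
    refine Eq.trans ?_ (hm_comp _ J.hom p z).symm
    exact congrArg (hm J.hom p) (hp_natural a I.hom p _).symm
  refine h1.trans (Eq.trans ?_ (pullClass_apply (isPullback_piece H hV hV' hle) (psiPiece H.w V hle F).hom p x).symm)
  refine Eq.trans ?_ (congrArg (hm (psiPiece H.w V hle F).hom p)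
    (hp_comp (overW f hV) a k0 (F.restrict (f ⁻¹ᵁ V).ι) hcov hc p x))
  refine Eq.trans ?_ (hm_comp _ _ p z)
  refine congrArg (fun t => hm t p z) ?_
  simp only [psiPiece, Iso.trans_hom, Iso.symm_hom, Iso.app_inv, Functor.mapIso_hom, Category.assoc]
  exact ((Scheme.Modules.pullbackComp a k0).hom_inv_id_app_assoc _ _).symm

theorem secMap_eps {V : S.Opens} (hV : IsAffineOpen V) {V' : S'.Opens} (hV' : IsAffineOpen V')
    (hle : V' ≤ g ⁻¹ᵁ V) (x : HCo F (f ⁻¹ᵁ V) p) :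
    letI := (g.appLE V V' hle).hom.toAlgebra
    secMap₀ (σ := algebraMap Γ(S, V) Γ(S', V')) g (RingHom.id Γ(S, V)) (RingHom.id Γ(S', V')) hle
        (fun _ => rfl) (B.φ p F) (epsLin E hV F p x) =
      epsLin E' hV' ((Scheme.Modules.pullback g').obj F) p (pieceClass H F p hV hV' hle x) := by
  let := (g.appLE V V' hle).hom.toAlgebra
  refine (congrArg (((Coh.Rpush f' p).obj ((Scheme.Modules.pullback g').obj F)).presheaf.map (homOfLE hle).op)
    (B.compat V F p x)).trans ?_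
  refine (eps_hres E' hle ((Scheme.Modules.pullback g').obj F) p
    (hpo g' (CohCmp.sqLE f g f' g' H.w V) F p x)).symm.trans ?_
  exact congrArg (eps E' V' _ p) (pieceClass_eq H F p hV hV' hle x)

variable [QuasiCompact f'] [IsSeparated f']

theorem bijective_secMap_iff {V : S.Opens} (hV : IsAffineOpen V) {V' : S'.Opens} (hV' : IsAffineOpen V')
    (hle : V' ≤ g ⁻¹ᵁ V) :
    letI := (g.appLE V V' hle).hom.toAlgebra
    (Function.Bijective (extSL (secMap₀ (σ := algebraMap Γ(S, V) Γ(S', V')) g (RingHom.id Γ(S, V))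
        (RingHom.id Γ(S', V')) hle (fun _ => rfl) (B.φ p F))) ↔
      Function.Bijective (extSL (pieceClass H F p hV hV' hle))) ∧
    (Function.Surjective (extSL (secMap₀ (σ := algebraMap Γ(S, V) Γ(S', V')) g (RingHom.id Γ(S, V))
        (RingHom.id Γ(S', V')) hle (fun _ => rfl) (B.φ p F))) ↔
      Function.Surjective (extSL (pieceClass H F p hV hV' hle))) := by
  let := (g.appLE V V' hle).hom.toAlgebra
  have : Coh.IsQCoh ((Scheme.Modules.pullback g').obj F) := KFlatLib.isQCoh_pullback g' F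
  let e := LinearEquiv.ofBijective (epsLin E hV F p) (eps_bijective_affine E F hV p)
  let e' := LinearEquiv.ofBijective (epsLin E' hV' ((Scheme.Modules.pullback g').obj F) p)
    (eps_bijective_affine E' _ hV' p)
  let σ₁ := secMap₀ (σ := algebraMap Γ(S, V) Γ(S', V')) g (RingHom.id Γ(S, V)) (RingHom.id Γ(S', V')) hle
    (fun _ => rfl) (B.φ p F)
  have key : ⇑(extSL σ₁) ∘ ⇑(LinearEquiv.baseChange Γ(S, V) Γ(S', V') _ _ e) =
      ⇑e' ∘ ⇑(extSL (pieceClass H F p hV hV' hle)) := by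
    funext z
    induction z using TensorProduct.induction_on with
    | zero => simp
    | tmul t x =>
      refine (RpushLib.extSL_tmul σ₁ t (e x)).trans (Eq.trans ?_
        ((congrArg e' (RpushLib.extSL_tmul (pieceClass H F p hV hV' hle) t x)).trans (map_smul e' t _)).symm)
      exact congrArg (t • ·) (secMap_eps E H E' B F p hV hV' hle x)
    | add x y hx hy =>
      simp only [Function.comp_apply, map_add] at hx hy ⊢
      rw [hx, hy]
  constructor
  · rw [← Function.Bijective.of_comp_iff' e'.bijective (extSL (pieceClass H F p hV hV' hle)), ← key,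
      Function.Bijective.of_comp_iff _ (LinearEquiv.bijective _)]
  · rw [← EquivLike.comp_surjective (extSL (pieceClass H F p hV hV' hle)) e', ← key, EquivLike.surjective_comp]

end CohCmpLib
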