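import Groth.Agent.CohCmpLib.LocalModel
import Groth.Agent.CohCmpLib.Descent
import Groth.Agent.CohCmpLib.Crit

/-! Finite free models near a point of the base. -/

set_option autoImplicit false

universe u

open CategoryTheory CategoryTheory.Limits AlgebraicGeometry TopologicalSpace Opposite TensorProduct
open RpushLib (overW)
open CohBCLib (HA)

namespace CohCmpLib

variable {X S : Scheme.{u}} (f : X ⟶ S) (F : X.Modules)

/-- A finite free model over an open of the base. -/
structure Chart (W : S.Opens) where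
  /-- the base ring -/
  A₀ : Type u
  [ring : CommRing A₀]
  /-- the model scheme -/
  X₀ : Scheme.{u}
  /-- its structure map -/
  f₀ : X₀ ⟶ Spec (CommRingCat.of A₀)
  /-- its resolution -/
  c : Ch X₀
  univ : c.Univ f₀
  /-- the complex -/
  mdl : Mdl (Kc f₀ c)
  /-- the map of rings -/
  φ : A₀ →+* Γ(S, W)
  pb : ∀ (V : S.Opens) (hV : IsAffineOpen V) (hle : V ≤ W), ∃ h : (f ⁻¹ᵁ V : Scheme.{u}) ⟶ X₀,
    IsPullback h (overW f hV) f₀
      (Spec.map (CommRingCat.ofHom ((S.presheaf.map (homOfLE hle).op).hom.comp φ))) ∧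
    Nonempty ((Scheme.Modules.pullback h).obj (c.Z 0) ≅ F.restrict (f ⁻¹ᵁ V).ι)

attribute [instance] Chart.ring

variable {f F}

/-- The algebra structure on sections over a smaller open. -/
@[reducible] noncomputable def Chart.alg {W : S.Opens} (K : Chart f F W) {V : S.Opens} (hle : V ≤ W) :
    Algebra K.A₀ Γ(S, V) :=
  ((S.presheaf.map (homOfLE hle).op).hom.comp K.φ).toAlgebra

/-- Models exist over affine opens. -/
theorem exists_chart [IsProper f] [LocallyOfFinitePresentation f] [Coh.IsQCoh F] (hfp : CohB1.IsFP F)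
    (hfl : FlatMod.IsFlatOver f F) {W : S.Opens} (hW : IsAffineOpen W) : Nonempty (Chart f F W) := by
  have : LocallyOfFinitePresentation (overW f hW) :=
    MorphismProperty.of_isPullback (CohBCLib.isPullback_overW f hW) ‹_›
  have hfp' : CohB1.IsFP (F.restrict (f ⁻¹ᵁ W).ι) :=
    (SheafOfModules.isFinitePresentation (R := (f ⁻¹ᵁ W : Scheme.{u}).ringCatSheaf)).prop_of_iso
      ((Scheme.Modules.restrictFunctorIsoPullback (f ⁻¹ᵁ W).ι).app F).symm
      (RichLib.ModFlat.isFP_pullback (f ⁻¹ᵁ W).ι hfp)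
  obtain ⟨A₀, hA₀, X₀, f₀, hf₀, F₀, hF₀, q, sq, e, hflat⟩ :=
    exists_proper_descent (overW f hW) (F.restrict (f ⁻¹ᵁ W).ι) hfp' (CohBCLib.flat_FW f F hW hfl)
  have : IsNoetherianRing A₀ := by
    have : Algebra.FiniteType ℤ A₀ := (Subalgebra.fg_iff_finiteType A₀).1 hA₀
    exact Algebra.FiniteType.isNoetherianRing ℤ A₀
  obtain ⟨c, hu, hc, ⟨M⟩⟩ := exists_model f₀ F₀ hF₀ hflat
  subst hc
  refine ⟨{ A₀ := A₀, X₀ := X₀, f₀ := f₀, c := c, univ := hu, mdl := M, φ := A₀.val.toRingHom,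
            pb := fun V hV hle => ?_ }⟩
  let j := X.homOfLE (f.preimage_mono hle)
  have hj : j ≫ (f ⁻¹ᵁ W).ι = (f ⁻¹ᵁ V).ι := X.homOfLE_ι _
  let ρ := Spec.map (S.presheaf.map (homOfLE hle).op)
  have hρ : ρ ≫ hW.fromSpec = hV.fromSpec := hW.map_fromSpec hV _
  have tV := CohBCLib.isPullback_overW f hV
  have tW := CohBCLib.isPullback_overW f hW
  have hw : j ≫ overW f hW = overW f hV ≫ ρ := by
    rw [← cancel_mono hW.fromSpec]
    refine (Category.assoc _ _ _).trans ((congrArg (j ≫ ·) tW.w.symm).trans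
      ((Category.assoc _ _ _).symm.trans ((congrArg (· ≫ f) hj).trans (tV.w.trans ?_))))
    rw [Category.assoc, hρ]
  have hjs : IsPullback j (overW f hV) (overW f hW) ρ :=
    IsPullback.of_right (by rw [hj, hρ]; exact tV) hw tW
  refine ⟨j ≫ q, ?_, ⟨?_⟩⟩
  · have h2 : ρ ≫ Spec.map (CommRingCat.ofHom A₀.val.toRingHom) =
        Spec.map (CommRingCat.ofHom ((S.presheaf.map (homOfLE hle).op).hom.comp A₀.val.toRingHom)) := by
      rw [← Spec.map_comp]
      rfl
    exact h2 ▸ hjs.paste_horiz sq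
  · exact ((Scheme.Modules.pullbackComp j q).app _).symm ≪≫ (Scheme.Modules.pullback j).mapIso
      (e ≪≫ (Scheme.Modules.restrictFunctorIsoPullback (f ⁻¹ᵁ W).ι).app F) ≪≫
      (Scheme.Modules.pullbackComp j (f ⁻¹ᵁ W).ι).app F ≪≫ (Scheme.Modules.pullbackCongr hj).app F ≪≫
      ((Scheme.Modules.restrictFunctorIsoPullback (f ⁻¹ᵁ V).ι).app F).symm

end CohCmpLib
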