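import Groth.Agent.CohCmpLib.Good
import Groth.Agent.CohCmpLib.Chain

/-! The resolution of a quasi-coherent module attached to an affine cover. -/

set_option autoImplicit false
set_option maxHeartbeats 1000000

universe u

open CategoryTheory CategoryTheory.Limits AlgebraicGeometry TopologicalSpace Opposite
open RpushLib (secFun)
open CohBCLib (secA)

namespace CohCmpLib

variable {X : Scheme.{u}} {ι : Type} [Finite ι] (U : ι → X.Opens)

/-- The syzygies. -/
noncomputable def rsZ (M : X.Modules) : ℕ → X.Modules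
  | 0 => M
  | q + 1 => cokernel (toC0 U (rsZ M q))

/-- The resolution. -/
noncomputable abbrev rsCh (M : X.Modules) : Ch X where
  Z := rsZ U M
  C q := C0 U (rsZ U M q)
  s q := toC0 U (rsZ U M q)
  π q := cokernel.π (toC0 U (rsZ U M q))
  w q := cokernel.condition _

theorem rsCh_exact (hcov : (⨆ i, U i) = ⊤) (M : X.Modules) : (rsCh U M).Exact :=
  fun q => cseq_shortExact U hcov (rsZ U M q)

theorem pull_rsCh_exact {Y : Scheme.{u}} (g : Y ⟶ X) (hcov : (⨆ i, U i) = ⊤) (M : X.Modules) :
    ((rsCh U M).pull g).Exact :=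
  fun q => pullback_shortExact U g hcov (cseq_shortExact U hcov (rsZ U M q)) (locSplit_cseq U (rsZ U M q))

variable (haff : ∀ k, IsAffineOpen (U k)) [X.IsSeparated]

include haff in
theorem isQCoh_rsZ (M : X.Modules) [Coh.IsQCoh M] : ∀ q, Coh.IsQCoh (rsZ U M q)
  | 0 => inferInstanceAs (Coh.IsQCoh M)
  | q + 1 =>
    haveI := isQCoh_rsZ M q
    isQCoh_cseq U haff (rsZ U M q)

variable {R : Type u} [CommRing R] (f : X ⟶ Spec (CommRingCat.of R))

include haff in
theorem good_rsCh (M : X.Modules) [Coh.IsQCoh M] (q : ℕ) : Good f ((rsCh U M).C q) :=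
  haveI := isQCoh_rsZ U haff M q
  good_C0 haff (rsZ U M q)

omit [Finite ι] [X.IsSeparated] in
theorem flat_secFun_of_isFlatOver (M : X.Modules) [Coh.IsQCoh M] (hfl : FlatMod.IsFlatOver f M)
    {V : X.Opens} (hV : IsAffineOpen V) : Module.Flat R ((secFun V (secA f V)).obj M) := by
  let S' : Type u := Γ(Spec (CommRingCat.of R), ⊤)
  let : Algebra S' Γ(X, V) := (f.appLE ⊤ V le_top).hom.toAlgebra
  let : Module S' Γ(M, V) := Module.compHom _ (f.appLE ⊤ V le_top).hom
  have : IsScalarTower S' Γ(X, V) Γ(M, V) := IsScalarTower.of_algebraMap_smul fun _ _ => rfl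
  have h : Module.Flat S' Γ(M, V) := RichLib.FlatColimit.flat_iff_flatLocus_eq_univ.2 fun q => by
    let P : (V : Scheme.{u}) := hV.isoSpec.inv.base q
    have hq : hV.primeIdealOf ⟨P.1, P.2⟩ = q := by
      change hV.isoSpec.hom.base P = q
      exact congrArg (fun g => g.base q) hV.isoSpec.inv_hom_id
    rw [← hq]
    exact (FlatLib.isFlatOverAt_iff f M ⊤ (isAffineOpen_top _) V hV le_top P.2 rfl).1 (hfl P.1)
  exact (RichLib.ModFlat.flat_iff_of_semilinear (R := R) (R' := S') (M' := Γ(M, V))
    (show R ≃+* S' from (Scheme.ΓSpecIso (CommRingCat.of R)).symm.commRingCatIsoToRingEquiv)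
    (show ((secFun V (secA f V)).obj M : Type u) ≃+ Γ(M, V) from AddEquiv.refl _)
    (fun a s => rfl)).2 h

omit [Finite ι] in
theorem surjective_app_affine {S : ShortComplex X.Modules} (hS : S.ShortExact) [Coh.IsQCoh S.X₁]
    {V : X.Opens} (hV : IsAffineOpen V) : Function.Surjective (S.g.app V) := fun s => by
  have : Subsingleton (QCohLib.HU (S.map (QCohLib.toAbF X)).X₁ 1 V) :=
    QCohLib.subsingleton_HU_affine S.X₁ 0 hV
  exact QCohLib.exists_lift_of_subsingleton (QCohLib.toAbF_shortExact hS) s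

omit [Finite ι] in
/-- Sections of a summand as sections on an intersection. -/
theorem flat_pc {V : X.Opens} (hV : IsAffineOpen V) (k : ι) (hk : IsAffineOpen (U k)) (M : X.Modules)
    (h : ∀ W : X.Opens, IsAffineOpen W → W ≤ U k → Module.Flat R ((secFun W (secA f W)).obj M)) :
    Module.Flat R ((secFun V (secA f V)).obj (pc U k M)) := by
  let W := (U k).ι ''ᵁ ((U k).ι ⁻¹ᵁ V)
  have hW : W = U k ⊓ V := by
    rw [show W = (U k).ι.opensRange ⊓ V from Scheme.Hom.image_preimage_eq_opensRange_inf _ _,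
      Scheme.Opens.opensRange_ι]
  have hflat := h W (hW ▸ hk.inf hV) (hW ▸ inf_le_left)
  let e : ((secFun V (secA f V)).obj (pc U k M) : Type u) ≃ₗ[R] ((secFun W (secA f W)).obj M : Type u) :=
    { toFun := fun m => (show Γ(M, W) from m)
      invFun := fun m => (show Γ(M, W) from m)
      map_add' := fun _ _ => rfl
      map_smul' := fun r m => by
        change ((U k).ι.appIso _).inv ((U k).ι.app V (secA f V r)) • (show Γ(M, W) from m) = _
        refine congrArg (fun a : Γ(X, W) => a • (show Γ(M, W) from m)) ?_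
        rw [Scheme.Opens.ι_appIso, Scheme.Opens.ι_app]
        exact CohBCLib.map_secA f _ r
      left_inv := fun _ => rfl
      right_inv := fun _ => rfl }
  exact Module.Flat.of_linearEquiv e

theorem flat_C0 {V : X.Opens} (hV : IsAffineOpen V) (hk : ∀ k, IsAffineOpen (U k)) (M : X.Modules)
    (h : ∀ W : X.Opens, IsAffineOpen W → (∃ k, W ≤ U k) → Module.Flat R ((secFun W (secA f W)).obj M)) :
    Module.Flat R ((secFun V (secA f V)).obj (C0 U M)) := by
  classical
  have : Fintype ι := Fintype.ofFinite ι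
  let F := secFun V (secA f V)
  have := fun k => flat_pc U f hV k (hk k) M fun W hW hle => h W hW ⟨k, hle⟩
  let i : (F.obj (C0 U M) : Type u) →ₗ[R] (∀ k, (F.obj (pc U k M) : Type u)) :=
    LinearMap.pi fun k => (F.map (biproduct.π _ k)).hom
  let r : (∀ k, (F.obj (pc U k M) : Type u)) →ₗ[R] (F.obj (C0 U M) : Type u) :=
    ∑ k, (F.map (biproduct.ι (fun k => pc U k M) k)).hom ∘ₗ LinearMap.proj k
  have hr : r ∘ₗ i = LinearMap.id := LinearMap.ext fun m => by
    have e := congrArg (fun t => (F.map t).hom m) (biproduct.total (f := fun k => pc U k M))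
    simp only [Functor.map_sum, Functor.map_comp, ModuleCat.hom_sum, ModuleCat.hom_comp, LinearMap.sum_apply,
      LinearMap.comp_apply] at e
    simp only [r, i, LinearMap.comp_apply, LinearMap.sum_apply, LinearMap.proj_apply, LinearMap.pi_apply]
    exact e.trans (LinearMap.congr_fun (congrArg ModuleCat.Hom.hom (F.map_id (C0 U M))) m)
  have : Module.Flat R (∀ k, (F.obj (pc U k M) : Type u)) :=
    Module.Flat.of_linearEquiv (DFinsupp.linearEquivFunOnFintype (R := R)
      (M := fun k => (F.obj (pc U k M) : Type u))).symm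
  exact Module.Flat.of_retract i r hr

/-- Where the sequence splits, flatness of the middle passes to the quotient. -/
theorem flat_cokernel_of_le (M : X.Modules) (k : ι) (W' : (U k : Scheme.{u}).Opens)
    (hS : (cseq U M).ShortExact) [Coh.IsQCoh M] (hW : IsAffineOpen ((U k).ι ''ᵁ W'))
    [hC : Module.Flat R ((secFun ((U k).ι ''ᵁ W') (secA f ((U k).ι ''ᵁ W'))).obj (C0 U M))] :
    Module.Flat R ((secFun ((U k).ι ''ᵁ W') (secA f ((U k).ι ''ᵁ W'))).obj (cokernel (toC0 U M))) := by
  let W := (U k).ι ''ᵁ W'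
  let F := secFun W (secA f W)
  have : Coh.IsQCoh (cseq U M).X₁ := ‹_›
  have hsur := surjective_app_affine hS hW
  let ρ : (F.obj (C0 U M) : Type u) →ₗ[R] (F.obj M : Type u) :=
    { toFun := fun m => (show Γ(M, W) from (retr U M k).app W' (show Γ(C0 U M, W) from m))
      map_add' := fun m m' => map_add ((retr U M k).app W').hom _ _
      map_smul' := fun a m => by
        have e := (retr U M k).app_smul (((U k).ι.appIso W').hom (secA f W a)) (show Γ(C0 U M, W) from m)
        change (retr U M k).app W' (secA f W a • (show Γ(C0 U M, W) from m)) =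
          secA f W a • (show Γ(M, W) from (retr U M k).app W' (show Γ(C0 U M, W) from m))
        have ea : ((U k).ι.appIso W').inv (((U k).ι.appIso W').hom (secA f W a)) = secA f W a :=
          congr($(((U k).ι.appIso W').hom_inv_id) (secA f W a))
        rw [← ea]
        exact e }
  have hρ : ρ ∘ₗ (F.map (toC0 U M)).hom = LinearMap.id := LinearMap.ext fun z =>
    congr(Scheme.Modules.Hom.app $(toC0_retr U M k) W' z)
  let φ : (F.obj (C0 U M) : Type u) →ₗ[R] (F.obj (C0 U M) : Type u) :=
    LinearMap.id - (F.map (toC0 U M)).hom ∘ₗ ρ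
  have hker : ∀ m, (F.map (cokernel.π (toC0 U M))).hom m = 0 → φ m = 0 := fun m hm => by
    obtain ⟨z, hz⟩ := QCohLib.exists_of_app_eq_zero hS.exact hS.mono_f (show Γ(C0 U M, W) from m) hm
    have hz' : (F.map (toC0 U M)).hom (show (F.obj M : Type u) from z) = m := hz
    rw [← hz']
    change _ - (F.map (toC0 U M)).hom (ρ ((F.map (toC0 U M)).hom _)) = 0
    rw [show ρ ((F.map (toC0 U M)).hom (show (F.obj M : Type u) from z)) = z from LinearMap.congr_fun hρ _]
    exact sub_self _
  let π := (F.map (cokernel.π (toC0 U M))).hom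
  have hπ : Function.Surjective π := hsur
  let sec : (F.obj (cokernel (toC0 U M)) : Type u) →ₗ[R] (F.obj (C0 U M) : Type u) :=
    (LinearMap.ker π).liftQ φ (fun m hm => hker m hm) ∘ₗ
      (LinearMap.quotKerEquivOfSurjective π hπ).symm.toLinearMap
  have hsec : π ∘ₗ sec = LinearMap.id := LinearMap.ext fun y => by
    obtain ⟨m, rfl⟩ := hπ y
    have e : (LinearMap.quotKerEquivOfSurjective π hπ).symm (π m) = Submodule.Quotient.mk m := by
      rw [LinearEquiv.symm_apply_eq]
      rfl
    simp only [sec, LinearMap.comp_apply, LinearEquiv.coe_coe, e, Submodule.liftQ_apply, LinearMap.id_apply]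
    change π (m - (F.map (toC0 U M)).hom (ρ m)) = π m
    rw [map_sub, sub_eq_self]
    exact congr(Scheme.Modules.Hom.app $(cokernel.condition (toC0 U M)) W (ρ m))
  exact @Module.Flat.of_retract R _ _ _ _ _ _ _ hC sec π hsec

include haff in
theorem flat_rsZ (hcov : (⨆ i, U i) = ⊤) (M : X.Modules) [Coh.IsQCoh M] (hfl : FlatMod.IsFlatOver f M) :
    ∀ (q : ℕ) (W : X.Opens), IsAffineOpen W → (∃ k, W ≤ U k) →
      Module.Flat R ((secFun W (secA f W)).obj (rsZ U M q))
  | 0, W, hW, _ => flat_secFun_of_isFlatOver f M hfl hW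
  | q + 1, W, hW, ⟨k, hk⟩ => by
    have hq := isQCoh_rsZ U haff M q
    have hWW : (U k).ι ''ᵁ ((U k).ι ⁻¹ᵁ W) = W := by
      rw [Scheme.Hom.image_preimage_eq_opensRange_inf, Scheme.Opens.opensRange_ι]
      exact inf_eq_right.2 hk
    rw [← hWW] at hW ⊢
    have := flat_C0 U f hW haff (rsZ U M q) (flat_rsZ hcov M hfl q)
    exact flat_cokernel_of_le U f (rsZ U M q) k _ (cseq_shortExact U hcov _) hW

include haff in
theorem flat_rsCh (hcov : (⨆ i, U i) = ⊤) (M : X.Modules) [Coh.IsQCoh M] (hfl : FlatMod.IsFlatOver f M)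
    (q : ℕ) : Module.Flat R ((secFun ⊤ (secA f ⊤)).obj ((rsCh U M).C q)) := by
  classical
  have : Fintype ι := Fintype.ofFinite ι
  let F := secFun ⊤ (secA f ⊤)
  have hpk : ∀ k, Module.Flat R (F.obj (pc U k (rsZ U M q))) := fun k => by
    let W := (U k).ι ''ᵁ ((U k).ι ⁻¹ᵁ ⊤)
    have hW : W = U k := by
      rw [show W = (U k).ι.opensRange ⊓ ⊤ from Scheme.Hom.image_preimage_eq_opensRange_inf _ _,
        Scheme.Opens.opensRange_ι, inf_top_eq]
    have hflat := flat_rsZ U haff f hcov M hfl q W (hW ▸ haff k) ⟨k, hW.le⟩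
    let e : (F.obj (pc U k (rsZ U M q)) : Type u) ≃ₗ[R] ((secFun W (secA f W)).obj (rsZ U M q) : Type u) :=
      { toFun := fun m => (show Γ(rsZ U M q, W) from m)
        invFun := fun m => (show Γ(rsZ U M q, W) from m)
        map_add' := fun _ _ => rfl
        map_smul' := fun r m => by
          change ((U k).ι.appIso _).inv ((U k).ι.app ⊤ (secA f ⊤ r)) • (show Γ(rsZ U M q, W) from m) = _
          refine congrArg (fun a : Γ(X, W) => a • (show Γ(rsZ U M q, W) from m)) ?_
          rw [Scheme.Opens.ι_appIso, Scheme.Opens.ι_app]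
          exact CohBCLib.map_secA f _ r
        left_inv := fun _ => rfl
        right_inv := fun _ => rfl }
    exact Module.Flat.of_linearEquiv e
  let i : (F.obj (C0 U (rsZ U M q)) : Type u) →ₗ[R] (∀ k, (F.obj (pc U k (rsZ U M q)) : Type u)) :=
    LinearMap.pi fun k => (F.map (biproduct.π _ k)).hom
  let r : (∀ k, (F.obj (pc U k (rsZ U M q)) : Type u)) →ₗ[R] (F.obj (C0 U (rsZ U M q)) : Type u) :=
    ∑ k, (F.map (biproduct.ι (fun k => pc U k (rsZ U M q)) k)).hom ∘ₗ LinearMap.proj k
  have hr : r ∘ₗ i = LinearMap.id := LinearMap.ext fun m => by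
    have e := congrArg (fun t => (F.map t).hom m) (biproduct.total (f := fun k => pc U k (rsZ U M q)))
    simp only [Functor.map_sum, Functor.map_comp, ModuleCat.hom_sum, ModuleCat.hom_comp, LinearMap.sum_apply,
      LinearMap.comp_apply] at e
    simp only [r, i, LinearMap.comp_apply, LinearMap.sum_apply, LinearMap.proj_apply, LinearMap.pi_apply]
    exact e.trans (LinearMap.congr_fun (congrArg ModuleCat.Hom.hom (F.map_id (C0 U (rsZ U M q)))) m)
  have : Module.Flat R (∀ k, (F.obj (pc U k (rsZ U M q)) : Type u)) :=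
    Module.Flat.of_linearEquiv (DFinsupp.linearEquivFunOnFintype (R := R)
      (M := fun k => (F.obj (pc U k (rsZ U M q)) : Type u))).symm
  exact Module.Flat.of_retract i r hr

end CohCmpLib
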