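import Groth.Agent.CohCmpLib.Bridge
import Groth.Agent.CohCmpLib.Res
import Groth.Agent.QCohLib.Bound

/-! The model of a quasi-coherent module and its vanishing in high degrees. -/

set_option autoImplicit false
set_option maxHeartbeats 1000000

universe u

open CategoryTheory CategoryTheory.Limits AlgebraicGeometry TopologicalSpace Opposite TensorProduct
open CohBCLib (HA)

namespace CohCmpLib

variable {R : Type u} [CommRing R] {X : Scheme.{u}} (f : X ⟶ Spec (CommRingCat.of R))

include f in
theorem exists_affine_cover [QuasiCompact f] :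
    ∃ (n : ℕ) (U : Fin n → X.Opens), (⨆ i, U i) = ⊤ ∧ ∀ i, IsAffineOpen (U i) := by
  classical
  have : CompactSpace X := QuasiCompact.compactSpace_of_compactSpace f
  let 𝒰 := X.affineCover.finiteSubcover
  have : Fintype 𝒰.I₀ := Fintype.ofFinite _
  refine ⟨Fintype.card 𝒰.I₀, fun i => (𝒰.f ((Fintype.equivFin 𝒰.I₀).symm i)).opensRange, ?_,
    fun i => isAffineOpen_opensRange _⟩
  rw [eq_top_iff]
  refine le_trans (le_of_eq 𝒰.iSup_opensRange.symm) (iSup_le fun i => ?_)
  exact le_iSup_of_le (Fintype.equivFin 𝒰.I₀ i) (le_of_eq (congrArg (fun j => (𝒰.f j).opensRange) ((Fintype.equivFin 𝒰.I₀).symm_apply_apply i).symm))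

variable [X.IsSeparated] {n : ℕ} {U : Fin n → X.Opens} (hcov : (⨆ i, U i) = ⊤)
  (haff : ∀ i, IsAffineOpen (U i)) (M : X.Modules) [Coh.IsQCoh M]

include hcov haff in
theorem univ_rsCh : (rsCh U M).Univ f where
  exact g := pull_rsCh_exact U g hcov M
  good := good_rsCh U haff f M

variable {f} {B : Type u} [CommRing B] [Algebra R B] {X' : Scheme.{u}} {h : X' ⟶ X}
  {f' : X' ⟶ Spec (CommRingCat.of B)}
  (H : IsPullback h f' f (Spec.map (CommRingCat.ofHom (algebraMap R B))))

include H in
omit [X.IsSeparated] in
theorem isAffineHom_of_base : IsAffineHom h :=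
  MorphismProperty.of_isPullback (P := @IsAffineHom) H.flip inferInstance

include H hcov haff in
/-- No cohomology above the number of affines, after any base change. -/
theorem subsingleton_HC_pullback (p : ℕ) (hp : n ≤ p) :
    Subsingleton (HC X' ((Scheme.Modules.pullback h).obj M) p) := by
  classical
  have := isAffineHom_of_base H
  have : Coh.IsQCoh ((Scheme.Modules.pullback h).obj M) := KFlatLib.isQCoh_pullback h M
  refine (QCohLib.subsingleton_H_iff _ p).2 ?_
  have hU : (Finset.univ : Finset (Fin n)).sup (fun i => h ⁻¹ᵁ U i) = ⊤ := by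
    rw [Finset.sup_univ_eq_iSup, ← h.preimage_iSup, hcov]
    rfl
  have hinf : ∀ t : Finset (Fin n), t.Nonempty → IsAffineOpen (t.inf fun i => h ⁻¹ᵁ U i) := fun t ht => by
    have : X'.IsSeparated := ⟨by
      rw [← terminal.comp_from h]
      infer_instance⟩
    induction ht using Finset.Nonempty.cons_induction with
    | singleton a => rw [Finset.inf_singleton]; exact (haff a).preimage h
    | cons a t ha _ ih => rw [Finset.inf_cons]; exact ((haff a).preimage h).inf ih
  have := QCohLib.subsingleton_HU_finsetSup ((Scheme.Modules.pullback h).obj M) Finset.univ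
    (fun i => h ⁻¹ᵁ U i) (fun t ht _ => hinf t ht) p (by rw [Finset.card_univ, Fintype.card_fin]; exact hp)
  rwa [hU] at this

include H hcov haff in
theorem subsingleton_HmKB (p : ℕ) (hp : n ≤ p) : Subsingleton (HmKB (Kc f (rsCh U M)) p B) :=
  have hu := univ_rsCh f hcov haff M
  have : Subsingleton ((HA f' p).obj ((Scheme.Modules.pullback h).obj ((rsCh U M).Z 0)) : Type u) :=
    subsingleton_HC_pullback hcov haff M H p hp
  (omega H (rsCh U M) hu.good p (hu.exact h)).toEquiv.subsingleton

include hcov haff in
/-- The model is exact in high degrees after every base change. -/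
theorem exact_baseChange_high (B : Type u) [CommRing B] [Algebra R B] (p : ℕ) (hp : n ≤ p)
    (y : B ⊗[R] ((Kc f (rsCh U M)).X p : Type u))
    (hy : ((Kc f (rsCh U M)).d p (p + 1)).hom.baseChange B y = 0) :
    y ∈ LinearMap.range (((Kc f (rsCh U M)).d (p - 1) p).hom.baseChange B) := by
  have := subsingleton_HmKB hcov haff M
    (IsPullback.of_hasPullback f (Spec.map (CommRingCat.ofHom (algebraMap R B)))) p hp
  have h0 : (Submodule.Quotient.mk ⟨y, hy⟩ : HmKB (Kc f (rsCh U M)) p B) = 0 := Subsingleton.elim _ _
  exact Submodule.mem_comap.1 ((Submodule.Quotient.mk_eq_zero _).1 h0)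

end CohCmpLib
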