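import Groth.Agent.CohCmpLib.Tower
import Groth.Agent.CohBCLib.Model

/-! Finite free models, compared by elements in every base change. -/

set_option autoImplicit false
set_option maxHeartbeats 1000000

universe u

open CategoryTheory CategoryTheory.Limits HomologicalComplex TensorProduct
open CohBCLib (eN)
open FlatCxLib (Hm)

attribute [local instance] HasDerivedCategory.standard

namespace CohCmpLib

section Map

variable {R : Type u} [CommRing R] {U V W U' V' W' : Type u}
  [AddCommGroup U] [Module R U] [AddCommGroup V] [Module R V] [AddCommGroup W] [Module R W]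
  [AddCommGroup U'] [Module R U'] [AddCommGroup V'] [Module R V'] [AddCommGroup W'] [Module R W']

/-- A morphism of three-term sequences, seen through the middle term. -/
structure MidMap (a : U →ₗ[R] V) (b : V →ₗ[R] W) (a' : U' →ₗ[R] V') (b' : V' →ₗ[R] W') where
  /-- middle -/
  v : V →ₗ[R] V'
  /-- right -/
  w : W →ₗ[R] W'
  left : ∀ x, v (a x) ∈ LinearMap.range a'
  right : ∀ y, w (b y) = b' (v y)

variable {a : U →ₗ[R] V} {b : V →ₗ[R] W} {a' : U' →ₗ[R] V'} {b' : V' →ₗ[R] W'}

/-- Base change. -/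
noncomputable def MidMap.bc (m : MidMap a b a' b') (B : Type u) [CommRing B] [Algebra R B] :
    MidMap (a.baseChange B) (b.baseChange B) (a'.baseChange B) (b'.baseChange B) where
  v := m.v.baseChange B
  w := m.w.baseChange B
  left x := by
    induction x using TensorProduct.induction_on with
    | zero => simp
    | tmul t x =>
      obtain ⟨y, hy⟩ := m.left x
      exact ⟨t ⊗ₜ y, by simp [hy]⟩
    | add x y hx hy => simpa only [map_add] using add_mem hx hy
  right y := by
    induction y using TensorProduct.induction_on with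
    | zero => simp
    | tmul t y => simp [m.right]
    | add x y hx hy => simp only [map_add, hx, hy]

/-- On cycles. -/
noncomputable def MidMap.cyc (m : MidMap a b a' b') : LinearMap.ker b →ₗ[R] LinearMap.ker b' :=
  (m.v ∘ₗ (LinearMap.ker b).subtype).codRestrict _ fun y => by
    rw [LinearMap.mem_ker, LinearMap.comp_apply, Submodule.subtype_apply, ← m.right,
      LinearMap.mem_ker.1 y.2, map_zero]

/-- On homology. -/
noncomputable def MidMap.hm (m : MidMap a b a' b') : Hm a b →ₗ[R] Hm a' b' :=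
  Submodule.mapQ _ _ m.cyc fun y hy => by
    obtain ⟨x, hx⟩ := hy
    change m.v y.1 ∈ LinearMap.range a'
    have hx' : a x = y.1 := hx
    rw [← hx']
    exact m.left x

theorem MidMap.hm_mk (m : MidMap a b a' b') (y : LinearMap.ker b) :
    m.hm (Submodule.Quotient.mk y) = Submodule.Quotient.mk (m.cyc y) := rfl

theorem MidMap.bijective_hm (m : MidMap a b a' b')
    (hi : ∀ y, b y = 0 → m.v y ∈ LinearMap.range a' → y ∈ LinearMap.range a)
    (hs : ∀ y', b' y' = 0 → ∃ y, b y = 0 ∧ m.v y - y' ∈ LinearMap.range a') : Function.Bijective m.hm := by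
  refine ⟨(injective_iff_map_eq_zero _).2 fun x hx => ?_, fun x => ?_⟩
  · obtain ⟨y, rfl⟩ := Submodule.Quotient.mk_surjective _ x
    rw [m.hm_mk, Submodule.Quotient.mk_eq_zero] at hx
    exact (Submodule.Quotient.mk_eq_zero _).2 (hi y.1 y.2 hx)
  · obtain ⟨y', rfl⟩ := Submodule.Quotient.mk_surjective _ x
    obtain ⟨y, hy, hyy⟩ := hs y'.1 y'.2
    exact ⟨Submodule.Quotient.mk ⟨y, hy⟩, (Submodule.Quotient.eq _).2 hyy⟩

variable {B B' : Type u} [CommRing B] [CommRing B'] [Algebra R B] [Algebra R B'] [Algebra B B']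
  [IsScalarTower R B B']

theorem MidMap.hm_tow (m : MidMap a b a' b') (x : Hm (a.baseChange B) (b.baseChange B)) :
    towHm (B' := B') a' b' ((m.bc B).hm x) = (m.bc B').hm (towHm a b x) := by
  obtain ⟨y, rfl⟩ := Submodule.Quotient.mk_surjective _ x
  rw [MidMap.hm_mk, towHm_mk, towHm_mk, MidMap.hm_mk]
  exact congrArg Submodule.Quotient.mk (Subtype.ext (towV_baseChange m.v y.1).symm)

end Map

variable {A : Type u} [CommRing A]

theorem flat_quotient_of_exact {U V W : Type u} [AddCommGroup U] [Module A U] [AddCommGroup V] [Module A V]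
    [AddCommGroup W] [Module A W] (a : U →ₗ[A] V) (b : V →ₗ[A] W) (hab : b ∘ₗ a = 0) [Module.Flat A W]
    (h : ∀ (M : Type u) [AddCommGroup M] [Module A M] (y : V ⊗[A] M),
      b.rTensor M y = 0 → y ∈ LinearMap.range (a.rTensor M)) :
    Module.Flat A (W ⧸ LinearMap.range b) := by
  rw [Module.Flat.iff_lTensor_preserves_injective_linearMap]
  intro N N' _ _ _ _ i hi
  refine (FlatCxLib.surj_iff a b hab hi (LinearMap.exact_map_mkQ_range i) (Submodule.mkQ_surjective _)).1
    fun y hy => ?_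
  obtain ⟨u, rfl⟩ := h _ y hy
  obtain ⟨u, rfl⟩ := LinearMap.lTensor_surjective U (Submodule.mkQ_surjective _) u
  refine ⟨a.rTensor N' u, FlatCxLib.comp_rTensor_eq_zero a b hab N' u, 0, ?_⟩
  rw [map_zero, FlatCxLib.rTensor_lTensor, sub_self]

/-- Exactness gives vanishing homology of the tensored complex. -/
theorem isZero_T_of_exact (K : CochainComplex (ModuleCat.{u} A) ℕ) (n : ℕ) (hn : 0 < n)
    (M : ModuleCat.{u} A) (h : ∀ y : (K.X n : Type u) ⊗[A] M, (K.d n (n + 1)).hom.rTensor M y = 0 →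
      y ∈ LinearMap.range ((K.d (n - 1) n).hom.rTensor M)) : IsZero (CohIII.T K n M) := by
  have : Subsingleton (CohIII.T K n M : Type u) := subsingleton_of_forall_eq 0 fun x => by
    obtain ⟨z, rfl⟩ := FlatCxLib.hcls_surjective (CohIII.tensorObj K M) n (n + 1) (by simp) x
    exact (FlatCxLib.hcls_eq_zero_iff _ n (n + 1) (by simp) (n - 1) (by
      obtain ⟨m, rfl⟩ := Nat.exists_eq_add_one.2 hn
      simp) z).2 (h z.1 z.2)
  exact ModuleCat.isZero_of_subsingleton _

/-- A bounded finite free complex computing `K` after every base change. -/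
structure Mdl (K : CochainComplex (ModuleCat.{u} A) ℕ) where
  /-- the complex -/
  P : CochainComplex (ModuleCat.{u} A) ℤ
  fin : ∀ i, Module.Finite A (P.X i) ∧ Module.Free A (P.X i)
  /-- the bound -/
  N : ℕ
  above : ∀ i, (N : ℤ) < i → IsZero (P.X i)
  /-- the comparison -/
  mid : ∀ p : ℕ, MidMap (P.d ((p : ℤ) - 1) p).hom (P.d (p : ℤ) ((p + 1 : ℕ) : ℤ)).hom
    (K.d (p - 1) p).hom (K.d p (p + 1)).hom
  bij : ∀ (B : Type u) [CommRing B] [Algebra A B] (p : ℕ), Function.Bijective ((mid p).bc B).hm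
  /-- the complex is a flat resolution in negative degrees -/
  flat0 : Module.Flat A ((P.X ((0 : ℕ) : ℤ) : Type u) ⧸ LinearMap.range (P.d (((0 : ℕ) : ℤ) - 1) ((0 : ℕ) : ℤ)).hom)

variable (K : CochainComplex (ModuleCat.{u} A) ℕ)

/-- The identification of a term of the extension. -/
noncomputable abbrev eX (q : ℕ) : ((K.extend eN).X (q : ℤ) : Type u) ≃ₗ[A] (K.X q : Type u) :=
  (K.extendXIso eN (show eN.f q = (q : ℤ) from rfl)).toLinearEquiv

theorem eX_d (i j : ℕ) (x : (K.extend eN).X (i : ℤ)) :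
    eX K j (((K.extend eN).d (i : ℤ) (j : ℤ)).hom x) = (K.d i j).hom (eX K i x) := by
  rw [K.extend_d_eq eN (show eN.f i = (i : ℤ) from rfl) (show eN.f j = (j : ℤ) from rfl)]
  exact congr($((K.extendXIso eN (show eN.f j = (j : ℤ) from rfl)).inv_hom_id)
    ((K.d i j).hom (eX K i x)))

theorem range_eX (p : ℕ) (B : Type u) [CommRing B] [Algebra A B] :
    (LinearMap.range (((K.extend eN).d ((p : ℤ) - 1) p).hom.baseChange B)).map
        (LinearEquiv.baseChange A B _ _ (eX K p)).toLinearMap =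
      LinearMap.range ((K.d (p - 1) p).hom.baseChange B) := by
  rcases p with _ | q
  · have h0 : (K.extend eN).d (((0 : ℕ) : ℤ) - 1) ((0 : ℕ) : ℤ) = 0 :=
      (K.isZero_extend_X eN _ fun n => by change (n : ℤ) ≠ _; omega).eq_of_src _ _
    rw [h0, K.shape (0 - 1) 0 (by simp)]
    simp
  · have e : (((q + 1 : ℕ) : ℤ) - 1) = ((q : ℕ) : ℤ) := by omega
    rw [e, Nat.add_sub_cancel, ← LinearMap.range_comp]
    have hc : (LinearEquiv.baseChange A B _ _ (eX K (q + 1))).toLinearMap ∘ₗ
        ((K.extend eN).d ((q : ℕ) : ℤ) ((q + 1 : ℕ) : ℤ)).hom.baseChange B =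
        (K.d q (q + 1)).hom.baseChange B ∘ₗ (LinearEquiv.baseChange A B _ _ (eX K q)).toLinearMap := by
      refine TensorProduct.AlgebraTensorModule.ext fun t x => ?_
      exact congrArg (t ⊗ₜ[A] ·) (eX_d K q (q + 1) x)
    rw [hc, LinearMap.range_comp, LinearEquiv.range, Submodule.map_top]

variable [IsNoetherianRing A]

theorem exists_mdl (hflat : ∀ n, Module.Flat A (K.X n)) (hfin : ∀ n, Module.Finite A (K.homology n)) (N : ℕ)
    (hN : ∀ (M : ModuleCat.{u} A) (n : ℕ), N < n → IsZero (CohIII.T K n M)) : Nonempty (Mdl K) := by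
  let D := K.extend eN
  have hDflat : ∀ i, Module.Flat A (D.X i) := fun i => by
    rcases lt_or_ge i 0 with hi | hi
    · have := ModuleCat.subsingleton_of_isZero (K.isZero_extend_X eN i fun n => by
        change (n : ℤ) ≠ i
        omega)
      infer_instance
    · obtain ⟨n, rfl⟩ := Int.eq_ofNat_of_zero_le hi
      have := hflat n
      exact Module.Flat.of_linearEquiv (eX K n)
  have hDT : ∀ M (i : ℤ), (N : ℤ) < i → IsZero ((CohIII.tensorObj D M).homology i) := fun M i hi => by
    obtain ⟨n, rfl⟩ := Int.eq_ofNat_of_zero_le (show 0 ≤ i by omega)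
    exact (hN M n (by omega)).of_iso (CohBCLib.extTIso K M n)
  have hDfin : ∀ i, Module.Finite A (D.homology i) := fun i => by
    rcases lt_or_ge i 0 with hi | hi
    · exact Groth.Agent.DRingLib.finite_of_isZero ((exactAt_iff_isZero_homology _ i).1
        (ShortComplex.exact_of_isZero_X₂ _ (K.isZero_extend_X eN i fun n => by
          change (n : ℤ) ≠ i
          omega)))
    · obtain ⟨n, rfl⟩ := Int.eq_ofNat_of_zero_le hi
      have := hfin n
      exact Module.Finite.equiv (K.extendHomologyIso eN (show eN.f n = (n : ℤ) from rfl)).symm.toLinearEquiv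
  have hDz : ∀ i, (N : ℤ) < i → IsZero (D.homology i) := fun i hi =>
    (hDT (ModuleCat.of A A) i hi).of_iso ((homologyFunctor _ _ i).mapIso (CohBCLib.tensorUnitIso D)).symm
  have hpc : ∀ m, DRing.IsPseudoCoherent A m (DerivedCategory.Q.obj D) := fun m =>
    Groth.Agent.DRingLib.isPseudoCoherent_of_finite_noetherian (b := (N : ℤ))
      (fun i hi => (hDz i hi).of_iso
        ((DerivedCategory.homologyFunctorFactors (ModuleCat.{u} A) i).app D))
      fun i _ => by
        exact @Module.Finite.equiv _ _ _ _ _ _ _ _ (hDfin i)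
          ((DerivedCategory.homologyFunctorFactors (ModuleCat.{u} A) i).app D).symm.toLinearEquiv
  obtain ⟨P, φ, hPb, hPf, hφ⟩ := (Groth.Agent.DRingLib.exists_resolution D (N : ℤ)
    (Groth.Agent.DRingLib.finite_cone_of_forall hpc) hDz).2
  have hPflat : ∀ i, Module.Flat A (P.X i) := fun i => by
    have := (hPf i).2
    infer_instance
  have hq := fun M => CohBCLib.quasiIso_tensor φ hPflat hDflat N hPb hDT M
  let ψ : ∀ q : ℕ, (P.X (q : ℤ) : Type u) →ₗ[A] (K.X q : Type u) := fun q =>
    (eX K q).toLinearMap ∘ₗ (φ.f (q : ℤ)).hom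
  have hcomm : ∀ (i j : ℤ) (x : P.X i), (D.d i j).hom ((φ.f i).hom x) = (φ.f j).hom ((P.d i j).hom x) :=
    fun i j x => congr($(φ.comm i j) x)
  have hright : ∀ (p : ℕ) (y : P.X (p : ℤ)), ψ (p + 1) ((P.d (p : ℤ) ((p + 1 : ℕ) : ℤ)).hom y) =
      (K.d p (p + 1)).hom (ψ p y) := fun p y => by
    simp only [ψ, LinearMap.comp_apply, LinearEquiv.coe_coe]
    rw [← hcomm, eX_d]
  have hleft : ∀ (p : ℕ) (x : P.X ((p : ℤ) - 1)), ψ p ((P.d ((p : ℤ) - 1) p).hom x) ∈
      LinearMap.range (K.d (p - 1) p).hom := fun p x => by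
    simp only [ψ, LinearMap.comp_apply, LinearEquiv.coe_coe]
    rw [← hcomm]
    rcases p with _ | q
    · have h0 : D.d (((0 : ℕ) : ℤ) - 1) ((0 : ℕ) : ℤ) = 0 :=
        (K.isZero_extend_X eN _ fun n => by change (n : ℤ) ≠ _; omega).eq_of_src _ _
      rw [h0]
      simp
    · have key : ∀ (i : ℤ), i = (q : ℤ) → ∀ y : D.X i,
          eX K (q + 1) ((D.d i ((q + 1 : ℕ) : ℤ)).hom y) ∈ LinearMap.range (K.d q (q + 1)).hom := by
        rintro i rfl y
        exact ⟨_, (eX_d K q (q + 1) y).symm⟩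
      rw [Nat.add_sub_cancel]
      exact key _ (by omega) _
  let mid : ∀ p : ℕ, MidMap (P.d ((p : ℤ) - 1) p).hom (P.d (p : ℤ) ((p + 1 : ℕ) : ℤ)).hom
      (K.d (p - 1) p).hom (K.d p (p + 1)).hom := fun p => ⟨ψ p, ψ (p + 1), hleft p, hright p⟩
  have h0 : Module.Flat A ((P.X ((0 : ℕ) : ℤ) : Type u) ⧸
      LinearMap.range (P.d (((0 : ℕ) : ℤ) - 1) ((0 : ℕ) : ℤ)).hom) := by
    have := hPflat ((0 : ℕ) : ℤ)
    refine flat_quotient_of_exact (P.d (((0 : ℕ) : ℤ) - 1 - 1) (((0 : ℕ) : ℤ) - 1)).hom _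
      (by rw [← ModuleCat.hom_comp, P.d_comp_d]; rfl) fun M _ _ y hy => ?_
    have := (quasiIsoAt_iff_isIso_homologyMap _ _).1
      ((hq (ModuleCat.of A M)).quasiIsoAt (((0 : ℕ) : ℤ) - 1))
    have hbij := ConcreteCategory.bijective_of_isIso (homologyMap
      (((MonoidalCategory.tensorRight (ModuleCat.of A M)).mapHomologicalComplex _).map φ) (((0 : ℕ) : ℤ) - 1))
    have hz : IsZero (((MonoidalCategory.tensorRight (ModuleCat.of A M)).mapHomologicalComplex
        (ComplexShape.up ℤ)).obj D |>.X (((0 : ℕ) : ℤ) - 1)) :=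
      (MonoidalCategory.tensorRight (ModuleCat.of A M)).map_isZero
        (K.isZero_extend_X eN _ fun n => by change (n : ℤ) ≠ _; omega)
    have := ModuleCat.subsingleton_of_isZero hz
    exact (FlatCxLib.injective_homologyMap_iff
      (φ := ((MonoidalCategory.tensorRight (ModuleCat.of A M)).mapHomologicalComplex _).map φ)
      (((0 : ℕ) : ℤ) - 1) ((0 : ℕ) : ℤ) (by simp) (((0 : ℕ) : ℤ) - 1 - 1) (by simp)).1 hbij.1 y hy
      ⟨0, Subsingleton.elim _ _⟩
  refine ⟨⟨P, hPf, N, hPb, mid, fun B _ _ p => ?_, h0⟩⟩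
  have hb : ∀ (i j : ℤ) (x : B ⊗[A] (P.X i : Type u)),
      (D.d i j).hom.baseChange B ((φ.f i).hom.baseChange B x) =
        (φ.f j).hom.baseChange B ((P.d i j).hom.baseChange B x) := fun i j x => by
    rw [← LinearMap.comp_apply, ← LinearMap.comp_apply, ← LinearMap.baseChange_comp, ← LinearMap.baseChange_comp,
      show (D.d i j).hom ∘ₗ (φ.f i).hom = (φ.f j).hom ∘ₗ (P.d i j).hom from LinearMap.ext (hcomm i j)]
  have hc : ∀ {N N' : Type u} [AddCommGroup N] [Module A N] [AddCommGroup N'] [Module A N'] (θ : N →ₗ[A] N')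
      (x : B ⊗[A] N), TensorProduct.comm A B N' (θ.baseChange B x) = θ.rTensor B (TensorProduct.comm A B N x) :=
    fun θ x => by
      induction x using TensorProduct.induction_on with
      | zero => simp
      | tmul t x => simp
      | add x y hx hy => simp [hx, hy]
  have hcs : ∀ {N N' : Type u} [AddCommGroup N] [Module A N] [AddCommGroup N'] [Module A N'] (θ : N →ₗ[A] N')
      (x : N ⊗[A] B), TensorProduct.comm A B N' (θ.baseChange B ((TensorProduct.comm A B N).symm x)) =
        θ.rTensor B x := fun θ x => by rw [hc, LinearEquiv.apply_symm_apply]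
  have hiso := (quasiIsoAt_iff_isIso_homologyMap _ _).1 ((hq (ModuleCat.of A B)).quasiIsoAt (p : ℤ))
  have hbij := ConcreteCategory.bijective_of_isIso
    (homologyMap (((MonoidalCategory.tensorRight (ModuleCat.of A B)).mapHomologicalComplex _).map φ) (p : ℤ))
  have hinj := (FlatCxLib.injective_homologyMap_iff
    (φ := ((MonoidalCategory.tensorRight (ModuleCat.of A B)).mapHomologicalComplex _).map φ)
    (p : ℤ) ((p + 1 : ℕ) : ℤ) (by simp) ((p : ℤ) - 1) (by simp)).1 hbij.1
  have hsur := (FlatCxLib.surjective_homologyMap_iff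
    (φ := ((MonoidalCategory.tensorRight (ModuleCat.of A B)).mapHomologicalComplex _).map φ)
    (p : ℤ) ((p + 1 : ℕ) : ℤ) (by simp) ((p : ℤ) - 1) (by simp)).1 hbij.2
  let e := LinearEquiv.baseChange A B _ _ (eX K p)
  let e₁ := LinearEquiv.baseChange A B _ _ (eX K (p + 1))
  have hrange : ∀ z : B ⊗[A] ((D.X (p : ℤ)) : Type u),
      e z ∈ LinearMap.range ((K.d (p - 1) p).hom.baseChange B) ↔
        z ∈ LinearMap.range ((D.d ((p : ℤ) - 1) p).hom.baseChange B) := fun z => by
    rw [← range_eX K p B]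
    exact ⟨fun ⟨z', h1, h2⟩ => e.injective h2 ▸ h1, fun h => ⟨z, h, rfl⟩⟩
  have hv : ∀ y, ((mid p).bc B).v y = e ((φ.f (p : ℤ)).hom.baseChange B y) := fun y => by
    change (ψ p).baseChange B y = _
    rw [LinearMap.baseChange_comp]
    rfl
  refine MidMap.bijective_hm _ (fun y hy hy' => ?_) fun y' hy' => ?_
  · rw [hv, hrange] at hy'
    obtain ⟨w, hw⟩ := hy'
    obtain ⟨x, hx⟩ := hinj (TensorProduct.comm A B _ y) ((hc _ y).symm.trans ((congrArg _ hy).trans (map_zero _)))
      ⟨TensorProduct.comm A B _ w, (hc _ w).symm.trans ((congrArg _ hw).trans (hc _ y))⟩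
    refine ⟨(TensorProduct.comm A B _).symm x, (TensorProduct.comm A B _).injective ?_⟩
    exact (hcs _ x).trans hx
  · obtain ⟨z, rfl⟩ := e.surjective y'
    have hz : (D.d (p : ℤ) ((p + 1 : ℕ) : ℤ)).hom.baseChange B z = 0 := by
      have hcd : e₁.toLinearMap ∘ₗ (D.d (p : ℤ) ((p + 1 : ℕ) : ℤ)).hom.baseChange B =
          (K.d p (p + 1)).hom.baseChange B ∘ₗ e.toLinearMap :=
        TensorProduct.AlgebraTensorModule.ext fun t x => congrArg (t ⊗ₜ[A] ·) (eX_d K p (p + 1) x)
      apply e₁.injective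
      rw [map_zero, ← hy']
      exact congr($hcd z)
    obtain ⟨x, hx, w, hw⟩ := hsur (TensorProduct.comm A B _ z)
      ((hc _ z).symm.trans ((congrArg _ hz).trans (map_zero _)))
    let y := (TensorProduct.comm A B _).symm x
    have hy : (P.d (p : ℤ) ((p + 1 : ℕ) : ℤ)).hom.baseChange B y = 0 := by
      apply (TensorProduct.comm A B _).injective
      exact (hcs _ x).trans (hx.trans (map_zero _).symm)
    refine ⟨y, hy, ?_⟩
    rw [hv, ← map_sub, hrange]
    refine ⟨(TensorProduct.comm A B _).symm w, (TensorProduct.comm A B _).injective ?_⟩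
    refine (hcs _ w).trans (hw.trans (Eq.trans ?_ (map_sub (TensorProduct.comm A B _) _ z).symm))
    exact congrArg₂ HSub.hSub (hcs _ x).symm rfl

end CohCmpLib
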