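import Groth.Agent.CohCmpLib.HomFrame
import Groth.Agent.CohCmpLib.LineBundle
import Groth.Agent.FlatLib.InjFibre
import Groth.Agent.S9501

/-!
Morphisms of finite locally free modules checked on a fibre.
-/

set_option autoImplicit false
set_option maxRecDepth 8000

noncomputable section

universe u

open CategoryTheory CategoryTheory.Limits AlgebraicGeometry TopologicalSpace Opposite
open scoped TensorProduct
open ProjFormLib (ger exists_frame IsFrame)

namespace CohCmpLib

theorem one_tmul_eq_zero_iff {R S N : Type u} [CommRing R] [CommRing S] [Algebra R S]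
    (hs : Function.Surjective (algebraMap R S)) [AddCommGroup N] [Module R N] (n : N) :
    (1 : S) ⊗ₜ[R] n = 0 ↔ n ∈ RingHom.ker (algebraMap R S) • (⊤ : Submodule R N) := by
  let q : (R ⧸ RingHom.ker (algebraMap R S)) ≃ₐ[R] S :=
    Ideal.quotientKerAlgEquivOfSurjective (f := Algebra.ofId R S) hs
  let e : S ⊗[R] N ≃ₗ[R] N ⧸ (RingHom.ker (algebraMap R S) • (⊤ : Submodule R N)) :=
    (TensorProduct.congr q.symm.toLinearEquiv (LinearEquiv.refl R N)).trans
      (TensorProduct.quotTensorEquivQuotSMul N (RingHom.ker (algebraMap R S)))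
  have he : e (1 ⊗ₜ n) = Submodule.Quotient.mk n := by
    change TensorProduct.quotTensorEquivQuotSMul N (RingHom.ker (algebraMap R S)) (q.symm 1 ⊗ₜ n) = _
    rw [map_one q.symm, ← map_one (Ideal.Quotient.mk (RingHom.ker (algebraMap R S)))]
    exact (TensorProduct.quotTensorEquivQuotSMul_mk_tmul _ _ _).trans (by rw [one_smul])
  rw [← e.map_eq_zero_iff, he, Submodule.Quotient.mk_eq_zero]

theorem surjective_of_quotient {O S M N : Type u} [CommRing O] [IsLocalRing O] [CommRing S] [Algebra O S]
    [Nontrivial S] (hs : Function.Surjective (algebraMap O S)) [AddCommGroup M] [Module O M] [AddCommGroup N]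
    [Module O N] [Module.Finite O N] (u : M →ₗ[O] N) (h : Function.Surjective (u.baseChange S)) :
    Function.Surjective u := by
  rw [← LinearMap.range_eq_top, eq_top_iff]
  refine Submodule.le_of_le_smul_of_le_jacobson_bot (I := RingHom.ker (algebraMap O S)) Module.Finite.fg_top ?_ ?_
  · rw [IsLocalRing.jacobson_eq_maximalIdeal _ bot_ne_top]
    exact IsLocalRing.le_maximalIdeal (RingHom.ker_ne_top _)
  intro n _
  obtain ⟨w, hw⟩ := h (1 ⊗ₜ n)
  obtain ⟨m, rfl⟩ := TensorProduct.mk_surjective O M S hs w
  rw [TensorProduct.mk_apply, LinearMap.baseChange_tmul, eq_comm, ← sub_eq_zero, ← TensorProduct.tmul_sub,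
    one_tmul_eq_zero_iff hs] at hw
  exact sub_add_cancel n (u m) ▸ Submodule.add_mem _ (Submodule.mem_sup_right hw)
    (Submodule.mem_sup_left ⟨m, rfl⟩)

theorem injective_of_quotient {R O S M N : Type u} [CommRing R] [IsLocalRing R] [CommRing O] [IsLocalRing O]
    [IsNoetherianRing O] [Algebra R O] [IsLocalHom (algebraMap R O)] [CommRing S] [Algebra O S]
    (hs : Function.Surjective (algebraMap O S))
    (hker : RingHom.ker (algebraMap O S) = (IsLocalRing.maximalIdeal R).map (algebraMap R O))
    [AddCommGroup M] [Module O M] [Module.Finite O M] [AddCommGroup N] [Module R N] [Module O N]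
    [IsScalarTower R O N] [Module.Flat R N] [Module R M] [IsScalarTower R O M]
    (u : M →ₗ[O] N) (h : Function.Injective (u.baseChange S)) : Function.Injective u := by
  refine (FlatLib.injective_and_flat_coker O (u.restrictScalars R) ?_).1
  have hk : Function.Surjective (algebraMap R (IsLocalRing.ResidueField R)) := Ideal.Quotient.mk_surjective
  have hkk : RingHom.ker (algebraMap R (IsLocalRing.ResidueField R)) = IsLocalRing.maximalIdeal R :=
    IsLocalRing.ker_residue
  refine (injective_iff_map_eq_zero _).mpr fun w hw => ?_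
  obtain ⟨m, rfl⟩ := TensorProduct.mk_surjective R M (IsLocalRing.ResidueField R) hk w
  rw [TensorProduct.mk_apply, LinearMap.lTensor_tmul, one_tmul_eq_zero_iff hk, hkk] at hw
  rw [TensorProduct.mk_apply, one_tmul_eq_zero_iff hk, hkk]
  have hconv : ∀ (P : Type u) [AddCommGroup P] [Module R P] [Module O P] [IsScalarTower R O P] (p : P),
      p ∈ RingHom.ker (algebraMap O S) • (⊤ : Submodule O P) ↔
        p ∈ IsLocalRing.maximalIdeal R • (⊤ : Submodule R P) := fun P _ _ _ _ p => by
    have e := Ideal.smul_restrictScalars (IsLocalRing.maximalIdeal R) (⊤ : Submodule O P)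
    rw [Submodule.restrictScalars_top] at e
    rw [hker, ← e]
    exact Submodule.restrictScalars_mem _ _ _ |>.symm
  refine (hconv M m).1 ((one_tmul_eq_zero_iff hs m).1 ((injective_iff_map_eq_zero _).mp h _ ?_))
  rw [LinearMap.baseChange_tmul]
  exact (one_tmul_eq_zero_iff hs _).2 ((hconv N _).2 hw)

theorem bijective_one_tmul {R S N : Type u} [CommRing R] [CommRing S] [Algebra R S]
    (hs : Function.Bijective (algebraMap R S)) [AddCommGroup N] [Module R N] :
    Function.Bijective (TensorProduct.mk R S N 1) := by
  refine ⟨(injective_iff_map_eq_zero _).mpr fun n hn => ?_, TensorProduct.mk_surjective R N S hs.2⟩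
  have h := (one_tmul_eq_zero_iff hs.2 n).1 hn
  rwa [(RingHom.injective_iff_ker_eq_bot _).1 hs.1, Submodule.bot_smul, Submodule.mem_bot] at h

theorem bijective_baseChange_iff {R S M N : Type u} [CommRing R] [CommRing S] [Algebra R S]
    (hs : Function.Bijective (algebraMap R S)) [AddCommGroup M] [Module R M] [AddCommGroup N] [Module R N]
    (v : M →ₗ[R] N) : Function.Bijective (v.baseChange S) ↔ Function.Bijective v := by
  have e : ⇑(v.baseChange S) ∘ ⇑(TensorProduct.mk R S M 1) = ⇑(TensorProduct.mk R S N 1) ∘ ⇑v :=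
    funext fun m => LinearMap.baseChange_tmul _ _ _
  rw [← Function.Bijective.of_comp_iff (v.baseChange S) (bijective_one_tmul (N := M) hs), e,
    Function.Bijective.of_comp_iff' (bijective_one_tmul (N := N) hs)]

variable {X S : Scheme.{u}} {F G : X.Modules}

theorem finite_stalk (hF : FlatMod.IsFinLocFree F) (x : X) :
    Module.Finite (X.presheaf.stalk x) (stk F x) := by
  obtain ⟨U, n, e, hx, he⟩ := exists_frame hF x
  exact Module.Finite.of_basis (he.basis x hx)

variable (f : X ⟶ S) [Flat f] (s : S) (z : f.fiber s)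

theorem surjective_of_fibre (hG : FlatMod.IsFinLocFree G)
    (v : stk F (f.fiberι s z) →ₗ[X.presheaf.stalk (f.fiberι s z)] stk G (f.fiberι s z))
    (h : letI := ((f.fiberι s).stalkMap z).hom.toAlgebra
      Function.Surjective (v.baseChange ((f.fiber s).presheaf.stalk z))) :
    Function.Surjective v := by
  let := ((f.fiberι s).stalkMap z).hom.toAlgebra
  have := finite_stalk hG (f.fiberι s z)
  exact surjective_of_quotient (S := (f.fiber s).presheaf.stalk z) (Groth.Agent.S9501.result f s z).1 v h

theorem injective_of_fibre [IsLocallyNoetherian X] (hF : FlatMod.IsFinLocFree F) (hG : FlatMod.IsFinLocFree G)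
    (v : stk F (f.fiberι s z) →ₗ[X.presheaf.stalk (f.fiberι s z)] stk G (f.fiberι s z))
    (h : letI := ((f.fiberι s).stalkMap z).hom.toAlgebra
      Function.Injective (v.baseChange ((f.fiber s).presheaf.stalk z))) :
    Function.Injective v := by
  let := ((f.fiberι s).stalkMap z).hom.toAlgebra
  let x := f.fiberι s z
  let : Algebra (S.presheaf.stalk (f x)) (X.presheaf.stalk x) := (f.stalkMap x).hom.toAlgebra
  have : IsLocalHom (algebraMap (S.presheaf.stalk (f x)) (X.presheaf.stalk x)) :=
    inferInstanceAs (IsLocalHom (f.stalkMap x).hom)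
  let : Module (S.presheaf.stalk (f x)) (stk F x) := FlatMod.moduleStalkOver f F x
  let : Module (S.presheaf.stalk (f x)) (stk G x) := FlatMod.moduleStalkOver f G x
  have : IsScalarTower (S.presheaf.stalk (f x)) (X.presheaf.stalk x) (stk F x) :=
    IsScalarTower.of_algebraMap_smul fun _ _ => rfl
  have : IsScalarTower (S.presheaf.stalk (f x)) (X.presheaf.stalk x) (stk G x) :=
    IsScalarTower.of_algebraMap_smul fun _ _ => rfl
  have : Module.Flat (S.presheaf.stalk (f x)) (stk G x) := (locFree_hyps f hG).2.2 x
  have := finite_stalk hF x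
  obtain ⟨hs, hker⟩ := Groth.Agent.S9501.result f s z
  exact injective_of_quotient (R := S.presheaf.stalk (f x)) (S := (f.fiber s).presheaf.stalk z) hs hker v h

end CohCmpLib
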