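import Groth.Agent.CohCmpLib.Cosyz
import Groth.Agent.CohCmpLib.HC
import Groth.Agent.CohBCLib.BC
import Groth.Agent.RpushLib.BCMap
import Groth.Agent.RpushLib.AffBaseBC
import Groth.Agent.QCohLib.Acyclic

/-! Modules that are acyclic and whose global sections commute with every affine base change. -/

set_option autoImplicit false
set_option maxHeartbeats 1000000

universe u

open CategoryTheory CategoryTheory.Limits AlgebraicGeometry TopologicalSpace Opposite TensorProduct
open RpushLib (secFun secMap₀ extSL)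
open CohBCLib (secA)

namespace CohCmpLib

variable {R B : Type u} [CommRing R] [CommRing B] [Algebra R B] {X X' : Scheme.{u}}
  {f : X ⟶ Spec (CommRingCat.of R)} {f' : X' ⟶ Spec (CommRingCat.of B)} {h : X' ⟶ X}

/-- Base change of global sections. -/
noncomputable def ev (H : IsPullback h f' f (Spec.map (CommRingCat.ofHom (algebraMap R B))))
    (M : X.Modules) :
    B ⊗[R] ((secFun ⊤ (secA f ⊤)).obj M : Type u) →ₗ[B]
      ((secFun ⊤ (secA f' ⊤)).obj ((Scheme.Modules.pullback h).obj M) : Type u) :=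
  extSL (secMap₀ (σ := algebraMap R B) h (secA f ⊤) (secA f' ⊤) (le_top : ⊤ ≤ h ⁻¹ᵁ (⊤ : X.Opens))
    (CohBCLib.secA_bc H ⊤ ⊤ le_top) ((Scheme.Modules.pullbackPushforwardAdjunction h).unit.app M))

variable (H : IsPullback h f' f (Spec.map (CommRingCat.ofHom (algebraMap R B))))

theorem ev_tmul (M : X.Modules) (b : B) (m : Γ(M, ⊤)) :
    ev H M (b ⊗ₜ (show ((secFun ⊤ (secA f ⊤)).obj M : Type u) from m)) =
      b • (show ((secFun ⊤ (secA f' ⊤)).obj ((Scheme.Modules.pullback h).obj M) : Type u) from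
        KFlatLib.puSecLE h M (le_top : ⊤ ≤ h ⁻¹ᵁ (⊤ : X.Opens)) m) :=
  RpushLib.extSL_tmul _ b _

theorem ev_natural {M N : X.Modules} (φ : M ⟶ N) (x : B ⊗[R] ((secFun ⊤ (secA f ⊤)).obj M : Type u)) :
    ev H N (((secFun ⊤ (secA f ⊤)).map φ).hom.baseChange B x) =
      ((secFun ⊤ (secA f' ⊤)).map ((Scheme.Modules.pullback h).map φ)).hom (ev H M x) := by
  refine LinearMap.congr_fun (RpushLib.extSL_unique
    (F := (ev H N) ∘ₗ ((secFun ⊤ (secA f ⊤)).map φ).hom.baseChange B)
    (G := ((secFun ⊤ (secA f' ⊤)).map ((Scheme.Modules.pullback h).map φ)).hom ∘ₗ ev H M) fun m => ?_) x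
  rw [LinearMap.comp_apply, LinearMap.comp_apply, LinearMap.baseChange_tmul, ev_tmul, ev_tmul, one_smul,
    one_smul]
  refine Eq.trans ?_ (QCohLib.app_map ((Scheme.Modules.pullback h).map φ) (homOfLE le_top) _).symm
  refine congrArg (((Scheme.Modules.pullback h).obj N).presheaf.map (homOfLE le_top).op) ?_
  exact congr(Scheme.Modules.Hom.app
    $((Scheme.Modules.pullbackPushforwardAdjunction h).unit.naturality φ) ⊤ m)

theorem secA_comp {U : Scheme.{u}} (j : U ⟶ X) {V : X.Opens} {W : U.Opens} (hW : W ≤ j ⁻¹ᵁ V) (r : R) :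
    j.appLE V W hW (secA f V r) = secA (j ≫ f) W r :=
  congr($(Scheme.Hom.appLE_comp_appLE j f ⊤ V W le_top hW) ((Scheme.ΓSpecIso (CommRingCat.of R)).inv r))

/-- Acyclic, with sections commuting with all affine base changes. -/
def Good (f : X ⟶ Spec (CommRingCat.of R)) (M : X.Modules) : Prop :=
  ∀ (B : Type u) [CommRing B] [Algebra R B] {X' : Scheme.{u}} {h : X' ⟶ X}
    {f' : X' ⟶ Spec (CommRingCat.of B)}
    (H : IsPullback h f' f (Spec.map (CommRingCat.ofHom (algebraMap R B)))),
    (∀ n : ℕ, Subsingleton (HC X' ((Scheme.Modules.pullback h).obj M) (n + 1))) ∧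
      Function.Bijective (ev H M)

theorem subsingleton_HC_of_isAffineHom {U : Scheme.{u}} [IsAffine U] (j : U ⟶ X) [IsAffineHom j]
    (P : U.Modules) [Coh.IsQCoh P] (n : ℕ) :
    Subsingleton (HC X ((Scheme.Modules.pushforward j).obj P) (n + 1)) := by
  obtain ⟨e⟩ := QCohLib.nonempty_HH_push j P (n + 1)
  have : Subsingleton (Coh.HH U P (n + 1)) :=
    (QCohLib.subsingleton_H_iff _ (n + 1)).mpr (QCohLib.subsingleton_HU_affine P n (isAffineOpen_top U))
  exact e.symm.toEquiv.subsingleton

theorem subsingleton_HC_of_iso {M N : X.Modules} (e : M ≅ N) (n : ℕ) [Subsingleton (HC X M n)] :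
    Subsingleton (HC X N n) :=
  subsingleton_of_forall_eq 0 fun x => by
    have hx : hm e.hom n (hm e.inv n x) = x := by rw [← hm_comp, e.inv_hom_id, hm_id]
    rw [← hx, Subsingleton.elim (hm e.inv n x) 0, map_zero]

section Single

variable {U : X.Opens} (hU : IsAffineOpen U) [X.IsSeparated] (N : (U : Scheme.{u}).Modules) [Coh.IsQCoh N]

include hU in
theorem good_pushforward : Good f ((Scheme.Modules.pushforward U.ι).obj N) := by
  intro B _ _ X' h f' H
  have : IsAffine (U : Scheme.{u}) := hU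
  have : IsAffineHom U.ι := QCohLib.isAffineHom_ι U hU fun _ _ hV hW => hV.inf hW
  have hh : IsAffineHom h := MorphismProperty.of_isPullback (P := @IsAffineHom) H.flip inferInstance
  let H1 := isPullback_morphismRestrict h U
  have hU' : IsAffineOpen (h ⁻¹ᵁ U) := hU.preimage h
  have : IsAffine (h ⁻¹ᵁ U : Scheme.{u}) := hU'
  have : IsAffineHom (h ⁻¹ᵁ U).ι := MorphismProperty.of_isPullback (P := @IsAffineHom) H1 inferInstance
  let P := (Scheme.Modules.pullback (h ∣_ U)).obj N
  have : Coh.IsQCoh P := KFlatLib.isQCoh_pullback _ N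
  have : Coh.IsQCoh ((Scheme.Modules.pushforward U.ι).obj N) := QCohLib.isQCoh_pushforward _ _
  let φ := ((Scheme.Modules.pullbackPushforwardAdjunction h).homEquiv _ _).symm (RpushLib.bcAdj H1.w N)
  have hφ : IsIso φ := RpushLib.isIso_bcMap_of H1 N fun US UT hUS hUT hg =>
    RpushLib.bijective_bc_affine H1 N hUS hUT hg
  refine ⟨fun n => ?_, ?_⟩
  · have := subsingleton_HC_of_isAffineHom (h ⁻¹ᵁ U).ι P n
    exact subsingleton_HC_of_iso (asIso φ).symm (n + 1)
  · let V : (U : Scheme.{u}).Opens := U.ι ⁻¹ᵁ ⊤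
    let W : (h ⁻¹ᵁ U : Scheme.{u}).Opens := (h ⁻¹ᵁ U).ι ⁻¹ᵁ ⊤
    have H2 : IsPullback (h ∣_ U) ((h ⁻¹ᵁ U).ι ≫ f') (U.ι ≫ f)
        (Spec.map (CommRingCat.ofHom (algebraMap R B))) := H1.paste_vert H
    have hWV : W ≤ (h ∣_ U) ⁻¹ᵁ V := le_of_eq rfl
    let σ := secMap₀ (σ := algebraMap R B) (h ∣_ U) (secA (U.ι ≫ f) V)
      (secA ((h ⁻¹ᵁ U).ι ≫ f') W) hWV (CohBCLib.secA_bc H2 V W hWV)
      ((Scheme.Modules.pullbackPushforwardAdjunction (h ∣_ U)).unit.app N)
    have hσ : Function.Bijective (extSL σ) :=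
      RpushLib.bijective_secMap₀_of_isPushout (h ∣_ U) (isAffineOpen_top _) _ (isAffineOpen_top _) _ hWV _
        (RpushLib.isPushout_affBase H2 (isAffineOpen_top _) rfl) N
    have hadj : ∀ m : Γ(N, V), φ.app (h ⁻¹ᵁ ⊤) (KFlatLib.puSec h
          (M := (Scheme.Modules.pushforward U.ι).obj N) (U := ⊤) m) =
        (RpushLib.bcAdj H1.w N).app ⊤ m := fun m => by
      have e : (Scheme.Modules.pullbackPushforwardAdjunction h).unit.app _ ≫
          (Scheme.Modules.pushforward h).map φ = RpushLib.bcAdj H1.w N :=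
        ((Scheme.Modules.pullbackPushforwardAdjunction h).homEquiv_unit _ _ φ).symm.trans
          (Equiv.apply_symm_apply _ _)
      exact congr(Scheme.Modules.Hom.app $e ⊤ m)
    have hsm : ∀ (b : B) (z : Γ((Scheme.Modules.pullback h).obj ((Scheme.Modules.pushforward U.ι).obj N), ⊤)),
        (φ.app ⊤ (secA f' ⊤ b • z) : Γ(P, W)) =
          secA ((h ⁻¹ᵁ U).ι ≫ f') W b • (show Γ(P, W) from φ.app ⊤ z) := fun b z => by
      refine (φ.app_smul (secA f' ⊤ b) z).trans ?_
      refine congrArg (fun c : Γ((h ⁻¹ᵁ U : Scheme.{u}), W) => c • (show Γ(P, W) from φ.app ⊤ z)) ?_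
      rw [← secA_comp (f := f') (h ⁻¹ᵁ U).ι (le_refl W) b, ← Scheme.Hom.app_eq_appLE]
      rfl
    let e0 : ((secFun ⊤ (secA f ⊤)).obj ((Scheme.Modules.pushforward U.ι).obj N) : Type u) ≃ₗ[R]
        ((secFun V (secA (U.ι ≫ f) V)).obj N : Type u) :=
      { toFun := fun m => (show Γ(N, V) from m)
        invFun := fun m => (show Γ(N, V) from m)
        map_add' := fun _ _ => rfl
        map_smul' := fun r m => by
          have e := secA_comp (f := f) U.ι (le_refl V) r
          rw [← Scheme.Hom.app_eq_appLE] at e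
          exact congrArg (fun c : Γ((U : Scheme.{u}), V) => c • (show Γ(N, V) from m)) e
        left_inv := fun _ => rfl
        right_inv := fun _ => rfl }
    let e1 := LinearEquiv.baseChange R B _ _ e0
    have key : ∀ x, (show Γ(P, W) from φ.app ⊤ (ev H ((Scheme.Modules.pushforward U.ι).obj N) x)) =
        (show Γ(P, W) from extSL σ (e1 x)) := by
      intro x
      induction x using TensorProduct.induction_on with
      | zero =>
        exact (congrArg (φ.app ⊤) (map_zero (ev H _))).trans ((map_zero _).trans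
          ((congrArg (extSL σ) (map_zero e1)).trans (map_zero (extSL σ))).symm)
      | tmul b m =>
        refine (congrArg (φ.app ⊤) (ev_tmul H _ b (show Γ((Scheme.Modules.pushforward U.ι).obj N, ⊤) from m))).trans ((hsm b _).trans ?_)
        refine Eq.trans ?_ (RpushLib.extSL_tmul σ b (e0 m)).symm
        refine congrArg (fun z : Γ(P, W) => secA ((h ⁻¹ᵁ U).ι ≫ f') W b • z) ?_
        refine (QCohLib.app_map φ (homOfLE (le_top : ⊤ ≤ h ⁻¹ᵁ (⊤ : X.Opens))) _).trans ?_
        refine (congrArg _ (hadj m)).trans ?_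
        change P.presheaf.map _ (P.presheaf.map _ (KFlatLib.puSec (h ∣_ U) (M := N) (U := V) m)) =
          P.presheaf.map (homOfLE hWV).op (KFlatLib.puSec (h ∣_ U) (M := N) (U := V) m)
        exact (QCohLib.map_map' P _ _ _).trans
          (congrArg (fun i : W ⟶ (h ∣_ U) ⁻¹ᵁ V => P.presheaf.map i.op
            (KFlatLib.puSec (h ∣_ U) (M := N) (U := V) m)) (Subsingleton.elim _ _))
      | add x y hx hy =>
        refine (congrArg (φ.app ⊤) (map_add (ev H _) x y)).trans ((map_add _ _ _).trans ?_)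
        exact (congr_arg₂ (fun a c : Γ(P, W) => a + c) hx hy).trans
          ((congrArg (extSL σ) (map_add e1 x y)).trans (map_add (extSL σ) _ _)).symm
    have hb : Function.Bijective fun x => (show Γ(P, W) from φ.app ⊤ (ev H _ x)) := by
      rw [funext key]
      exact hσ.comp e1.bijective
    exact (Function.Bijective.of_comp_iff' (ConcreteCategory.bijective_of_isIso (φ.app ⊤)) _).mp hb

end Single

theorem mapH_sum {M N : X.Modules} {α : Type*} (s : Finset α) (φ : α → (M ⟶ N)) (p : ℕ) (x : HC X M p) :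
    hm (∑ k ∈ s, φ k) p x = ∑ k ∈ s, hm (φ k) p x := by
  classical
  induction s using Finset.induction with
  | empty =>
    rw [Finset.sum_empty, Finset.sum_empty]
    change Sheaf.H.map ((QCohLib.toAbF X).map 0) p x = 0
    rw [Functor.map_zero]
    exact (congrArg (fun t => Abelian.Ext.comp x t (add_zero p)) (Abelian.Ext.mk₀_zero _ _)).trans
      (Abelian.Ext.comp_zero ..)
  | insert a s ha ih =>
    rw [Finset.sum_insert ha, Finset.sum_insert ha, ← ih]
    change Sheaf.H.map ((QCohLib.toAbF X).map (_ + _)) p x = _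
    rw [Functor.map_add]
    exact (congrArg (fun t => Abelian.Ext.comp x t (add_zero p)) (Abelian.Ext.mk₀_add _ _)).trans
      (Abelian.Ext.comp_add ..)

/-- Finite sums of good modules are good. -/
theorem good_biproduct {ι : Type} [Finite ι] (M : ι → X.Modules) (hM : ∀ k, Good f (M k)) :
    Good f (⨁ M) := by
  intro B _ _ X' h f' H
  classical
  have : Fintype ι := Fintype.ofFinite ι
  let F := Scheme.Modules.pullback h
  have htot : ∑ k : ι, F.map (biproduct.π M k) ≫ F.map (biproduct.ι M k) = 𝟙 (F.obj (⨁ M)) := by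
    have e := congrArg F.map (biproduct.total (f := M))
    rw [F.map_sum, F.map_id] at e
    refine Eq.trans ?_ e
    exact Finset.sum_congr rfl fun k _ => (F.map_comp _ _).symm
  refine ⟨fun n => subsingleton_of_forall_eq 0 fun x => ?_, (injective_iff_map_eq_zero _).2 fun x hx => ?_,
    fun y => ?_⟩
  · have e : ∑ k, hm (F.map (biproduct.ι M k)) (n + 1) (hm (F.map (biproduct.π M k)) (n + 1) x) = x :=
      (Finset.sum_congr rfl fun k _ => (hm_comp _ _ _ x).symm).trans
        ((mapH_sum _ _ _ x).symm.trans ((congrArg (fun t => hm t (n + 1) x) htot).trans (hm_id _ _ x)))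
    rw [← e]
    refine Finset.sum_eq_zero fun k _ => ?_
    have := (hM k B H).1 n
    rw [Subsingleton.elim (hm (F.map (biproduct.π M k)) (n + 1) x) 0, map_zero]
  · have hid : ∑ k : ι, ((secFun ⊤ (secA f ⊤)).map (biproduct.ι M k)).hom ∘ₗ
        ((secFun ⊤ (secA f ⊤)).map (biproduct.π M k)).hom = LinearMap.id := by
      have e : ∑ k : ι, biproduct.π M k ≫ biproduct.ι M k = 𝟙 (⨁ M) :=
        biproduct.total
      have e' := congrArg (fun t => ((secFun ⊤ (secA f ⊤)).map t).hom) e
      simp only [Functor.map_sum, Functor.map_comp, ModuleCat.hom_sum, ModuleCat.hom_comp] at e'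
      exact e'.trans (congrArg ModuleCat.Hom.hom ((secFun ⊤ (secA f ⊤)).map_id (⨁ M)))

    have e : x = ∑ k : ι, ((secFun ⊤ (secA f ⊤)).map (biproduct.ι M k)).hom.baseChange B
        (((secFun ⊤ (secA f ⊤)).map (biproduct.π M k)).hom.baseChange B x) := by
      have := congrArg (fun t => LinearMap.baseChangeHom R B _ _ t x) hid
      rw [map_sum, LinearMap.sum_apply] at this
      simp only [LinearMap.baseChangeHom_apply, LinearMap.baseChange_comp, LinearMap.baseChange_id,
        LinearMap.comp_apply, LinearMap.id_apply] at this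
      exact this.symm
    rw [e]
    refine Finset.sum_eq_zero fun k _ => ?_
    have hk : ((secFun ⊤ (secA f ⊤)).map (biproduct.π M k)).hom.baseChange B x = 0 :=
      (hM k B H).2.1 ((ev_natural H (biproduct.π M k) x).trans ((congrArg _ hx).trans
        ((map_zero _).trans (map_zero _).symm)))
    rw [hk, map_zero]
  · choose z hz using fun k => (hM k B H).2.2
      (((secFun ⊤ (secA f' ⊤)).map (F.map (biproduct.π M k))).hom y)
    refine ⟨∑ k, ((secFun ⊤ (secA f ⊤)).map (biproduct.ι M k)).hom.baseChange B (z k), ?_⟩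
    rw [map_sum]
    have e := congrArg (fun t => ((secFun ⊤ (secA f' ⊤)).map t).hom y) htot
    simp only [Functor.map_sum, Functor.map_comp, ModuleCat.hom_sum, ModuleCat.hom_comp,
      LinearMap.sum_apply, LinearMap.comp_apply] at e
    refine Eq.trans ?_ (e.trans (LinearMap.congr_fun
      (congrArg ModuleCat.Hom.hom ((secFun ⊤ (secA f' ⊤)).map_id (F.obj (⨁ M)))) y))
    exact Finset.sum_congr rfl fun k _ => (ev_natural H (biproduct.ι M k) (z k)).trans (congrArg _ (hz k))

/-- The terms of the resolution are good. -/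
theorem good_C0 [X.IsSeparated] {ι : Type} [Finite ι] {U : ι → X.Opens} (hU : ∀ k, IsAffineOpen (U k))
    (M : X.Modules) [Coh.IsQCoh M] : Good f (C0 U M) :=
  good_biproduct _ fun k => by
    have : Coh.IsQCoh ((Scheme.Modules.restrictFunctor (U k).ι).obj M) :=
      inferInstanceAs (Coh.IsQCoh (M.restrict (U k).ι))
    exact good_pushforward (hU k) _

end CohCmpLib
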