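import Groth.Agent.CohCmpLib.CxModel
import Groth.Agent.CohCmpLib.Concrete
import Groth.Agent.CohCmpLib.FlatBase
import Groth.Agent.CohCmpLib.IsoCrit
import Groth.Agent.AtlasCohLib.Finiteness

/-! Finite free models of coherent flat modules on proper schemes over Noetherian rings. -/

set_option autoImplicit false

universe u

open CategoryTheory CategoryTheory.Limits AlgebraicGeometry TopologicalSpace Opposite TensorProduct
open CohBCLib (HA)
open FlatCxLib (Hm)

namespace CohCmpLib

variable {A : Type u} [CommRing A]

/-- Homology receives the quotient of cycles. -/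
theorem finite_homology_of_hm (K : CochainComplex (ModuleCat.{u} A) ℕ) (p : ℕ)
    [Module.Finite A (HmK K p)] : Module.Finite A (K.homology p) := by
  let θ : HmK K p →ₗ[A] K.homology p :=
    Submodule.liftQ _ (FlatCxLib.hcls K p (p + 1) (by simp)) fun z hz => by
      rw [LinearMap.mem_ker, FlatCxLib.hcls_eq_zero_iff K p (p + 1) (by simp) _ rfl]
      rcases p with _ | q
      · obtain ⟨x, hx⟩ := hz
        have h0 : (K.d (0 - 1) 0).hom x = 0 := by
          rw [K.shape (0 - 1) 0 (by simp)]
          rfl
        exact ⟨0, (map_zero _).trans (h0.symm.trans hx)⟩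
      · rw [CochainComplex.prev_nat_succ]
        exact hz
  refine Module.Finite.of_surjective θ fun y => ?_
  obtain ⟨z, rfl⟩ := FlatCxLib.hcls_surjective K p (p + 1) (by simp) y
  exact ⟨Submodule.Quotient.mk z, rfl⟩

/-- The finite free model. -/
theorem exists_model [IsNoetherianRing A] {X : Scheme.{u}} (f : X ⟶ Spec (CommRingCat.of A)) [IsProper f]
    (F : X.Modules) (hF : Coh.IsCoh F) (hfl : FlatMod.IsFlatOver f F) :
    ∃ c : Ch X, c.Univ f ∧ c.Z 0 = F ∧ Nonempty (Mdl (Kc f c)) := by
  have : Coh.IsQCoh F := hF.1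
  have : X.IsSeparated := ⟨by
    rw [← terminal.comp_from f]
    infer_instance⟩
  obtain ⟨n, U, hcov, haff⟩ := exists_affine_cover f
  have hu := univ_rsCh f hcov haff F
  refine ⟨rsCh U F, hu, rfl, exists_mdl _ (fun q => flat_rsCh U haff f hcov F hfl q) (fun p => ?_) n
    fun M p hp => ?_⟩
  · have : Module.Finite A ((HA f p).obj F) := AtlasCoh.finiteCoh_of_isProper f F hF p
    have : Module.Finite A (HmK (Kc f (rsCh U F)) p) :=
      @Module.Finite.equiv _ _ _ _ _ _ _ _ this (thdK f (rsCh U F) p (rsCh_exact U hcov F) hu.acyclic).symm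
    exact finite_homology_of_hm _ p
  · exact isZero_T_of_exact _ p (by omega) M fun y hy => exact_rTensor_of_forall_algebra _ _
      (fun T _ _ y hy => exact_baseChange_high hcov haff F T p (by omega) y hy) M y hy

end CohCmpLib
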