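import Groth.Agent.CohCmpLib.Chain
import Groth.Agent.CohCmpLib.Good
import Groth.Agent.CohCmpLib.Hm

/-! The complex of global sections of an acyclic chain computes cohomology, compatibly with base change. -/

set_option autoImplicit false
set_option maxHeartbeats 1000000

universe u

open CategoryTheory CategoryTheory.Limits AlgebraicGeometry TopologicalSpace Opposite TensorProduct
open RpushLib (secFun)
open CohBCLib (secA HA)
open FlatCxLib (Hm)
open KFlatLib (puSecLE)

namespace CohCmpLib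

section Defs

variable {R : Type u} [CommRing R]

/-- Homology in degree `p`, by elements. -/
abbrev HmK (K : CochainComplex (ModuleCat.{u} R) ℕ) (p : ℕ) : Type u :=
  Hm (K.d (p - 1) p).hom (K.d p (p + 1)).hom

/-- Homology in degree `p` after base change, by elements. -/
abbrev HmKB (K : CochainComplex (ModuleCat.{u} R) ℕ) (p : ℕ) (B : Type u) [CommRing B] [Algebra R B] :
    Type u :=
  Hm ((K.d (p - 1) p).hom.baseChange B) ((K.d p (p + 1)).hom.baseChange B)

variable {X : Scheme.{u}} (f : X ⟶ Spec (CommRingCat.of R)) (c : Ch X)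

/-- The differential on global sections. -/
noncomputable abbrev kd (q : ℕ) :
    (secFun ⊤ (secA f ⊤)).obj (c.C q) ⟶ (secFun ⊤ (secA f ⊤)).obj (c.C (q + 1)) :=
  (secFun ⊤ (secA f ⊤)).map (c.π q ≫ c.s (q + 1))

/-- The complex of global sections. -/
noncomputable def Kc : CochainComplex (ModuleCat.{u} R) ℕ :=
  CochainComplex.of (fun q => (secFun ⊤ (secA f ⊤)).obj (c.C q)) (kd f c) fun q => by
    rw [← Functor.map_comp, Category.assoc, ← Category.assoc (c.s (q + 1)), c.w (q + 1), zero_comp,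
      comp_zero, Functor.map_zero]

theorem Kc_d (q : ℕ) : (Kc f c).d q (q + 1) = kd f c q :=
  CochainComplex.of_d (fun q => (secFun ⊤ (secA f ⊤)).obj (c.C q)) (kd f c) q

theorem Kc_d_apply (q : ℕ) (x : Γ(c.C q, ⊤)) :
    (show Γ(c.C (q + 1), ⊤) from ((Kc f c).d q (q + 1)).hom x) = (c.s (q + 1)).app ⊤ ((c.π q).app ⊤ x) :=
  (LinearMap.congr_fun (congrArg ModuleCat.Hom.hom (Kc_d f c q)) x :)

theorem thd_secA (p : ℕ) (hc : c.Exact) (r : R) (z : Γ(c.Z p, ⊤)) :
    thd p c hc (secA f ⊤ r • z) = hs (Coh.toGlobal f r) _ p (thd p c hc z) := by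
  have e : secA f ⊤ r = Coh.toGlobal f r := by
    rw [← CohBCLib.resTop_toGlobal f ⊤ r]
    exact congr($(X.presheaf.map_id (op ⊤)) (Coh.toGlobal f r))
  rw [e]
  exact thd_hs p c hc _ z

/-- The iterated connecting map, linearly. -/
noncomputable def thdA (p : ℕ) (hc : c.Exact) :
    ((secFun ⊤ (secA f ⊤)).obj (c.Z p) : Type u) →ₗ[R] ((HA f p).obj (c.Z 0) : Type u) where
  toFun z := thd p c hc (show Γ(c.Z p, ⊤) from z)
  map_add' z z' := map_add (thd p c hc) (show Γ(c.Z p, ⊤) from z) z'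
  map_smul' r z := thd_secA f c p hc r (show Γ(c.Z p, ⊤) from z)

/-- Sections of the syzygy are the cycles. -/
noncomputable def sigmaLin (p : ℕ) :
    ((secFun ⊤ (secA f ⊤)).obj (c.Z p) : Type u) →ₗ[R] LinearMap.ker ((Kc f c).d p (p + 1)).hom :=
  (((secFun ⊤ (secA f ⊤)).map (c.s p)).hom).codRestrict _ fun z => by
    have e : (c.π p).app ⊤ ((c.s p).app ⊤ (show Γ(c.Z p, ⊤) from z)) = 0 :=
      congr(Scheme.Modules.Hom.app $(c.w p) ⊤ (show Γ(c.Z p, ⊤) from z))
    exact (Kc_d_apply f c p ((c.s p).app ⊤ (show Γ(c.Z p, ⊤) from z))).trans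
      ((congrArg ((c.s (p + 1)).app ⊤) e).trans (map_zero _))

theorem sigmaLin_bijective (p : ℕ) (hc : c.Exact) : Function.Bijective (sigmaLin f c p) := by
  have := (hc p).mono_f
  have := (hc (p + 1)).mono_f
  refine ⟨fun a b h => QCohLib.app_injective_of_mono (c.s p) ⊤ (congrArg Subtype.val h), fun z => ?_⟩
  have hz : (c.s (p + 1)).app ⊤ ((c.π p).app ⊤ (show Γ(c.C p, ⊤) from z.1)) = 0 := by
    exact (Kc_d_apply f c p _).symm.trans z.2
  obtain ⟨w, hw⟩ := QCohLib.exists_of_app_eq_zero (hc p).exact (hc p).mono_f (show Γ(c.C p, ⊤) from z.1)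
    (QCohLib.app_injective_of_mono (c.s (p + 1)) ⊤ (hz.trans (map_zero _).symm))
  exact ⟨w, Subtype.ext hw⟩

/-- Classes of cycles. -/
noncomputable def cycH (p : ℕ) (hc : c.Exact) :
    LinearMap.ker ((Kc f c).d p (p + 1)).hom →ₗ[R] ((HA f p).obj (c.Z 0) : Type u) :=
  thdA f c p hc ∘ₗ (LinearEquiv.ofBijective _ (sigmaLin_bijective f c p hc)).symm.toLinearMap

theorem cycH_eq (p : ℕ) (hc : c.Exact) (z : LinearMap.ker ((Kc f c).d p (p + 1)).hom) (w : Γ(c.Z p, ⊤))
    (hw : (c.s p).app ⊤ w = (show Γ(c.C p, ⊤) from z.1)) : cycH f c p hc z = thd p c hc w := by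
  have e : (LinearEquiv.ofBijective _ (sigmaLin_bijective f c p hc)).symm z = w :=
    (LinearEquiv.symm_apply_eq _).2 (Subtype.ext hw.symm)
  exact congrArg (thdA f c p hc) e

theorem cycH_surjective (p : ℕ) (hc : c.Exact) (ha : c.Acyclic) : Function.Surjective (cycH f c p hc) :=
  fun y => by
    obtain ⟨w, hw⟩ := thd_surjective p c hc ha y
    exact ⟨sigmaLin f c p w, (cycH_eq f c p hc _ w rfl).trans hw⟩

theorem ker_cycH (p : ℕ) (hc : c.Exact) (ha : c.Acyclic) :
    LinearMap.ker (cycH f c p hc) = (LinearMap.range ((Kc f c).d (p - 1) p).hom).comap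
      (LinearMap.ker ((Kc f c).d p (p + 1)).hom).subtype := by
  ext z
  obtain ⟨w, rfl⟩ := (sigmaLin_bijective f c p hc).2 z
  rw [LinearMap.mem_ker, cycH_eq f c p hc _ (show Γ(c.Z p, ⊤) from w) rfl]
  rcases p with _ | q
  · have hd0 : (Kc f c).d (0 - 1) 0 = 0 := (Kc f c).shape _ _ (by simp)
    have := (hc 0).mono_f
    refine (EmbeddingLike.map_eq_zero_iff (f := (h0E (c.Z 0)).symm)).trans (Iff.trans ?_ Submodule.mem_comap.symm)
    constructor
    · intro hw
      subst hw
      exact ⟨0, (map_zero _).trans (map_zero ((c.s 0).app ⊤).hom).symm⟩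
    · rintro ⟨x, hx⟩
      have h0 : (c.s 0).app ⊤ (show Γ(c.Z 0, ⊤) from w) = 0 :=
        hx.symm.trans (LinearMap.congr_fun (congrArg ModuleCat.Hom.hom hd0) x)
      exact QCohLib.app_injective_of_mono (c.s 0) ⊤ (h0.trans (map_zero _).symm)
  · have := (hc (q + 1)).mono_f
    refine (thd_succ_eq_zero_iff q c hc ha _).trans (Iff.trans ?_ Submodule.mem_comap.symm)
    constructor
    · rintro ⟨m, hm⟩
      exact ⟨m, (Kc_d_apply f c q m).trans (congrArg ((c.s (q + 1)).app ⊤) hm)⟩
    · rintro ⟨m, hm⟩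
      exact ⟨m, QCohLib.app_injective_of_mono (c.s (q + 1)) ⊤ ((Kc_d_apply f c q m).symm.trans hm)⟩

/-- The complex computes cohomology. -/
noncomputable def thdK (p : ℕ) (hc : c.Exact) (ha : c.Acyclic) :
    HmK (Kc f c) p ≃ₗ[R] ((HA f p).obj (c.Z 0) : Type u) :=
  (Submodule.quotEquivOfEq _ _ (ker_cycH f c p hc ha).symm).trans
    ((cycH f c p hc).quotKerEquivOfSurjective (cycH_surjective f c p hc ha))

theorem thdK_mk (p : ℕ) (hc : c.Exact) (ha : c.Acyclic) (z : LinearMap.ker ((Kc f c).d p (p + 1)).hom) :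
    thdK f c p hc ha (Submodule.Quotient.mk z) = cycH f c p hc z := by
  simp only [thdK, LinearEquiv.trans_apply, Submodule.quotEquivOfEq_mk]
  exact LinearMap.quotKerEquivOfSurjective_apply_mk _ _ z

end Defs

section Bc

variable {R B : Type u} [CommRing R] [CommRing B] [Algebra R B] {X X' : Scheme.{u}}
  {f : X ⟶ Spec (CommRingCat.of R)} {f' : X' ⟶ Spec (CommRingCat.of B)} {h : X' ⟶ X}
  (H : IsPullback h f' f (Spec.map (CommRingCat.ofHom (algebraMap R B)))) (c : Ch X)
  (hgood : ∀ q, Good f (c.C q))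

include H hgood in
theorem pull_acyclic : (c.pull h).Acyclic := fun q => (hgood q B H).1

/-- Base change of sections, as an equivalence. -/
noncomputable def evEquiv (q : ℕ) :
    B ⊗[R] ((Kc f c).X q : Type u) ≃ₗ[B] ((Kc f' (c.pull h)).X q : Type u) :=
  LinearEquiv.ofBijective (ev H (c.C q)) (hgood q B H).2

theorem evEquiv_d (i j : ℕ) (x : B ⊗[R] ((Kc f c).X i : Type u)) :
    evEquiv H c hgood j (((Kc f c).d i j).hom.baseChange B x) =
      ((Kc f' (c.pull h)).d i j).hom (evEquiv H c hgood i x) := by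
  by_cases hij : i + 1 = j
  · subst hij
    rw [Kc_d, Kc_d]
    refine (ev_natural H (c.π i ≫ c.s (i + 1)) x).trans ?_
    exact congrArg (fun t => ((secFun ⊤ (secA f' ⊤)).map t).hom (ev H (c.C i) x))
      ((Scheme.Modules.pullback h).map_comp (c.π i) (c.s (i + 1)))
  · rw [(Kc f c).shape i j hij, (Kc f' (c.pull h)).shape i j hij]
    simp

/-- The base changed complex computes the cohomology upstairs. -/
noncomputable def omega (p : ℕ) (hc' : (c.pull h).Exact) :
    HmKB (Kc f c) p B ≃ₗ[B] ((HA f' p).obj ((Scheme.Modules.pullback h).obj (c.Z 0)) : Type u) :=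
  (FlatCxLib.hmCongr (evEquiv H c hgood (p - 1)) (evEquiv H c hgood p) (evEquiv H c hgood (p + 1))
    (evEquiv_d H c hgood (p - 1) p) (evEquiv_d H c hgood p (p + 1))).trans
    (thdK f' (c.pull h) p hc' (pull_acyclic H c hgood))

theorem omega_mk (p : ℕ) (hc' : (c.pull h).Exact)
    (z : LinearMap.ker (((Kc f c).d p (p + 1)).hom.baseChange B))
    (w : Γ((Scheme.Modules.pullback h).obj (c.Z p), ⊤))
    (hw : ((Scheme.Modules.pullback h).map (c.s p)).app ⊤ w =
      (show Γ((Scheme.Modules.pullback h).obj (c.C p), ⊤) from evEquiv H c hgood p z.1)) :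
    omega H c hgood p hc' (Submodule.Quotient.mk z) = thd p (c.pull h) hc' w := by
  simp only [omega, LinearEquiv.trans_apply]
  refine (thdK_mk f' (c.pull h) p hc' (pull_acyclic H c hgood) _).trans ?_
  exact cycH_eq f' (c.pull h) p hc' _ w hw

end Bc

end CohCmpLib
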