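import Groth.Prelude.Def_CohCmp
import Groth.Agent.CohCmpLib.PuSec
import Groth.Agent.CohCmpLib.HC

/-! The pullback on cohomology: naturality, connecting maps, scalars, degree zero. -/

set_option autoImplicit false
set_option maxHeartbeats 1000000

universe u

open CategoryTheory CategoryTheory.Limits AlgebraicGeometry TopologicalSpace Opposite
open CategoryTheory.Abelian (Ext)
open QCohLib (toAbF)
open KFlatLib (puSec puSecLE)

namespace CohCmpLib

variable {X Y : Scheme.{u}}

variable (g : X ⟶ Y)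

theorem theta_adj (M : Y.Modules) :
    (CohPull.invPushAdj g.base).homEquiv _ _ (CohPull.theta g M) =
      (toAbF Y).map ((Scheme.Modules.pullbackPushforwardAdjunction g).unit.app M) :=
  Equiv.apply_symm_apply _ _

theorem theta_natural {M N : Y.Modules} (φ : M ⟶ N) :
    (CohPull.inv g.base).map ((toAbF Y).map φ) ≫ CohPull.theta g N =
      CohPull.theta g M ≫ (toAbF X).map ((Scheme.Modules.pullback g).map φ) := by
  apply ((CohPull.invPushAdj g.base).homEquiv _ _).injective
  refine ((CohPull.invPushAdj g.base).homEquiv_naturality_left _ _).trans ((congrArg (_ ≫ ·) (theta_adj g N)).trans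
    (Eq.trans ?_ (((CohPull.invPushAdj g.base).homEquiv_naturality_right _ _).trans
      (congrArg (· ≫ _) (theta_adj g M))).symm))
  exact congrArg (fun t => (toAbF Y).map t)
    ((Scheme.Modules.pullbackPushforwardAdjunction g).unit.naturality φ)

theorem pullMod_natural {M N : Y.Modules} (φ : M ⟶ N) (p : ℕ) (x : Coh.HH Y M p) :
    CohPull.mapH ((Scheme.Modules.pullback g).map φ) p (CohPull.pullMod g M p x) =
      CohPull.pullMod g N p (CohPull.mapH φ p x) := by
  change (((Ext.mk₀ (CohPull.oneTo g.base)).comp (Ext.mapExactFunctor (CohPull.inv g.base) x) (zero_add p)).comp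
      (Ext.mk₀ (CohPull.theta g M)) (add_zero p)).comp
        (Ext.mk₀ ((toAbF X).map ((Scheme.Modules.pullback g).map φ))) (add_zero p) =
    ((Ext.mk₀ (CohPull.oneTo g.base)).comp
      (Ext.mapExactFunctor (CohPull.inv g.base) (x.comp (Ext.mk₀ ((toAbF Y).map φ)) (add_zero p)))
        (zero_add p)).comp (Ext.mk₀ (CohPull.theta g N)) (add_zero p)
  rw [Ext.mapExactFunctor_comp, Ext.mapExactFunctor_mk₀, Ext.comp_assoc_of_second_deg_zero,
    Ext.mk₀_comp_mk₀, ← theta_natural, ← Ext.mk₀_comp_mk₀, ← Ext.comp_assoc_of_second_deg_zero,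
    ← Ext.comp_assoc_of_third_deg_zero]

/-- `theta` on a short complex. -/
noncomputable def thetaSeq (S : ShortComplex Y.Modules) :
    ((S.map (toAbF Y)).map (CohPull.inv g.base) : ShortComplex (QCohLib.AbSh X.toTopCat)) ⟶
      ((S.map (Scheme.Modules.pullback g)).map (toAbF X) : ShortComplex (QCohLib.AbSh X.toTopCat)) :=
  ShortComplex.homMk (CohPull.theta g S.X₁) (CohPull.theta g S.X₂) (CohPull.theta g S.X₃)
    (theta_natural g S.f).symm (theta_natural g S.g).symm

theorem pullMod_delta {S : ShortComplex Y.Modules} (hS : S.ShortExact)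
    (hS' : (S.map (Scheme.Modules.pullback g)).ShortExact) (p : ℕ) (x : Coh.HH Y S.X₃ p) :
    CohPull.pullMod g S.X₁ (p + 1) (AtlasCoh.hδ (QCohLib.toAbF_shortExact hS) p x) =
      AtlasCoh.hδ (QCohLib.toAbF_shortExact hS') p (CohPull.pullMod g S.X₃ p x) := by
  have h1 := (QCohLib.toAbF_shortExact hS).map_of_exact (CohPull.inv g.base)
  refine Eq.trans ?_ (hδ_map h1 (QCohLib.toAbF_shortExact hS') (thetaSeq g S) p _).symm
  refine congrArg (Sheaf.H.map (CohPull.theta g S.X₁) (p + 1)) ?_
  change (Ext.mk₀ (CohPull.oneTo g.base)).comp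
      (Ext.mapExactFunctor (CohPull.inv g.base) (x.comp (QCohLib.toAbF_shortExact hS).extClass rfl))
      (zero_add (p + 1)) =
    ((Ext.mk₀ (CohPull.oneTo g.base)).comp (Ext.mapExactFunctor (CohPull.inv g.base) x) (zero_add p)).comp
      h1.extClass rfl
  refine (congrArg (fun t => (Ext.mk₀ (CohPull.oneTo g.base)).comp t (zero_add (p + 1)))
    ((Ext.mapExactFunctor_comp (F := CohPull.inv g.base) x (QCohLib.toAbF_shortExact hS).extClass rfl).trans
      (congrArg (fun t => Ext.comp (Ext.mapExactFunctor (CohPull.inv g.base) x) t (rfl : p + 1 = p + 1))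
        (Ext.mapExactFunctor_extClass (F := CohPull.inv g.base) (QCohLib.toAbF_shortExact hS))))).trans ?_
  exact (Ext.comp_assoc _ _ _ (zero_add p) rfl (by simp)).symm

theorem smulAb_theta (M : Y.Modules) (r : Coh.Γtop Y) :
    (CohPull.inv g.base).map (Coh.smulAb M r) ≫ CohPull.theta g M =
      CohPull.theta g M ≫ Coh.smulAb ((Scheme.Modules.pullback g).obj M) (show Coh.Γtop X from g.appTop r) := by
  apply ((CohPull.invPushAdj g.base).homEquiv _ _).injective
  refine ((CohPull.invPushAdj g.base).homEquiv_naturality_left _ _).trans ((congrArg (_ ≫ ·) (theta_adj g M)).trans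
    (Eq.trans ?_ (((CohPull.invPushAdj g.base).homEquiv_naturality_right _ _).trans
      (congrArg (· ≫ _) (theta_adj g M))).symm))
  ext V m
  change ((Scheme.Modules.pullbackPushforwardAdjunction g).unit.app M).app V.unop
      ((show Γ(Y, V.unop) from Coh.resTop Y V r) • (show Γ(M, V.unop) from m)) =
    (show Γ(X, g ⁻¹ᵁ V.unop) from Coh.resTop X (op (g ⁻¹ᵁ V.unop)) (g.appTop r)) •
      (show Γ((Scheme.Modules.pullback g).obj M, g ⁻¹ᵁ V.unop) from
        ((Scheme.Modules.pullbackPushforwardAdjunction g).unit.app M).app V.unop m)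
  refine (Scheme.Modules.Hom.app_smul _ _ _).trans ?_
  refine congrArg (fun a : Γ(X, g ⁻¹ᵁ V.unop) => a •
    (show Γ((Scheme.Modules.pullback g).obj M, g ⁻¹ᵁ V.unop) from
      ((Scheme.Modules.pullbackPushforwardAdjunction g).unit.app M).app V.unop m)) ?_
  exact congr($(g.naturality (homOfLE le_top : V.unop ⟶ ⊤).op) r)

theorem pullMod_smul (M : Y.Modules) (p : ℕ) (r : Coh.Γtop Y) (x : Coh.HH Y M p) :
    CohPull.pullMod g M p (r • x) = (show Coh.Γtop X from g.appTop r) • CohPull.pullMod g M p x := by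
  change ((Ext.mk₀ (CohPull.oneTo g.base)).comp
      (Ext.mapExactFunctor (CohPull.inv g.base) (x.comp (Ext.mk₀ (Coh.smulAb M r)) (add_zero p)))
        (zero_add p)).comp (Ext.mk₀ (CohPull.theta g M)) (add_zero p) =
    (((Ext.mk₀ (CohPull.oneTo g.base)).comp (Ext.mapExactFunctor (CohPull.inv g.base) x) (zero_add p)).comp
      (Ext.mk₀ (CohPull.theta g M)) (add_zero p)).comp
        (Ext.mk₀ (Coh.smulAb ((Scheme.Modules.pullback g).obj M) (g.appTop r))) (add_zero p)
  rw [Ext.mapExactFunctor_comp, Ext.mapExactFunctor_mk₀, Ext.comp_assoc_of_second_deg_zero,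
    Ext.mk₀_comp_mk₀, ← smulAb_theta, ← Ext.mk₀_comp_mk₀, ← Ext.comp_assoc_of_second_deg_zero,
    ← Ext.comp_assoc_of_third_deg_zero]

theorem hp_natural {M N : Y.Modules} (φ : M ⟶ N) (p : ℕ) (x : HC Y M p) :
    hm ((Scheme.Modules.pullback g).map φ) p (hp g M p x) = hp g N p (hm φ p x) :=
  pullMod_natural g φ p x

theorem hp_hd {S : ShortComplex Y.Modules} (hS : S.ShortExact)
    (hS' : (S.map (Scheme.Modules.pullback g)).ShortExact) (p : ℕ) (x : HC Y S.X₃ p) :
    hp g S.X₁ (p + 1) (hd hS p x) = hd hS' p (hp g S.X₃ p x) :=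
  pullMod_delta g hS hS' p x

theorem hp_hs (M : Y.Modules) (p : ℕ) (r : Coh.Γtop Y) (x : HC Y M p) :
    hp g M p (hs r M p x) = hs (show Coh.Γtop X from g.appTop r) _ p (hp g M p x) :=
  pullMod_smul g M p r x

theorem h0E_hp (M : Y.Modules) (s : HC Y M 0) : h0E _ (hp g M 0 s) = puSec g (h0E M s) :=
  CohPull.equiv₀_pullMod g M s

section On

variable {U : Y.Opens} {U' : X.Opens} (h : U' ≤ g ⁻¹ᵁ U)

/-- The pieces of `pullOnIso`. -/
noncomputable def pullOnAux :
    Scheme.Modules.restrictFunctor U.ι ⋙ Scheme.Modules.pullback (g.resLE U U' h) ≅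
      Scheme.Modules.pullback g ⋙ Scheme.Modules.restrictFunctor U'.ι :=
  Functor.isoWhiskerRight (Scheme.Modules.restrictFunctorIsoPullback U.ι) _ ≪≫
    Scheme.Modules.pullbackComp (g.resLE U U' h) U.ι ≪≫
    Scheme.Modules.pullbackCongr (Scheme.Hom.resLE_comp_ι g h) ≪≫
    (Scheme.Modules.pullbackComp U'.ι g).symm ≪≫
    Functor.isoWhiskerLeft _ (Scheme.Modules.restrictFunctorIsoPullback U'.ι).symm

/-- `pullOnIso`, naturally in the module. -/
noncomputable def pullOnNat :
    Scheme.Modules.restrictFunctor U.ι ⋙ Scheme.Modules.pullback (g.resLE U U' h) ≅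
      Scheme.Modules.pullback g ⋙ Scheme.Modules.restrictFunctor U'.ι :=
  NatIso.ofComponents (fun F => CohPull.pullOnIso g U U' h F) fun φ =>
    (pullOnAux g h).hom.naturality φ

theorem hpo_apply (F : Y.Modules) (p : ℕ) (x : HCo F U p) :
    hpo g h F p x = hm (CohPull.pullOnIso g U U' h F).hom p
      (hp (g.resLE U U' h) (F.restrict U.ι) p x) := rfl

theorem hpo_natural {M N : Y.Modules} (φ : M ⟶ N) (p : ℕ) (x : HCo M U p) :
    hm ((Scheme.Modules.restrictFunctor U'.ι).map ((Scheme.Modules.pullback g).map φ)) p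
      (hpo g h M p x) =
      hpo g h N p (hm ((Scheme.Modules.restrictFunctor U.ι).map φ) p x) := by
  rw [hpo_apply, hpo_apply, ← hm_comp, ← hp_natural, ← hm_comp]
  exact congrArg (fun t => hm t p _) ((pullOnNat g h).hom.naturality φ).symm

theorem hpo_hd {S : ShortComplex Y.Modules}
    (hS : (S.map (Scheme.Modules.restrictFunctor U.ι)).ShortExact)
    (hS' : ((S.map (Scheme.Modules.pullback g)).map (Scheme.Modules.restrictFunctor U'.ι)).ShortExact)
    (p : ℕ) (x : HCo S.X₃ U p) :
    hpo g h S.X₁ (p + 1) (hd hS p x) = hd hS' p (hpo g h S.X₃ p x) := by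
  have h1 : ((S.map (Scheme.Modules.restrictFunctor U.ι)).map
      (Scheme.Modules.pullback (g.resLE U U' h))).ShortExact :=
    ShortComplex.shortExact_of_iso (S.mapNatIso (pullOnNat g h)).symm hS'
  rw [hpo_apply, hpo_apply]
  refine (congrArg (hm (CohPull.pullOnIso g U U' h S.X₁).hom (p + 1))
    (hp_hd (g.resLE U U' h) hS h1 p x)).trans ?_
  exact (hd_natural h1 hS' (S.mapNatTrans (pullOnNat g h).hom) p _).symm

theorem hpo_hs (M : Y.Modules) (p : ℕ) (r : Coh.Γtop (U : Scheme.{u})) (x : HCo M U p) :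
    hpo g h M p (hs r _ p x) =
      hs (show Coh.Γtop (U' : Scheme.{u}) from (g.resLE U U' h).appTop r) _ p (hpo g h M p x) := by
  rw [hpo_apply, hpo_apply, hp_hs, hm_hs]

end On

end CohCmpLib
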