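import Groth.Agent.CohCmpLib.PullZero

/-! The pullback on cohomology is functorial in the morphism. -/

set_option autoImplicit false
set_option maxHeartbeats 1000000

universe u

open CategoryTheory CategoryTheory.Limits AlgebraicGeometry TopologicalSpace Opposite
open CategoryTheory.Abelian (Ext)
open QCohLib (toAbF)
open KFlatLib (puSec puSecLE)

namespace CohCmpLib

section Top

variable {X Y Z : TopCat.{u}}

theorem pullAb_natural (f : X ⟶ Y) {M N : CohTop.Ab Y} (φ : M ⟶ N) (p : ℕ) (x : Sheaf.H M p) :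
    CohPull.pullAb f N p (Sheaf.H.map φ p x) =
      Sheaf.H.map ((CohPull.inv f).map φ) p (CohPull.pullAb f M p x) := by
  change (Ext.mk₀ (CohPull.oneTo f)).comp
      (Ext.mapExactFunctor (CohPull.inv f) (Ext.comp x (Ext.mk₀ φ) (add_zero p))) (zero_add p) =
    ((Ext.mk₀ (CohPull.oneTo f)).comp (Ext.mapExactFunctor (CohPull.inv f) x) (zero_add p)).comp
      (Ext.mk₀ ((CohPull.inv f).map φ)) (add_zero p)
  rw [Ext.mapExactFunctor_comp, Ext.mapExactFunctor_mk₀, Ext.comp_assoc_of_third_deg_zero]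

/-- The connecting map on a space. -/
noncomputable abbrev hdA {S : ShortComplex (CohTop.Ab X)} (hS : S.ShortExact) (p : ℕ) :
    Sheaf.H S.X₃ p →+ Sheaf.H S.X₁ (p + 1) :=
  hS.extClass.postcomp _ rfl

theorem hdA_map {S T : ShortComplex (CohTop.Ab X)} (hS : S.ShortExact) (hT : T.ShortExact)
    (φ : S ⟶ T) (p : ℕ) (x : Sheaf.H S.X₃ p) :
    hdA hT p (Sheaf.H.map φ.τ₃ p x) = Sheaf.H.map φ.τ₁ (p + 1) (hdA hS p x) := by
  change (Ext.comp x (Ext.mk₀ φ.τ₃) (add_zero p)).comp hT.extClass rfl =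
    (Ext.comp x hS.extClass rfl).comp (Ext.mk₀ φ.τ₁) (add_zero (p + 1))
  rw [Ext.comp_assoc_of_second_deg_zero, ← ShortComplex.ShortExact.extClass_naturality hS hT φ,
    Ext.comp_assoc_of_third_deg_zero]

theorem pullAb_delta (f : X ⟶ Y) {S : ShortComplex (CohTop.Ab Y)} (hS : S.ShortExact)
    (p : ℕ) (x : Sheaf.H S.X₃ p) :
    CohPull.pullAb f S.X₁ (p + 1) (hdA hS p x) =
      hdA (hS.map_of_exact (CohPull.inv f)) p (CohPull.pullAb f S.X₃ p x) := by
  change (Ext.mk₀ (CohPull.oneTo f)).comp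
      (Ext.mapExactFunctor (CohPull.inv f) (Ext.comp x hS.extClass rfl)) (zero_add (p + 1)) =
    ((Ext.mk₀ (CohPull.oneTo f)).comp (Ext.mapExactFunctor (CohPull.inv f) x) (zero_add p)).comp
      (hS.map_of_exact (CohPull.inv f)).extClass rfl
  rw [Ext.mapExactFunctor_comp, Ext.mapExactFunctor_extClass]
  exact (Ext.comp_assoc _ _ _ (zero_add p) rfl (by simp)).symm

variable (k : X ⟶ Y) (h : Y ⟶ Z)

/-- The comparison of iterated inverse images. -/
noncomputable def compTo (M : CohTop.Ab Z) :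
    (CohPull.inv (k ≫ h)).obj M ⟶ (CohPull.inv k).obj ((CohPull.inv h).obj M) :=
  ((CohPull.invPushAdj (k ≫ h)).homEquiv _ _).symm
    ((CohPull.invPushAdj h).unit.app M ≫
      (CohTop.push h).map ((CohPull.invPushAdj k).unit.app ((CohPull.inv h).obj M)))

theorem compTo_adj (M : CohTop.Ab Z) :
    (CohPull.invPushAdj (k ≫ h)).homEquiv _ _ (compTo k h M) =
      (CohPull.invPushAdj h).unit.app M ≫
        (CohTop.push h).map ((CohPull.invPushAdj k).unit.app ((CohPull.inv h).obj M)) :=
  Equiv.apply_symm_apply _ _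

theorem compTo_natural {M N : CohTop.Ab Z} (φ : M ⟶ N) :
    (CohPull.inv (k ≫ h)).map φ ≫ compTo k h N =
      compTo k h M ≫ (CohPull.inv k).map ((CohPull.inv h).map φ) := by
  apply ((CohPull.invPushAdj (k ≫ h)).homEquiv _ _).injective
  refine ((CohPull.invPushAdj (k ≫ h)).homEquiv_naturality_left _ _).trans
    ((congrArg (φ ≫ ·) (compTo_adj k h N)).trans (Eq.trans ?_
      (((CohPull.invPushAdj (k ≫ h)).homEquiv_naturality_right _ _).trans
        (congrArg (· ≫ _) (compTo_adj k h M))).symm))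
  refine ((Category.assoc _ _ _).symm.trans (congrArg (· ≫ _) ((CohPull.invPushAdj h).unit.naturality φ))).trans ?_
  refine (Category.assoc _ _ _).trans (Eq.trans ?_ (Category.assoc _ _ _).symm)
  refine congrArg ((CohPull.invPushAdj h).unit.app M ≫ ·) ?_
  exact ((CohTop.push h).map_comp _ _).symm.trans ((congrArg (CohTop.push h).map
    ((CohPull.invPushAdj k).unit.naturality ((CohPull.inv h).map φ))).trans ((CohTop.push h).map_comp _ _))

theorem compTo_unit (M : CohTop.Ab Z) (V : Opens Z) (m : M.obj.obj (op V)) :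
    (compTo k h M).hom.app (op ((Opens.map (k ≫ h)).obj V))
        (((CohPull.invPushAdj (k ≫ h)).unit.app M).hom.app (op V) m) =
      ((CohPull.invPushAdj k).unit.app ((CohPull.inv h).obj M)).hom.app (op ((Opens.map h).obj V))
        (((CohPull.invPushAdj h).unit.app M).hom.app (op V) m) :=
  congr($(((CohPull.invPushAdj (k ≫ h)).homEquiv_unit _ _ _).symm.trans (compTo_adj k h M)).hom.app (op V) m)

theorem pullAb_comp (p : ℕ) (M : CohTop.Ab Z) (x : Sheaf.H M p) :
    Sheaf.H.map (compTo k h M) p (CohPull.pullAb (k ≫ h) M p x) =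
      CohPull.pullAb k _ p (CohPull.pullAb h M p x) := by
  induction p generalizing M with
  | zero =>
    apply (Sheaf.H.equiv₀ ((CohPull.inv k).obj ((CohPull.inv h).obj M)) isTerminalTop).injective
    rw [← Sheaf.H.equiv₀_naturality, CohPull.equiv₀_pullAb, CohPull.equiv₀_pullAb, CohPull.equiv₀_pullAb]
    exact compTo_unit k h M ⊤ _
  | succ p ih =>
    let M' : CohTop.Ab Z := M
    let S : ShortComplex (CohTop.Ab Z) :=
      ShortComplex.mk (Injective.ι M') (cokernel.π _) (cokernel.condition _)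
    have hS : S.ShortExact := {
      exact := ShortComplex.exact_cokernel _
      mono_f := (inferInstance : Mono (Injective.ι M'))
      epi_g := (inferInstance : Epi (cokernel.π (Injective.ι M'))) }
    have : Injective S.X₂ := (inferInstance : Injective (Injective.under M'))
    obtain ⟨z, rfl⟩ := Ext.covariant_sequence_exact₁ _ hS (x : Sheaf.H M (p + 1))
      (Ext.eq_zero_of_injective _) rfl
    have e1 := pullAb_delta (k ≫ h) hS p z
    have e2 := pullAb_delta h hS p z
    have e3 := pullAb_delta k (hS.map_of_exact (CohPull.inv h)) p (CohPull.pullAb h S.X₃ p z)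
    let τ : S.map (CohPull.inv (k ≫ h)) ⟶ (S.map (CohPull.inv h)).map (CohPull.inv k) :=
      ShortComplex.homMk (compTo k h S.X₁) (compTo k h S.X₂) (compTo k h S.X₃)
        (compTo_natural k h S.f).symm (compTo_natural k h S.g).symm
    refine (congrArg (Sheaf.H.map (compTo k h S.X₁) (p + 1)) e1).trans ?_
    refine (hdA_map (hS.map_of_exact (CohPull.inv (k ≫ h)))
      ((hS.map_of_exact (CohPull.inv h)).map_of_exact (CohPull.inv k)) τ p _).symm.trans ?_
    refine (congrArg _ (ih S.X₃ z)).trans (e3.symm.trans ?_)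
    exact congrArg (CohPull.pullAb k _ (p + 1)) e2.symm

end Top

section Mod

variable {X Y Z : Scheme.{u}}

theorem theta_unit (g : X ⟶ Y) (M : Y.Modules) (V : Y.Opens) (m : Γ(M, V)) :
    (CohPull.theta g M).hom.app (op (g ⁻¹ᵁ V))
        (((CohPull.invPushAdj g.base).unit.app (Coh.toAb M)).hom.app (op V) m) = puSec g m :=
  congr($(((CohPull.invPushAdj g.base).homEquiv_unit _ _ _).symm.trans (theta_adj g M)).hom.app (op V) m)

theorem theta_comp (k : X ⟶ Y) (h : Y ⟶ Z) (L : Z.Modules) :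
    compTo k.base h.base (Coh.toAb L) ≫ (CohPull.inv k.base).map (CohPull.theta h L) ≫
        CohPull.theta k ((Scheme.Modules.pullback h).obj L) ≫
          (toAbF X).map ((Scheme.Modules.pullbackComp k h).hom.app L) =
      CohPull.theta (k ≫ h) L := by
  apply ((CohPull.invPushAdj (k ≫ h).base).homEquiv _ _).injective
  refine ((CohPull.invPushAdj (k ≫ h).base).homEquiv_unit _ _ _).trans (Eq.trans ?_
    ((CohPull.invPushAdj (k ≫ h).base).homEquiv_unit _ _ _).symm)
  ext V m
  obtain ⟨V⟩ := V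
  refine Eq.trans ?_ (theta_unit (k ≫ h) L V m).symm
  refine Eq.trans ?_ (pullbackComp_puSec k h L m)
  refine congrArg (((Scheme.Modules.pullbackComp k h).hom.app L).app (k ⁻¹ᵁ (h ⁻¹ᵁ V))) ?_
  refine Eq.trans ?_ (theta_unit k _ (h ⁻¹ᵁ V) _)
  refine congrArg ((CohPull.theta k ((Scheme.Modules.pullback h).obj L)).hom.app (op (k ⁻¹ᵁ (h ⁻¹ᵁ V)))) ?_
  refine (congrArg (((CohPull.inv k.base).map (CohPull.theta h L)).hom.app (op (k ⁻¹ᵁ (h ⁻¹ᵁ V))))
    (compTo_unit k.base h.base (Coh.toAb L) V m)).trans ?_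
  refine Eq.trans ?_ (congrArg (((CohPull.invPushAdj k.base).unit.app _).hom.app (op (h ⁻¹ᵁ V)))
    (theta_unit h L V m))
  exact congr($((CohPull.invPushAdj k.base).unit.naturality (CohPull.theta h L)).hom.app (op (h ⁻¹ᵁ V))
    (((CohPull.invPushAdj h.base).unit.app (Coh.toAb L)).hom.app (op V) m)).symm

/-- Pullback of classes composes. -/
theorem hp_hp (k : X ⟶ Y) (h : Y ⟶ Z) (L : Z.Modules) (p : ℕ) (x : HC Z L p) :
    hm ((Scheme.Modules.pullbackComp k h).hom.app L) p (hp k _ p (hp h L p x)) = hp (k ≫ h) L p x := by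
  change Sheaf.H.map ((toAbF X).map ((Scheme.Modules.pullbackComp k h).hom.app L)) p
      (Sheaf.H.map (CohPull.theta k _) p (CohPull.pullAb k.base _ p
        (Sheaf.H.map (CohPull.theta h L) p (CohPull.pullAb h.base _ p x)))) =
    Sheaf.H.map (CohPull.theta (k ≫ h) L) p (CohPull.pullAb (k ≫ h).base _ p x)
  rw [pullAb_natural, ← theta_comp k h L]
  refine Eq.trans ?_ ((Sheaf.H.map_comp_apply _ _ _).trans ((Sheaf.H.map_comp_apply _ _ _).trans
    (Sheaf.H.map_comp_apply _ _ _))).symm
  exact congrArg (fun t => Sheaf.H.map ((toAbF X).map ((Scheme.Modules.pullbackComp k h).hom.app L)) p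
    (Sheaf.H.map (CohPull.theta k _) p (Sheaf.H.map ((CohPull.inv k.base).map (CohPull.theta h L)) p t)))
      (pullAb_comp k.base h.base p _ x).symm

end Mod

end CohCmpLib
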