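import Groth.Agent.CohCmpLib.Omega
import Groth.Agent.CohCmpLib.PuSec
import Groth.Agent.CohCmpLib.Hm

/-! Comparison in towers of base changes. -/

set_option autoImplicit false
set_option maxHeartbeats 1000000

universe u

open CategoryTheory CategoryTheory.Limits AlgebraicGeometry TopologicalSpace Opposite TensorProduct
open RpushLib (secFun)
open CohBCLib (secA HA)
open FlatCxLib (Hm)
open KFlatLib (puSec puSecLE)

namespace CohCmpLib

section Alg

variable {R B B' : Type u} [CommRing R] [CommRing B] [CommRing B'] [Algebra R B] [Algebra R B'] [Algebra B B']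
  [IsScalarTower R B B']

/-- The transition map on one term. -/
noncomputable def towV (R B B' : Type u) [CommRing R] [CommRing B] [CommRing B'] [Algebra R B] [Algebra R B']
    [Algebra B B'] [IsScalarTower R B B'] (V : Type u) [AddCommGroup V] [Module R V] :
    B ⊗[R] V →ₗ[B] B' ⊗[R] V :=
  TensorProduct.AlgebraTensorModule.map (Algebra.linearMap B B') LinearMap.id

theorem towV_tmul {V : Type u} [AddCommGroup V] [Module R V] (b : B) (v : V) :
    towV R B B' V (b ⊗ₜ v) = algebraMap B B' b ⊗ₜ v := rfl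

theorem towV_baseChange {V W : Type u} [AddCommGroup V] [Module R V] [AddCommGroup W] [Module R W]
    (φ : V →ₗ[R] W) (x : B ⊗[R] V) :
    φ.baseChange B' (towV R B B' V x) = towV R B B' W (φ.baseChange B x) := by
  induction x using TensorProduct.induction_on with
  | zero => simp
  | tmul b v => simp [towV_tmul]
  | add x y hx hy => simp only [map_add, hx, hy]

variable {U V W : Type u} [AddCommGroup U] [Module R U] [AddCommGroup V] [Module R V] [AddCommGroup W]
  [Module R W] (a : U →ₗ[R] V) (b : V →ₗ[R] W)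

theorem towV_mem (z : LinearMap.ker (b.baseChange B)) :
    towV R B B' V z.1 ∈ LinearMap.ker (b.baseChange B') := by
  rw [LinearMap.mem_ker, towV_baseChange, LinearMap.mem_ker.1 z.2, map_zero]

/-- The transition map on cycles. -/
noncomputable def towKer :
    LinearMap.ker (b.baseChange B) →ₗ[B] Hm (a.baseChange B') (b.baseChange B') where
  toFun z := Submodule.Quotient.mk ⟨_, towV_mem b z⟩
  map_add' y z := by
    rw [← Submodule.Quotient.mk_add]
    exact congrArg Submodule.Quotient.mk (Subtype.ext (map_add (towV R B B' V) y.1 z.1))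
  map_smul' r y := by
    rw [RingHom.id_apply, ← Submodule.Quotient.mk_smul]
    exact congrArg Submodule.Quotient.mk (Subtype.ext (map_smul (towV R B B' V) r y.1))

/-- The transition map on homology. -/
noncomputable def towHm :
    Hm (a.baseChange B) (b.baseChange B) →ₗ[B] Hm (a.baseChange B') (b.baseChange B') :=
  Submodule.liftQ _ (towKer a b) fun z hz => by
    obtain ⟨x, hx⟩ := hz
    refine LinearMap.mem_ker.2 ((Submodule.Quotient.mk_eq_zero _).2 ⟨towV R B B' U x, ?_⟩)
    change a.baseChange B' (towV R B B' U x) = towV R B B' V z.1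
    rw [towV_baseChange, hx]
    rfl

theorem towHm_mk (z : LinearMap.ker (b.baseChange B)) :
    towHm (B' := B') a b (Submodule.Quotient.mk z) = Submodule.Quotient.mk ⟨_, towV_mem b z⟩ :=
  Submodule.liftQ_apply _ _ _

/-- Double base change of homology. -/
noncomputable def towEquiv :
    Hm ((a.baseChange B).baseChange B') ((b.baseChange B).baseChange B') ≃ₗ[B']
      Hm (a.baseChange B') (b.baseChange B') :=
  FlatCxLib.hmCongr (TensorProduct.AlgebraTensorModule.cancelBaseChange R B B' B' U)
    (TensorProduct.AlgebraTensorModule.cancelBaseChange R B B' B' V)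
    (TensorProduct.AlgebraTensorModule.cancelBaseChange R B B' B' W)
    (fun x => FlatCxLib.cancelBaseChange_baseChange B B' a x)
    (fun x => FlatCxLib.cancelBaseChange_baseChange B B' b x)

theorem towEquiv_canHm (x : Hm (a.baseChange B) (b.baseChange B)) (t : B') :
    towEquiv a b (canHm (a.baseChange B) (b.baseChange B) B' (t ⊗ₜ x)) = t • towHm a b x := by
  obtain ⟨z, rfl⟩ := Submodule.Quotient.mk_surjective _ x
  rw [canHm, LinearMap.liftBaseChange_tmul, map_smul, pullHm_mk, towHm_mk]
  congr 1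
  refine congrArg Submodule.Quotient.mk (Subtype.ext ?_)
  change TensorProduct.AlgebraTensorModule.cancelBaseChange R B B' B' V ((1 : B') ⊗ₜ z.1) = towV R B B' V z.1
  induction z.1 using TensorProduct.induction_on with
  | zero => simp
  | tmul c v => simp [towV_tmul, Algebra.smul_def]
  | add x y hx hy => simp only [TensorProduct.tmul_add, map_add, hx, hy]

theorem bijective_tow_iff :
    Function.Bijective (LinearMap.liftBaseChange B' (towHm (B := B) (B' := B') a b)) ↔
      Function.Bijective (canHm (a.baseChange B) (b.baseChange B) B') := by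
  have e : LinearMap.liftBaseChange B' (towHm (B := B) (B' := B') a b) =
      (towEquiv a b).toLinearMap ∘ₗ canHm (a.baseChange B) (b.baseChange B) B' := by
    refine TensorProduct.AlgebraTensorModule.ext fun t x => ?_
    rw [LinearMap.liftBaseChange_tmul]
    exact (towEquiv_canHm a b x t).symm
  rw [e, LinearMap.coe_comp, LinearEquiv.coe_coe]
  exact Function.Bijective.of_comp_iff' (towEquiv a b).bijective _

theorem surjective_tow_iff :
    Function.Surjective (LinearMap.liftBaseChange B' (towHm (B := B) (B' := B') a b)) ↔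
      Function.Surjective (canHm (a.baseChange B) (b.baseChange B) B') := by
  have e : LinearMap.liftBaseChange B' (towHm (B := B) (B' := B') a b) =
      (towEquiv a b).toLinearMap ∘ₗ canHm (a.baseChange B) (b.baseChange B) B' := by
    refine TensorProduct.AlgebraTensorModule.ext fun t x => ?_
    rw [LinearMap.liftBaseChange_tmul]
    exact (towEquiv_canHm a b x t).symm
  rw [e, LinearMap.coe_comp, LinearEquiv.coe_coe]
  exact EquivLike.comp_surjective _ (towEquiv a b)

end Alg

section Geom

variable {R B B' : Type u} [CommRing R] [CommRing B] [CommRing B'] [Algebra R B] [Algebra R B'] [Algebra B B']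
  [IsScalarTower R B B'] {X X' X'' : Scheme.{u}}
  {f : X ⟶ Spec (CommRingCat.of R)} {f' : X' ⟶ Spec (CommRingCat.of B)}
  {f'' : X'' ⟶ Spec (CommRingCat.of B')} {h : X' ⟶ X} {k : X'' ⟶ X'}
  (H : IsPullback h f' f (Spec.map (CommRingCat.ofHom (algebraMap R B))))
  (H' : IsPullback k f'' f' (Spec.map (CommRingCat.ofHom (algebraMap B B'))))
  (H'' : IsPullback (k ≫ h) f'' f (Spec.map (CommRingCat.ofHom (algebraMap R B'))))
  (c : Ch X) (hgood : ∀ q, Good f (c.C q))

/-- The comparison morphism of twice pulled back chains. -/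
noncomputable def compHom (k : X'' ⟶ X') (h : X' ⟶ X) (c : Ch X) :
    Ch.Hom ((c.pull h).pull k) (c.pull (k ≫ h)) where
  z q := (Scheme.Modules.pullbackComp k h).hom.app (c.Z q)
  m q := (Scheme.Modules.pullbackComp k h).hom.app (c.C q)
  hs q := ((Scheme.Modules.pullbackComp k h).hom.naturality (c.s q)).symm
  hπ q := ((Scheme.Modules.pullbackComp k h).hom.naturality (c.π q)).symm

include H' in
theorem secA_tow {V : X'.Opens} {U : X''.Opens} (hU : U ≤ k ⁻¹ᵁ V) (b : B) :
    k.appLE V U hU (secA f' V b) = secA f'' U (algebraMap B B' b) :=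
  CohBCLib.secA_bc H' V U hU b

include H' in
theorem push_smul_tow {P : X'.Modules} {Q : X''.Modules} (b : B) (y : Γ(P, ⊤))
    (φ : (Scheme.Modules.pullback k).obj P ⟶ Q) :
    φ.app ⊤ (puSecLE k P (le_top : ⊤ ≤ k ⁻¹ᵁ (⊤ : X'.Opens)) (secA f' ⊤ b • y)) =
      secA f'' ⊤ (algebraMap B B' b) • φ.app ⊤ (puSecLE k P (le_top : ⊤ ≤ k ⁻¹ᵁ (⊤ : X'.Opens)) y) := by
  refine (congrArg (φ.app ⊤) (KFlatLib.puSecLE_smul k P le_top (secA f' ⊤ b) y)).trans
    ((φ.app_smul _ _).trans ?_)
  rw [secA_tow H' (f'' := f'') (le_top : ⊤ ≤ k ⁻¹ᵁ (⊤ : X'.Opens)) b]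

include H' in
theorem ev_tow (M : X.Modules) (x : B ⊗[R] ((secFun ⊤ (secA f ⊤)).obj M : Type u)) :
    ((Scheme.Modules.pullbackComp k h).hom.app M).app ⊤
        (puSecLE k ((Scheme.Modules.pullback h).obj M) (le_top : ⊤ ≤ k ⁻¹ᵁ (⊤ : X'.Opens))
          (show Γ((Scheme.Modules.pullback h).obj M, ⊤) from ev H M x)) =
      (show Γ((Scheme.Modules.pullback (k ≫ h)).obj M, ⊤) from ev H'' M (towV R B B' _ x)) := by
  let P := (Scheme.Modules.pullback h).obj M
  let Q := (Scheme.Modules.pullback (k ≫ h)).obj M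
  let L : Γ(P, ⊤) →+ Γ(Q, ⊤) := (((Scheme.Modules.pullbackComp k h).hom.app M).app ⊤).hom.comp
    (puSecLE k P (U := (⊤ : X'.Opens)) (U' := (⊤ : X''.Opens)) le_top)
  change L (show Γ(P, ⊤) from ev H M x) = _
  induction x using TensorProduct.induction_on with
  | zero =>
    exact (congrArg L (map_zero (ev H M))).trans ((map_zero L).trans
      ((congrArg (ev H'' M) (map_zero (towV R B B' _))).trans (map_zero (ev H'' M))).symm)
  | tmul b m =>
    refine (congrArg L (ev_tmul H M b (show Γ(M, ⊤) from m))).trans (Eq.trans ?_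
      (ev_tmul H'' M (algebraMap B B' b) (show Γ(M, ⊤) from m)).symm)
    exact (push_smul_tow H' b (puSecLE h M (le_top : ⊤ ≤ h ⁻¹ᵁ (⊤ : X.Opens)) (show Γ(M, ⊤) from m))
      ((Scheme.Modules.pullbackComp k h).hom.app M)).trans
        (congrArg (secA f'' ⊤ (algebraMap B B' b) • ·) (pullbackComp_puSecLE k h M (show Γ(M, ⊤) from m) le_top le_top))
  | add x y hx hy =>
    refine (congrArg L (map_add (ev H M) x y)).trans ((map_add L _ _).trans ?_)
    exact (congrArg₂ (· + ·) hx hy).trans
      ((congrArg (ev H'' M) (map_add (towV R B B' _) x y)).trans (map_add (ev H'' M) _ _)).symm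

include H' in
/-- Pullback of classes is the transition map of the complexes. -/
theorem hp_omega (p : ℕ) (hc' : (c.pull h).Exact) (hck : ((c.pull h).pull k).Exact)
    (hc'' : (c.pull (k ≫ h)).Exact) (x : HmKB (Kc f c) p B) :
    hm ((Scheme.Modules.pullbackComp k h).hom.app (c.Z 0)) p
        (hp k ((Scheme.Modules.pullback h).obj (c.Z 0)) p
          (show HC X' ((Scheme.Modules.pullback h).obj (c.Z 0)) p from omega H c hgood p hc' x)) =
      (show HC X'' ((Scheme.Modules.pullback (k ≫ h)).obj (c.Z 0)) p from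
        omega H'' c hgood p hc'' (towHm _ _ x)) := by
  obtain ⟨z, rfl⟩ := Submodule.Quotient.mk_surjective _ x
  obtain ⟨w, hw⟩ : ∃ w : Γ((Scheme.Modules.pullback h).obj (c.Z p), ⊤),
      ((Scheme.Modules.pullback h).map (c.s p)).app ⊤ w =
        (show Γ((Scheme.Modules.pullback h).obj (c.C p), ⊤) from evEquiv H c hgood p z.1) := by
    have hz : ((Kc f' (c.pull h)).d p (p + 1)).hom (evEquiv H c hgood p z.1) = 0 := by
      rw [← evEquiv_d, LinearMap.mem_ker.1 z.2, map_zero]
    obtain ⟨w, hw⟩ := (sigmaLin_bijective f' (c.pull h) p hc').2 ⟨_, LinearMap.mem_ker.2 hz⟩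
    exact ⟨w, congrArg Subtype.val hw⟩
  rw [omega_mk H c hgood p hc' z w hw, towHm_mk]
  refine (congrArg (hm _ p) (thd_hp k p (c.pull h) hc' hck w)).trans ?_
  refine (thd_natural p (compHom k h c) hck hc'' _).trans (omega_mk H'' c hgood p hc'' _ _ ?_).symm
  refine Eq.trans ?_ ((congrArg (fun t => ((Scheme.Modules.pullbackComp k h).hom.app (c.C p)).app ⊤
    (puSecLE k ((Scheme.Modules.pullback h).obj (c.C p)) (le_top : ⊤ ≤ k ⁻¹ᵁ (⊤ : X'.Opens)) t)) hw).trans
      (ev_tow H H' H'' (c.C p) z.1))
  have e1 : puSecLE k ((Scheme.Modules.pullback h).obj (c.C p)) (le_top : ⊤ ≤ k ⁻¹ᵁ (⊤ : X'.Opens))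
      (((Scheme.Modules.pullback h).map (c.s p)).app ⊤ w) =
      ((Scheme.Modules.pullback k).map ((Scheme.Modules.pullback h).map (c.s p))).app ⊤
        (puSecLE k ((Scheme.Modules.pullback h).obj (c.Z p)) (le_top : ⊤ ≤ k ⁻¹ᵁ (⊤ : X'.Opens)) w) := by
    refine Eq.trans ?_ (QCohLib.app_map ((Scheme.Modules.pullback k).map ((Scheme.Modules.pullback h).map (c.s p)))
      (homOfLE le_top) _).symm
    exact congrArg _ congr(Scheme.Modules.Hom.app
      $((Scheme.Modules.pullbackPushforwardAdjunction k).unit.naturality ((Scheme.Modules.pullback h).map (c.s p))) ⊤ w)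
  rw [e1]
  exact congr(Scheme.Modules.Hom.app $((Scheme.Modules.pullbackComp k h).hom.naturality (c.s p)) ⊤
    (puSecLE k ((Scheme.Modules.pullback h).obj (c.Z p)) (le_top : ⊤ ≤ k ⁻¹ᵁ (⊤ : X'.Opens)) w)).symm

end Geom

end CohCmpLib
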